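import Groth.Agent.DepthLib.SmoothCons
import Mathlib

/-! # The smooth locus commutes with base change when the morphism or the base change is flat -/

set_option autoImplicit false
universe u

open TensorProduct CategoryTheory Limits AlgebraicGeometry Topology

namespace DepthLib

theorem mem_smoothLocus_baseChange_iff (R B R' : Type u) [CommRing R] [CommRing B] [Algebra R B] [CommRing R']
    [Algebra R R'] [Algebra.FinitePresentation R B] (hflat : Module.Flat R B ∨ Module.Flat R R')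
    (q' : PrimeSpectrum (R' ⊗[R] B)) :
    q' ∈ Algebra.smoothLocus R' (R' ⊗[R] B) ↔
      PrimeSpectrum.comap (Algebra.TensorProduct.includeRight : B →ₐ[R] R' ⊗[R] B).toRingHom q' ∈
        Algebra.smoothLocus R B := by
  rcases hflat with hB | hR'
  · rw [smoothLocus_eq_fibSmooth R' (R' ⊗[R] B), smoothLocus_eq_fibSmooth R B, fibSmooth_baseChange R B R']
    exact Iff.rfl
  · rw [smoothLocus_baseChange R B R']
    exact Iff.rfl

theorem mem_smoothLocus_baseChange_scheme {X S X' S' : Scheme.{u}} (f : X ⟶ S) (g : S' ⟶ S) (f' : X' ⟶ S')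
    (g' : X' ⟶ X) (h : IsPullback g' f' f g) [LocallyOfFinitePresentation f] [LocallyOfFinitePresentation f']
    (hflat : Flat f ∨ Flat g) (x' : X') : x' ∈ f'.smoothLocus ↔ g' x' ∈ f.smoothLocus := by
  obtain ⟨U, hU, hxU⟩ : ∃ U : S.Opens, IsAffineOpen U ∧ f (g' x') ∈ U := by
    obtain ⟨_, ⟨U, hU, rfl⟩, hxU, -⟩ :=
      S.isBasis_affineOpens.exists_subset_of_mem_open (Set.mem_univ (f (g' x'))) isOpen_univ
    exact ⟨U, hU, hxU⟩
  obtain ⟨V, hV, hxV, hVU⟩ : ∃ V : X.Opens, IsAffineOpen V ∧ g' x' ∈ V ∧ V ≤ f ⁻¹ᵁ U := by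
    obtain ⟨_, ⟨V, hV, rfl⟩, hxV, hVsub⟩ :=
      X.isBasis_affineOpens.exists_subset_of_mem_open (show g' x' ∈ f ⁻¹ᵁ U from hxU) (f ⁻¹ᵁ U).2
    exact ⟨V, hV, hxV, hVsub⟩
  have hxg : g (f' x') ∈ U := by
    rw [← Scheme.Hom.comp_apply, ← h.w, Scheme.Hom.comp_apply]
    exact hxU
  obtain ⟨U', hU', hxU', hU'U⟩ : ∃ U' : S'.Opens, IsAffineOpen U' ∧ f' x' ∈ U' ∧ U' ≤ g ⁻¹ᵁ U := by
    obtain ⟨_, ⟨V, hV, rfl⟩, hxV, hVsub⟩ :=
      S'.isBasis_affineOpens.exists_subset_of_mem_open (show f' x' ∈ g ⁻¹ᵁ U from hxg) (g ⁻¹ᵁ U).2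
    exact ⟨V, hV, hxV, hVsub⟩
  letI algB : Algebra Γ(S, U) Γ(X, V) := (f.appLE U V hVU).hom.toAlgebra
  letI algR : Algebra Γ(S, U) Γ(S', U') := (g.appLE U U' hU'U).hom.toAlgebra
  haveI : Algebra.FinitePresentation Γ(S, U) Γ(X, V) := f.finitePresentation_appLE hU hV hVU
  have hflat' : Module.Flat Γ(S, U) Γ(X, V) ∨ Module.Flat Γ(S, U) Γ(S', U') := by
    rcases hflat with hf | hg
    · exact Or.inl (f.flat_appLE hU hV hVU)
    · exact Or.inr (g.flat_appLE hU hU' hU'U)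
  let iR := CommRingCat.ofHom (Algebra.TensorProduct.includeRight :
    Γ(X, V) →ₐ[Γ(S, U)] Γ(S', U') ⊗[Γ(S, U)] Γ(X, V)).toRingHom
  let iL := CommRingCat.ofHom (algebraMap Γ(S', U') (Γ(S', U') ⊗[Γ(S, U)] Γ(X, V)))
  have hsq : IsPullback (Spec.map iR) (Spec.map iL)
      (Spec.map (f.appLE U V hVU)) (Spec.map (g.appLE U U' hU'U)) :=
    (isPullback_SpecMap_of_isPushout _ _ _ _
      (CommRingCat.isPushout_tensorProduct Γ(S, U) Γ(S', U') Γ(X, V))).flip
  have e₁ : Spec.map (f.appLE U V hVU) ≫ hU.fromSpec = hV.fromSpec ≫ f :=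
    IsAffineOpen.SpecMap_appLE_fromSpec f hU hV hVU
  have e₂ : Spec.map (g.appLE U U' hU'U) ≫ hU.fromSpec = hU'.fromSpec ≫ g :=
    IsAffineOpen.SpecMap_appLE_fromSpec g hU hU' hU'U
  let m := pullback.map _ _ f g hV.fromSpec hU'.fromSpec hU.fromSpec e₁ e₂
  let θ := hsq.isoPullback.hom ≫ m ≫ h.isoPullback.inv
  have hθ₁ : θ ≫ g' = Spec.map iR ≫ hV.fromSpec := by
    simp only [θ, m, Category.assoc, IsPullback.isoPullback_inv_fst]
    erw [pullback.lift_fst]
    rw [← Category.assoc, hsq.isoPullback_hom_fst]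
  have hθ₂ : θ ≫ f' = Spec.map iL ≫ hU'.fromSpec := by
    simp only [θ, m, Category.assoc, IsPullback.isoPullback_inv_snd]
    erw [pullback.lift_snd]
    rw [← Category.assoc, hsq.isoPullback_hom_snd]
  haveI : IsOpenImmersion m := inferInstance
  haveI : IsOpenImmersion θ := inferInstance
  obtain ⟨q, hq⟩ : x' ∈ Set.range θ := by
    have hm : h.isoPullback.hom x' ∈ Set.range m := by
      rw [Scheme.Pullback.range_map, hV.range_fromSpec, hU'.range_fromSpec]
      constructor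
      · show pullback.fst f g (h.isoPullback.hom x') ∈ V
        rw [← Scheme.Hom.comp_apply, h.isoPullback_hom_fst]
        exact hxV
      · show pullback.snd f g (h.isoPullback.hom x') ∈ U'
        rw [← Scheme.Hom.comp_apply, h.isoPullback_hom_snd]
        exact hxU'
    obtain ⟨t, ht⟩ := hm
    refine ⟨hsq.isoPullback.inv t, ?_⟩
    show (hsq.isoPullback.inv ≫ θ) t = x'
    rw [show hsq.isoPullback.inv ≫ θ = m ≫ h.isoPullback.inv by simp [θ], Scheme.Hom.comp_apply, ht,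
      ← Scheme.Hom.comp_apply, Iso.hom_inv_id]
    rfl
  have hmap : θ ≫ f' = Spec.map iL ≫ hU'.fromSpec := hθ₂
  haveI : LocallyOfFinitePresentation (Spec.map iL) :=
    (HasRingHomProperty.Spec_iff (P := @LocallyOfFinitePresentation)).2
      (RingHom.finitePresentation_algebraMap.2 inferInstance)
  have h1 : x' ∈ f'.smoothLocus ↔ q ∈ Algebra.smoothLocus Γ(S', U') (Γ(S', U') ⊗[Γ(S, U)] Γ(X, V)) := by
    rw [← hq]
    show q ∈ θ ⁻¹ᵁ f'.smoothLocus ↔ _
    rw [Scheme.Hom.preimage_smoothLocus_eq]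
    simp only [hmap]
    refine Iff.trans ?_ (mem_smoothLocus_spec_iff (K := Γ(S', U')) (C := Γ(S', U') ⊗[Γ(S, U)] Γ(X, V)) q)
    show (Scheme.Hom.stalkMap (Spec.map iL ≫ hU'.fromSpec) q).hom.FormallySmooth ↔
      (Scheme.Hom.stalkMap (Spec.map iL) q).hom.FormallySmooth
    rw [Scheme.Hom.stalkMap_comp]
    exact RingHom.FormallySmooth.respectsIso.cancel_left_isIso _ _
  have h2 : hV.primeIdealOf ⟨g' x', hxV⟩ = PrimeSpectrum.comap
      (Algebra.TensorProduct.includeRight : Γ(X, V) →ₐ[Γ(S, U)] Γ(S', U') ⊗[Γ(S, U)] Γ(X, V)).toRingHom q := by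
    refine hV.fromSpec.isOpenEmbedding.injective ((hV.fromSpec_primeIdealOf ⟨g' x', hxV⟩).trans ?_)
    show g' x' = hV.fromSpec (Spec.map iR q)
    rw [← hq, ← Scheme.Hom.comp_apply, hθ₁, Scheme.Hom.comp_apply]
  rw [h1, Scheme.Hom.mem_smoothLocus, formallySmooth_stalkMap_iff U hU V hV hVU hxV, h2]
  exact mem_smoothLocus_baseChange_iff _ _ _ hflat' q

theorem smoothLocus_eq_preimage {X S X' S' : Scheme.{u}} (f : X ⟶ S) (g : S' ⟶ S) (f' : X' ⟶ S')
    (g' : X' ⟶ X) (h : IsPullback g' f' f g) [LocallyOfFinitePresentation f] [LocallyOfFinitePresentation f']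
    (hflat : Flat f ∨ Flat g) : f'.smoothLocus = g' ⁻¹ᵁ f.smoothLocus :=
  TopologicalSpace.Opens.ext (Set.ext fun x' => mem_smoothLocus_baseChange_scheme f g f' g' h hflat x')

end DepthLib
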