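import Groth.Agent.CMFlatLib.FibreDepth
import Mathlib

/-! # Serre's conditions on the local ring of a point, read on its generizations -/

set_option autoImplicit false
universe u

open AlgebraicGeometry CategoryTheory IsLocalRing CommAlgDim

namespace DepthLib

theorem depth_congr_ringEquiv {R S : Type u} [CommRing R] [IsLocalRing R] [IsNoetherianRing R] [CommRing S]
    [IsLocalRing S] [IsNoetherianRing S] (e : R ≃+* S) : LocCoh.depth R R = LocCoh.depth S S :=
  ENat.eq_of_forall_natCast_le_iff fun _ =>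
    ⟨fun h => CMFlatLib.le_depth_congr e h, fun h => CMFlatLib.le_depth_congr e.symm h⟩

theorem min_supportDim_le_depth_localized_iff (R : Type u) [CommRing R] [IsNoetherianRing R] (k : ℕ) (p : Ideal R)
    [p.IsPrime] {L : Type u} [CommRing L] [IsLocalRing L] [IsNoetherianRing L] (e : Localization.AtPrime p ≃+* L) :
    min (k : WithBot ℕ∞) (Module.supportDim (Localization.AtPrime p) (LocalizedModule p.primeCompl R)) ≤
        ((LocCoh.depth (Localization.AtPrime p) (LocalizedModule p.primeCompl R) : ℕ∞) : WithBot ℕ∞) ↔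
      min (k : WithBot ℕ∞) (ringKrullDim L) ≤ ((LocCoh.depth L L : ℕ∞) : WithBot ℕ∞) := by
  let ε : LocalizedModule p.primeCompl R ≃ₗ[Localization.AtPrime p] Localization.AtPrime p :=
    (IsLocalizedModule.iso p.primeCompl (Algebra.linearMap R (Localization.AtPrime p))).extendScalarsOfIsLocalization
      p.primeCompl (Localization.AtPrime p)
  rw [Module.supportDim_eq_of_equiv ε, CommAlgDim.depth_congr ε, Module.supportDim_self_eq_ringKrullDim,
    ringKrullDim_eq_of_ringEquiv e, depth_congr_ringEquiv e]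

/-- `(S_k)` of a local ring of a locally noetherian scheme is a condition on the generizations. -/
theorem hasSk_stalk_iff {F : Scheme.{u}} [IsLocallyNoetherian F] (y : F) (k : ℕ) :
    LocCoh.HasSk k (F.presheaf.stalk y) (F.presheaf.stalk y) ↔ ∀ w : F, w ⤳ y →
      min (k : WithBot ℕ∞) (ringKrullDim (F.presheaf.stalk w)) ≤
        ((LocCoh.depth (F.presheaf.stalk w) (F.presheaf.stalk w) : ℕ∞) : WithBot ℕ∞) := by
  obtain ⟨_, ⟨U, hU, rfl⟩, hyU, -⟩ :=
    F.isBasis_affineOpens.exists_subset_of_mem_open (Set.mem_univ y) isOpen_univ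
  haveI : IsNoetherianRing Γ(F, U) := IsLocallyNoetherian.component_noetherian ⟨U, hU⟩
  let qy := hU.primeIdealOf ⟨y, hyU⟩
  letI := F.presheaf.algebra_section_stalk ⟨y, hyU⟩
  haveI : IsLocalization.AtPrime (F.presheaf.stalk y) qy.asIdeal := hU.isLocalization_stalk ⟨y, hyU⟩
  have key : ∀ (p : Ideal (F.presheaf.stalk y)) [p.IsPrime] (w : F) (hw : w ∈ U),
      p.comap (algebraMap Γ(F, U) (F.presheaf.stalk y)) = (hU.primeIdealOf ⟨w, hw⟩).asIdeal →
      Nonempty (Localization.AtPrime p ≃+* F.presheaf.stalk w) := by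
    intro p _ w hw hp
    letI := F.presheaf.algebra_section_stalk ⟨w, hw⟩
    haveI : IsLocalization.AtPrime (F.presheaf.stalk w) (hU.primeIdealOf ⟨w, hw⟩).asIdeal :=
      hU.isLocalization_stalk ⟨w, hw⟩
    haveI h1 : IsLocalization.AtPrime (Localization.AtPrime p)
        (p.comap (algebraMap Γ(F, U) (F.presheaf.stalk y))) :=
      IsLocalization.isLocalization_isLocalization_atPrime_isLocalization qy.asIdeal.primeCompl _ p
    haveI : IsLocalization.AtPrime (F.presheaf.stalk w) (p.comap (algebraMap Γ(F, U) (F.presheaf.stalk y))) := by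
      simp only [hp]; infer_instance
    exact ⟨(IsLocalization.algEquiv (p.comap (algebraMap Γ(F, U) (F.presheaf.stalk y))).primeCompl _ _).toRingEquiv⟩
  constructor
  · intro h w hwy
    have hw : w ∈ U := hwy.mem_open U.2 hyU
    let q := hU.primeIdealOf ⟨w, hw⟩
    have hle : q.asIdeal ≤ qy.asIdeal := by
      refine (PrimeSpectrum.le_iff_specializes _ _).2 (hU.fromSpec.isOpenEmbedding.isInducing.specializes_iff.1 ?_)
      rw [hU.fromSpec_primeIdealOf, hU.fromSpec_primeIdealOf]; exact hwy
    have hd : Disjoint (qy.asIdeal.primeCompl : Set Γ(F, U)) q.asIdeal :=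
      Set.disjoint_left.mpr fun a ha haq => ha (hle haq)
    let p := q.asIdeal.map (algebraMap Γ(F, U) (F.presheaf.stalk y))
    haveI : p.IsPrime := IsLocalization.isPrime_of_isPrime_disjoint qy.asIdeal.primeCompl _ q.asIdeal inferInstance hd
    obtain ⟨e⟩ := key p w hw
      (IsLocalization.under_map_of_isPrime_disjoint qy.asIdeal.primeCompl _ inferInstance hd)
    exact (min_supportDim_le_depth_localized_iff _ k p e).1 (h p)
  · intro h p hp
    let q : PrimeSpectrum Γ(F, U) := ⟨p.comap (algebraMap Γ(F, U) (F.presheaf.stalk y)), inferInstance⟩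
    let w := hU.fromSpec q
    have hw : w ∈ U := by
      have h1 : w ∈ Set.range hU.fromSpec := ⟨q, rfl⟩
      rwa [hU.range_fromSpec] at h1
    have hq : hU.primeIdealOf ⟨w, hw⟩ = q :=
      hU.fromSpec.isOpenEmbedding.injective (hU.fromSpec_primeIdealOf ⟨w, hw⟩)
    obtain ⟨e⟩ := key p w hw (congrArg PrimeSpectrum.asIdeal hq).symm
    refine (min_supportDim_le_depth_localized_iff _ k p e).2 (h w ?_)
    have hsp : q ⤳ qy := by
      refine (PrimeSpectrum.le_iff_specializes _ _).1 (fun a ha => ?_)
      by_contra hc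
      exact hp.ne_top (Ideal.eq_top_of_isUnit_mem _ ha (IsLocalization.map_units _ (⟨a, hc⟩ : qy.asIdeal.primeCompl)))
    have h2 := hsp.map hU.fromSpec.continuous
    rwa [hU.fromSpec_primeIdealOf] at h2

end DepthLib
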