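import Groth.Agent.DepthLib.FibWit
import Groth.Agent.DepthLib.SkStalk
import Groth.Agent.SweepSix.Constr
import Mathlib

/-! # Serre's conditions on the fibres: constructibility, and openness for flat morphisms -/

set_option autoImplicit false
universe u

open CategoryTheory AlgebraicGeometry Topology UOpenLib

namespace DepthLib

variable {X S : Scheme.{u}} (f : X ⟶ S)

theorem hasSk_fibre_iff [LocallyOfFiniteType f] (k : ℕ) (x : X) :
    LocCoh.HasSk k ((f.fiber (f.base x)).presheaf.stalk (f.asFiber x))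
        ((f.fiber (f.base x)).presheaf.stalk (f.asFiber x)) ↔
      ∀ z : X, f.base z = f.base x → z ⤳ x →
        min (k : WithBot ℕ∞) (ringKrullDim ((f.fiber (f.base z)).presheaf.stalk (f.asFiber z))) ≤
          ((LocCoh.depth ((f.fiber (f.base z)).presheaf.stalk (f.asFiber z))
            ((f.fiber (f.base z)).presheaf.stalk (f.asFiber z)) : ℕ∞) : WithBot ℕ∞) := by
  haveI : IsLocallyNoetherian (f.fiber (f.base x)) :=
    @LocallyOfFiniteType.isLocallyNoetherian _ _ (f.fiberToSpecResidueField (f.base x))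
      (lft_fiberToSpec f (f.base x)) _
  rw [hasSk_stalk_iff]
  have key : ∀ (s : S) (w : f.fiber s),
      (min (k : WithBot ℕ∞) (ringKrullDim ((f.fiber (f.base (f.fiberι s w))).presheaf.stalk (f.asFiber (f.fiberι s w)))) ≤
          ((LocCoh.depth ((f.fiber (f.base (f.fiberι s w))).presheaf.stalk (f.asFiber (f.fiberι s w)))
            ((f.fiber (f.base (f.fiberι s w))).presheaf.stalk (f.asFiber (f.fiberι s w))) : ℕ∞) : WithBot ℕ∞)) ↔
        (min (k : WithBot ℕ∞) (ringKrullDim ((f.fiber s).presheaf.stalk w)) ≤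
          ((LocCoh.depth ((f.fiber s).presheaf.stalk w) ((f.fiber s).presheaf.stalk w) : ℕ∞) : WithBot ℕ∞)) := by
    intro s w
    have hs : f (f.fiberι s w) = s := (f.range_fiberι s).le ⟨w, rfl⟩
    generalize hx : f.fiberι s w = z at hs ⊢
    subst hs
    obtain rfl : w = f.asFiber z := (f.fiberι (f z)).isEmbedding.injective (by rw [hx, f.fiberι_asFiber])
    exact Iff.rfl
  constructor
  · intro h z hfz hzx
    obtain ⟨w, rfl⟩ : z ∈ Set.range (f.fiberι (f.base x)) := by rw [f.range_fiberι]; exact hfz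
    exact (key _ w).2 (h w ((f.fiberι _).isEmbedding.isInducing.specializes_iff.1 (by rwa [f.fiberι_asFiber])))
  · intro h w hw
    refine (key _ w).1 (h _ ((f.range_fiberι _).le ⟨w, rfl⟩) ?_)
    have := hw.map (f.fiberι (f.base x)).continuous
    rwa [f.fiberι_asFiber] at this

/-- Dimension, depth and rectified depth at a point of its fibre. -/
theorem exists_fibre_data [LocallyOfFinitePresentation f] (z : X) :
    ∃ (d r : ℕ) (a : ℕ∞), ringKrullDim ((f.fiber (f.base z)).presheaf.stalk (f.asFiber z)) = (d : WithBot ℕ∞) ∧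
      LocCoh.depth ((f.fiber (f.base z)).presheaf.stalk (f.asFiber z))
        ((f.fiber (f.base z)).presheaf.stalk (f.asFiber z)) = a ∧
      fibreClosureDim f z = (r : WithBot ℕ∞) ∧ FlatMor.fibreDimAt f z = ((d + r : ℕ) : WithBot ℕ∞) ∧
      rectDepth f (Coh.structureModule X) z = ((a + r : ℕ∞) : WithBot ℕ∞) := by
  obtain ⟨d, r, hd, hr, he⟩ := exists_fibre_numbers f z
  refine ⟨d, r, _, hd, rfl, hr, he, ?_⟩
  rw [rectDepth, hr, fiberDepth_structureModule f z]
  exact (WithBot.coe_add _ _).symm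

/-- The failure of the Serre inequality at `z`, in terms of the fibre data. -/
theorem not_min_le_iff {k d : ℕ} {a : ℕ∞} :
    ¬ (min (k : WithBot ℕ∞) (d : WithBot ℕ∞) ≤ ((a : ℕ∞) : WithBot ℕ∞)) ↔ ∃ b : ℕ, a = b ∧ b < k ∧ b < d := by
  have e : min (k : WithBot ℕ∞) (d : WithBot ℕ∞) = (((min k d : ℕ) : ℕ∞) : WithBot ℕ∞) := by
    rcases le_total k d with h | h
    · rw [min_eq_left h, min_eq_left (Nat.cast_le.2 h)]; rfl
    · rw [min_eq_right h, min_eq_right (Nat.cast_le.2 h)]; rfl
  rw [e, WithBot.coe_le_coe]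
  induction a using ENat.recTopCoe with
  | top =>
    refine iff_of_false (fun h => h le_top) fun ⟨b, hb, _⟩ => ENat.coe_ne_top b hb.symm
  | coe b =>
    rw [Nat.cast_le]
    constructor
    · intro h; exact ⟨b, rfl, by omega, by omega⟩
    · rintro ⟨b', hb, h1, h2⟩
      obtain rfl : b = b' := Nat.cast_injective hb
      omega

/-- The points whose fibre local ring fails `(S_k)`, in terms of witnesses. -/
theorem not_hasSk_fibre_iff [LocallyOfFinitePresentation f] (k : ℕ) (x : X) :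
    ¬ LocCoh.HasSk k ((f.fiber (f.base x)).presheaf.stalk (f.asFiber x))
        ((f.fiber (f.base x)).presheaf.stalk (f.asFiber x)) ↔
      ∃ z : X, f.base z = f.base x ∧ z ⤳ x ∧ ∃ e ρ r : ℕ, FlatMor.fibreDimAt f z = (e : WithBot ℕ∞) ∧
        rectDepth f (Coh.structureModule X) z = ((ρ : ℕ∞) : WithBot ℕ∞) ∧ fibreClosureDim f z = (r : WithBot ℕ∞) ∧
        ρ < e ∧ ρ + 1 ≤ k + r := by
  rw [hasSk_fibre_iff]
  push_neg
  refine exists_congr fun z => and_congr_right fun _ => and_congr_right fun _ => ?_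
  obtain ⟨d, r, a, hd, ha, hr, he, hρ⟩ := exists_fibre_data f z
  rw [hd, ha, ← not_le, not_min_le_iff, he, hr, hρ]
  constructor
  · rintro ⟨b, rfl, h1, h2⟩
    exact ⟨d + r, b + r, r, rfl, by norm_cast, rfl, by omega, by omega⟩
  · rintro ⟨e, ρ, r', h1, h2, h3, h4, h5⟩
    have e1 : d + r = e := Nat.cast_injective h1
    have e3 : r = r' := Nat.cast_injective h3
    subst e1 e3
    have e2 : a + r = (ρ : ℕ∞) := WithBot.coe_injective h2
    induction a using ENat.recTopCoe with
    | top => rw [top_add] at e2; exact absurd e2.symm (ENat.coe_ne_top ρ)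
    | coe b =>
      have : b + r = ρ := by exact_mod_cast e2
      exact ⟨b, rfl, by omega, by omega⟩

theorem isLocallyConstructible_biUnion {T : Scheme.{u}} {ι : Type*} (t : Finset ι) (E : ι → Set T)
    (h : ∀ i ∈ t, IsLocallyConstructible (E i)) : IsLocallyConstructible (⋃ i ∈ t, E i) := by
  classical
  induction t using Finset.induction_on with
  | empty =>
    simp only [Finset.notMem_empty, Set.iUnion_of_empty, Set.iUnion_empty]
    exact IsLocallyConstructible.empty
  | insert a s has ih =>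
    rw [Finset.set_biUnion_insert]
    exact (h a (Finset.mem_insert_self a s)).union (ih fun i hi => h i (Finset.mem_insert_of_mem hi))

/-- The points whose fibre local ring satisfies `(S_k)` form a locally constructible set. -/
theorem isLocallyConstructible_hasSk_fibre [LocallyOfFinitePresentation f] (k : ℕ) :
    IsLocallyConstructible {x : X | LocCoh.HasSk k ((f.fiber (f.base x)).presheaf.stalk (f.asFiber x))
      ((f.fiber (f.base x)).presheaf.stalk (f.asFiber x))} := by
  haveI : Coh.IsQCoh (Coh.structureModule X) := QCohLib.isQCoh_unit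
  refine isLocallyConstructible_of_chart fun x => ?_
  obtain ⟨_, ⟨V, hV, rfl⟩, hxV, -⟩ :=
    X.isBasis_affineOpens.exists_subset_of_mem_open (Set.mem_univ x) isOpen_univ
  refine ⟨V, hV, hxV, ?_⟩
  let O : ℕ → Set X := fun e => {y : X | FlatMor.fibreDimAt f y ≤ (e : WithBot ℕ∞)}
  have hcov : (V : Set X) ⊆ ⋃ e : ℕ, O e := fun y _ => by
    obtain ⟨e, he⟩ := exists_fibreDimAt_eq_nat f y
    exact Set.mem_iUnion.2 ⟨e, he.le⟩
  obtain ⟨t, ht⟩ := hV.isCompact.elim_finite_subcover O (fun e => FibDimLib.isOpen_fibreDimAt_le f _) hcov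
  obtain ⟨N, hN⟩ : ∃ N, ∀ e ∈ t, e ≤ N := ⟨t.sup id, fun e he => Finset.le_sup (f := id) he⟩
  let I : Finset (ℕ × ℕ) := (Finset.range (N + 1) ×ˢ Finset.range (N + 1)).filter fun p => p.2 < p.1
  let E : ℕ × ℕ → Set X := fun p => fibWit f
    ({z : X | FlatMor.fibreDimAt f z = (p.1 : WithBot ℕ∞)} ∩
      {z : X | rectDepth f (Coh.structureModule X) z = ((p.2 : ℕ∞) : WithBot ℕ∞)}) (p.2 + 1 - k)
  have hE : IsLocallyConstructible (⋃ p ∈ I, E p) :=
    isLocallyConstructible_biUnion I E fun p _ => isLocallyConstructible_fibWit f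
      ((isLocallyConstructible_fibreDimAt_eq f p.1).inter
        (isLocallyConstructible_rectDepth_eq f _ isFP_structureModule _)) _
  refine ⟨hV.fromSpec ⁻¹' (⋃ p ∈ I, E p)ᶜ,
    ConsLib.isLocallyConstructible_preimage hV.fromSpec (isLocallyConstructible_compl hE), fun Q => ?_⟩
  set y := hV.fromSpec Q with hy
  have hyV : y ∈ V := by
    have h1 : hV.fromSpec Q ∈ Set.range hV.fromSpec := ⟨Q, rfl⟩
    rwa [hV.range_fromSpec] at h1
  show _ ↔ y ∉ ⋃ p ∈ I, E p
  rw [Set.mem_setOf_eq, ← not_iff_not, not_not, not_hasSk_fibre_iff]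
  constructor
  · rintro ⟨z, hfz, hzy, e, ρ, r, he, hρ, hr, h1, h2⟩
    obtain ⟨e', he', hze⟩ := Set.mem_iUnion₂.1 (ht (hzy.mem_open V.2 hyV))
    have hze' : FlatMor.fibreDimAt f z ≤ (e' : WithBot ℕ∞) := hze
    rw [he, Nat.cast_le] at hze'
    have := hN e' he'
    refine Set.mem_iUnion₂.2 ⟨(e, ρ), Finset.mem_filter.2 ⟨Finset.mem_product.2
      ⟨Finset.mem_range.2 (by omega), Finset.mem_range.2 (by omega)⟩, h1⟩, z, ⟨he, hρ⟩, hfz, hzy, ?_⟩
    rw [hr, Nat.cast_le]
    show ρ + 1 - k ≤ r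
    omega
  · intro h
    obtain ⟨⟨e, ρ⟩, hp, z, ⟨he, hρ⟩, hfz, hzy, hm⟩ := Set.mem_iUnion₂.1 h
    obtain ⟨r, hr⟩ := exists_fibreClosureDim_eq_nat f z
    rw [hr, Nat.cast_le] at hm
    have h1 : ρ < e := (Finset.mem_filter.1 hp).2
    have hm' : ρ + 1 - k ≤ r := hm
    exact ⟨z, hfz, hzy, e, ρ, r, he, hρ, hr, h1, by omega⟩

end DepthLib
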