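import Groth.Agent.DepthLib.SmoothBCScheme
import Groth.Agent.DepthLib.SkCons
import Groth.Agent.CohenLib.SmoothPoint
import Groth.Prelude.Def_FDesc
import Mathlib

/-! # Geometric `(R_k)` read on the non-smooth generizations -/

set_option autoImplicit false
universe u

open CategoryTheory CategoryTheory.Limits AlgebraicGeometry Topology TensorProduct IsLocalRing

namespace DepthLib

/-- A property of all localizations of a local ring of a scheme is a property of the generizations. -/
theorem forall_prime_stalk_iff {F : Scheme.{u}} (y : F) (P : ∀ (L : Type u) [CommRing L], Prop)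
    (hP : ∀ (L L' : Type u) [CommRing L] [CommRing L'], (L ≃+* L') → P L → P L') :
    (∀ (p : Ideal (F.presheaf.stalk y)) [p.IsPrime], P (Localization.AtPrime p)) ↔
      ∀ w : F, w ⤳ y → P (F.presheaf.stalk w) := by
  obtain ⟨_, ⟨U, hU, rfl⟩, hyU, -⟩ :=
    F.isBasis_affineOpens.exists_subset_of_mem_open (Set.mem_univ y) isOpen_univ
  let qy := hU.primeIdealOf ⟨y, hyU⟩
  letI := F.presheaf.algebra_section_stalk ⟨y, hyU⟩
  haveI : IsLocalization.AtPrime (F.presheaf.stalk y) qy.asIdeal := hU.isLocalization_stalk ⟨y, hyU⟩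
  have key : ∀ (p : Ideal (F.presheaf.stalk y)) [p.IsPrime] (w : F) (hw : w ∈ U),
      p.comap (algebraMap Γ(F, U) (F.presheaf.stalk y)) = (hU.primeIdealOf ⟨w, hw⟩).asIdeal →
      Nonempty (Localization.AtPrime p ≃+* F.presheaf.stalk w) := by
    intro p _ w hw hp
    letI := F.presheaf.algebra_section_stalk ⟨w, hw⟩
    haveI : IsLocalization.AtPrime (F.presheaf.stalk w) (hU.primeIdealOf ⟨w, hw⟩).asIdeal :=
      hU.isLocalization_stalk ⟨w, hw⟩
    haveI h1 : IsLocalization.AtPrime (Localization.AtPrime p)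
        (p.comap (algebraMap Γ(F, U) (F.presheaf.stalk y))) :=
      IsLocalization.isLocalization_isLocalization_atPrime_isLocalization qy.asIdeal.primeCompl _ p
    haveI : IsLocalization.AtPrime (F.presheaf.stalk w) (p.comap (algebraMap Γ(F, U) (F.presheaf.stalk y))) := by
      simp only [hp]; infer_instance
    exact ⟨(IsLocalization.algEquiv (p.comap (algebraMap Γ(F, U) (F.presheaf.stalk y))).primeCompl _ _).toRingEquiv⟩
  constructor
  · intro h w hwy
    have hw : w ∈ U := hwy.mem_open U.2 hyU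
    let q := hU.primeIdealOf ⟨w, hw⟩
    have hle : q.asIdeal ≤ qy.asIdeal := by
      refine (PrimeSpectrum.le_iff_specializes _ _).2 (hU.fromSpec.isOpenEmbedding.isInducing.specializes_iff.1 ?_)
      rw [hU.fromSpec_primeIdealOf, hU.fromSpec_primeIdealOf]; exact hwy
    have hd : Disjoint (qy.asIdeal.primeCompl : Set Γ(F, U)) q.asIdeal :=
      Set.disjoint_left.mpr fun a ha haq => ha (hle haq)
    let p := q.asIdeal.map (algebraMap Γ(F, U) (F.presheaf.stalk y))
    haveI : p.IsPrime := IsLocalization.isPrime_of_isPrime_disjoint qy.asIdeal.primeCompl _ q.asIdeal inferInstance hd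
    obtain ⟨e⟩ := key p w hw
      (IsLocalization.under_map_of_isPrime_disjoint qy.asIdeal.primeCompl _ inferInstance hd)
    exact hP _ _ e (h p)
  · intro h p hp
    let q : PrimeSpectrum Γ(F, U) := ⟨p.comap (algebraMap Γ(F, U) (F.presheaf.stalk y)), inferInstance⟩
    let w := hU.fromSpec q
    have hw : w ∈ U := by
      have h1 : w ∈ Set.range hU.fromSpec := ⟨q, rfl⟩
      rwa [hU.range_fromSpec] at h1
    have hq : hU.primeIdealOf ⟨w, hw⟩ = q :=
      hU.fromSpec.isOpenEmbedding.injective (hU.fromSpec_primeIdealOf ⟨w, hw⟩)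
    obtain ⟨e⟩ := key p w hw (congrArg PrimeSpectrum.asIdeal hq).symm
    refine hP _ _ e.symm (h w ?_)
    have hsp : q ⤳ qy := by
      refine (PrimeSpectrum.le_iff_specializes _ _).1 (fun a ha => ?_)
      by_contra hc
      exact hp.ne_top (Ideal.eq_top_of_isUnit_mem _ ha (IsLocalization.map_units _ (⟨a, hc⟩ : qy.asIdeal.primeCompl)))
    have h2 := hsp.map hU.fromSpec.continuous
    rwa [hU.fromSpec_primeIdealOf] at h2

/-- `(R_k)` of a local ring of a scheme in terms of generizations. -/
theorem hasRk_stalk_iff {F : Scheme.{u}} (y : F) (n : ℕ) :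
    LocCoh.HasRk n (F.presheaf.stalk y) ↔
      ∀ w : F, w ⤳ y → ringKrullDim (F.presheaf.stalk w) ≤ ((n : ℕ∞) : WithBot ℕ∞) →
        IsRegularLocalRing (F.presheaf.stalk w) := by
  have h := forall_prime_stalk_iff y
    (fun L _ => ringKrullDim L ≤ ((n : ℕ∞) : WithBot ℕ∞) → IsRegularLocalRing L)
    (fun L L' _ _ e hL h => by
      rw [← ringKrullDim_eq_of_ringEquiv e] at h
      haveI := hL h
      exact IsRegularLocalRing.of_ringEquiv e)
  refine Iff.trans ?_ h
  refine forall_congr' fun p => forall_congr' fun _ => ?_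
  rw [IsLocalization.AtPrime.ringKrullDim_eq_height p (Localization.AtPrime p), WithBot.coe_le_coe]

/-- Over a field, regularity and smoothness at a point. -/
theorem regular_of_smooth_and_conversely {K : Type u} [Field K] {Y : Scheme.{u}} (g : Y ⟶ Spec (CommRingCat.of K))
    [LocallyOfFinitePresentation g] (y : Y) :
    (y ∈ g.smoothLocus → IsRegularLocalRing (Y.presheaf.stalk y)) ∧
      (IsAlgClosed K → IsRegularLocalRing (Y.presheaf.stalk y) → y ∈ g.smoothLocus) := by
  obtain ⟨_, ⟨V, hV, rfl⟩, hyV, -⟩ :=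
    Y.isBasis_affineOpens.exists_subset_of_mem_open (Set.mem_univ y) isOpen_univ
  obtain ⟨φ, hφ⟩ := Spec.map_surjective (hV.fromSpec ≫ g)
  letI : Algebra K Γ(Y, V) := φ.hom.toAlgebra
  haveI : LocallyOfFinitePresentation (Spec.map (CommRingCat.ofHom (algebraMap K Γ(Y, V)))) := by
    show LocallyOfFinitePresentation (Spec.map φ)
    rw [hφ]; infer_instance
  have hfp : Algebra.FinitePresentation K Γ(Y, V) := RingHom.finitePresentation_algebraMap.1
    ((HasRingHomProperty.Spec_iff (P := @LocallyOfFinitePresentation)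
      (φ := CommRingCat.ofHom (algebraMap K Γ(Y, V)))).1 inferInstance)
  haveI : Algebra.FiniteType K Γ(Y, V) := inferInstance
  let q := hV.primeIdealOf ⟨y, hyV⟩
  haveI : IsNoetherianRing Γ(Y, V) := Algebra.FiniteType.isNoetherianRing K _
  letI := Y.presheaf.algebra_section_stalk ⟨y, hyV⟩
  haveI : IsLocalization.AtPrime (Y.presheaf.stalk y) q.asIdeal := hV.isLocalization_stalk ⟨y, hyV⟩
  let e : Localization.AtPrime q.asIdeal ≃+* Y.presheaf.stalk y :=
    (IsLocalization.algEquiv q.asIdeal.primeCompl _ _).toRingEquiv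
  have hmem : y ∈ g.smoothLocus ↔ q ∈ Algebra.smoothLocus K Γ(Y, V) := by
    refine Iff.trans ?_ (mem_smoothLocus_spec_iff (K := K) (C := Γ(Y, V)) q)
    conv_lhs => rw [← show hV.fromSpec q = y from hV.fromSpec_primeIdealOf ⟨y, hyV⟩]
    show q ∈ hV.fromSpec ⁻¹ᵁ g.smoothLocus ↔ _
    rw [Scheme.Hom.preimage_smoothLocus_eq]
    simp only [← hφ]
    exact Iff.rfl
  haveI : IsNoetherianRing (Localization.AtPrime q.asIdeal) :=
    IsLocalization.isNoetherianRing q.asIdeal.primeCompl _ inferInstance
  rw [hmem]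
  constructor
  · intro h
    haveI : Algebra.FormallySmooth K (Localization.AtPrime q.asIdeal) := h
    haveI := CohenLib.isRegularLocalRing_of_formallySmooth (k := K) (A := Localization.AtPrime q.asIdeal)
    exact IsRegularLocalRing.of_ringEquiv e
  · intro hK h
    haveI : Algebra.IsGeometricallyReduced K q.asIdeal.ResidueField := by
      rw [Algebra.isGeometricallyReduced_field_iff]
      let i : AlgebraicClosure K ≃ₐ[K] K :=
        (AlgEquiv.ofBijective (Algebra.ofId K (AlgebraicClosure K))
          IsAlgClosed.algebraMap_bijective_of_isIntegral).symm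
      exact isReduced_of_injective
        (((Algebra.TensorProduct.congr i (AlgEquiv.refl (R := K) (A₁ := q.asIdeal.ResidueField))).trans
          (Algebra.TensorProduct.lid K _)).toAlgHom) (AlgEquiv.injective _)
    exact (CohenLib.isSmoothAt_iff_isRegularLocalRing K Γ(Y, V) q.asIdeal).2
      (IsRegularLocalRing.of_ringEquiv e.symm)

/-- The dimension of the local rings does not decrease along a flat morphism. -/
theorem ringKrullDim_stalk_le_of_flat {P Q : Scheme.{u}} [IsLocallyNoetherian P] [IsLocallyNoetherian Q] (π : P ⟶ Q) [Flat π] (a : P) :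
    ringKrullDim (Q.presheaf.stalk (π a)) ≤ ringKrullDim (P.presheaf.stalk a) := by
  letI := (π.stalkMap a).hom.toAlgebra
  haveI : Module.Flat (Q.presheaf.stalk (π a)) (P.presheaf.stalk a) := Flat.stalkMap π a
  haveI : IsLocalHom (algebraMap (Q.presheaf.stalk (π a)) (P.presheaf.stalk a)) :=
    inferInstanceAs (IsLocalHom (π.stalkMap a).hom)
  rw [← maximalIdeal_height_eq_ringKrullDim, ← maximalIdeal_height_eq_ringKrullDim, WithBot.coe_le_coe,
    Ideal.height_eq_height_add_of_liesOver_of_hasGoingDown (maximalIdeal (Q.presheaf.stalk (π a)))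
      (maximalIdeal (P.presheaf.stalk a))]
  exact le_self_add

/-- The dimension of the local rings does not increase along an integral morphism. -/
theorem ringKrullDim_stalk_le_of_integral {P Q : Scheme.{u}} (π : P ⟶ Q) [IsIntegralHom π] (a : P) :
    ringKrullDim (P.presheaf.stalk a) ≤ ringKrullDim (Q.presheaf.stalk (π a)) := by
  rw [ringKrullDim_stalk_eq_coheight, ringKrullDim_stalk_eq_coheight, WithBot.coe_le_coe]
  refine Order.coheight_le_coheight_apply_of_strictMono (fun w => π w) (fun w₁ w₂ hw => ?_) a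
  obtain ⟨h1, h2⟩ := lt_iff_le_not_ge.1 hw
  refine lt_iff_le_not_ge.2 ⟨h1.map π.continuous, fun h3 => h2 ?_⟩
  obtain ⟨_, ⟨U, hU, rfl⟩, hwU, -⟩ :=
    Q.isBasis_affineOpens.exists_subset_of_mem_open (Set.mem_univ (π w₁)) isOpen_univ
  have hw₂ : π w₂ ∈ U := (h1.map π.continuous).mem_open U.2 hwU
  have hV : IsAffineOpen (π ⁻¹ᵁ U) := hU.preimage π
  let Q₁ := hV.primeIdealOf ⟨w₁, hwU⟩
  let Q₂ := hV.primeIdealOf ⟨w₂, hw₂⟩
  have hle : Q₂.asIdeal ≤ Q₁.asIdeal := by
    refine (PrimeSpectrum.le_iff_specializes _ _).2 (hV.fromSpec.isOpenEmbedding.isInducing.specializes_iff.1 ?_)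
    rw [hV.fromSpec_primeIdealOf, hV.fromSpec_primeIdealOf]; exact h1
  letI := (π.app U).hom.toAlgebra
  haveI : Algebra.IsIntegral Γ(Q, U) Γ(P, π ⁻¹ᵁ U) := algebraMap_isIntegral_iff.1 (π.isIntegral_app U hU)
  have heq : π w₁ = π w₂ := ((h1.map π.continuous).antisymm h3).symm.eq
  have hcomap : ∀ (w : P) (hw : w ∈ π ⁻¹ᵁ U),
      (hV.primeIdealOf ⟨w, hw⟩).asIdeal.comap (algebraMap Γ(Q, U) Γ(P, π ⁻¹ᵁ U)) =
        (hU.primeIdealOf ⟨π w, hw⟩).asIdeal := fun w hw => by
    have h := congr($(IsAffineOpen.comap_primeIdealOf_appLE U hU (π ⁻¹ᵁ U) hV le_rfl hw).1)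
    show Ideal.comap (π.app U).hom _ = _
    rw [Scheme.Hom.app_eq_appLE]
    exact h
  by_contra hne
  have hlt : Q₂.asIdeal < Q₁.asIdeal := lt_of_le_of_ne hle fun he => hne (by
    have h5 : Q₂ = Q₁ := PrimeSpectrum.ext he
    have h6 := congrArg (fun z => hV.fromSpec z) h5
    simp only [Q₁, Q₂, hV.fromSpec_primeIdealOf] at h6
    rw [h6])
  obtain ⟨hle', b, hb1, hb2⟩ := SetLike.lt_iff_le_and_exists.mp hlt
  refine (Ideal.comap_lt_comap_of_integral_mem_sdiff (R := Γ(Q, U)) hle' ⟨hb1, hb2⟩
    (Algebra.IsIntegral.isIntegral b)).ne ?_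
  rw [hcomap w₁ hwU, hcomap w₂ hw₂]
  simp only [heq]

/-- Geometric `(R_k)` over a field: the non-smooth generizations have local rings of dimension more than `k`. -/
theorem geomRk_iff {k : Type u} [Field k] {F : Scheme.{u}} (f : F ⟶ Spec (CommRingCat.of k))
    [LocallyOfFinitePresentation f] (y : F) (n : ℕ) :
    (∀ (K : Type u) [Field K] [Algebra k K] (y' : ↥(FBase.bc f K)),
        (FBase.bcπ f K).base y' = y → LocCoh.HasRk n ((FBase.bc f K).presheaf.stalk y')) ↔
      ∀ z : F, z ⤳ y → z ∉ f.smoothLocus →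
        ¬ ringKrullDim (F.presheaf.stalk z) ≤ ((n : ℕ∞) : WithBot ℕ∞) := by
  constructor
  · intro h z hzy hz hdim
    let K := AlgebraicClosure k
    let g := Spec.map (CommRingCat.ofHom (algebraMap k K))
    let π : pullback f g ⟶ F := pullback.fst f g
    let str : pullback f g ⟶ Spec (CommRingCat.of K) := pullback.snd f g
    haveI : IsIntegralHom g := IsIntegralHom.SpecMap_iff.2
      (algebraMap_isIntegral_iff.2 inferInstance)
    haveI : IsIntegralHom π := MorphismProperty.pullback_fst _ _ inferInstance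
    haveI : Surjective g := ⟨fun x => ⟨(⊥ : PrimeSpectrum K), Subsingleton.elim (α := PrimeSpectrum k) _ _⟩⟩
    haveI : Surjective π := MorphismProperty.pullback_fst _ _ inferInstance
    haveI : Flat g := (HasRingHomProperty.Spec_iff (P := @Flat)).2 (RingHom.flat_algebraMap_iff.2 inferInstance)
    obtain ⟨z', rfl⟩ := π.surjective z
    obtain ⟨y', hy', hzy'⟩ : ∃ y', π y' = y ∧ z' ⤳ y' := by
      have hclosed := π.isClosedMap (closure {z'}) isClosed_closure
      obtain ⟨y', hy', h2⟩ := hzy.mem_closed hclosed ⟨z', subset_closure rfl, rfl⟩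
      exact ⟨y', h2, specializes_iff_mem_closure.2 hy'⟩
    have hreg := (hasRk_stalk_iff y' n).1 (h K y' hy') z' hzy'
      ((ringKrullDim_stalk_le_of_integral π z').trans hdim)
    refine hz ((mem_smoothLocus_baseChange_scheme f g str π (IsPullback.of_hasPullback f g)
      (Or.inr inferInstance) z').1 ?_)
    exact (regular_of_smooth_and_conversely str z').2 inferInstance hreg
  · intro h K _ _ y' hy'
    haveI : IsLocallyNoetherian F := LocallyOfFiniteType.isLocallyNoetherian f
    let g := Spec.map (CommRingCat.ofHom (algebraMap k K))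
    let π : pullback f g ⟶ F := pullback.fst f g
    let str : pullback f g ⟶ Spec (CommRingCat.of K) := pullback.snd f g
    haveI : Flat g := (HasRingHomProperty.Spec_iff (P := @Flat)).2 (RingHom.flat_algebraMap_iff.2 inferInstance)
    haveI : Flat π := MorphismProperty.pullback_fst _ _ inferInstance
    haveI : IsLocallyNoetherian (pullback f g) := LocallyOfFiniteType.isLocallyNoetherian str
    refine (hasRk_stalk_iff y' n).2 fun (z' : ↥(pullback f g)) hz' hdim => ?_
    refine (regular_of_smooth_and_conversely str z').1 ?_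
    refine (mem_smoothLocus_baseChange_scheme f g str π (IsPullback.of_hasPullback f g)
      (Or.inr inferInstance) z').2 (not_not.1 fun hns => ?_)
    exact h (π z') (hy' ▸ hz'.map π.continuous) hns ((ringKrullDim_stalk_le_of_flat π z').trans hdim)

end DepthLib
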