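import Groth.Agent.DepthLib.SkCons
import Groth.Agent.FlatLib.SchemeFlat
import Mathlib

/-! # Openness of Serre's conditions on the fibres along the flat locus -/

set_option autoImplicit false
universe u

open TensorProduct CategoryTheory AlgebraicGeometry Topology IsLocalRing CommAlgDim UOpenLib

namespace DepthLib

/-- The rectified depth of the fibres of a flat module is lower semicontinuous on the flat locus. -/
theorem isOpen_le_rectDepth_inter_flat {X S : Scheme.{u}} (f : X ⟶ S) [LocallyOfFinitePresentation f] (F : X.Modules)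
    [Coh.IsQCoh F] (hF : CohB1.IsFP F) (m : ℕ) :
    IsOpen {x : X | ((m : ℕ) : WithBot ℕ∞) ≤ rectDepth f F x ∧ FlatMod.IsFlatOverAt f F x} := by
  rw [isOpen_iff_forall_mem_open]
  intro x hx
  obtain ⟨_, ⟨U, hU, rfl⟩, hxU, -⟩ :=
    S.isBasis_affineOpens.exists_subset_of_mem_open (Set.mem_univ (f x)) isOpen_univ
  obtain ⟨V, hV, hVU, hxV, hfp⟩ := FlatLib.exists_finitePresentation_nhd hF (U := f ⁻¹ᵁ U) hxU
  letI := (f.appLE U V hVU).hom.toAlgebra
  haveI : Algebra.FinitePresentation Γ(S, U) Γ(X, V) := f.finitePresentation_appLE hU hV hVU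
  obtain ⟨n, π₀, hπ₀, -⟩ := Algebra.FinitePresentation.out (R := Γ(S, U)) (A := Γ(X, V))
  let π : MvPolynomial (ULift.{u} (Fin n)) Γ(S, U) →ₐ[Γ(S, U)] Γ(X, V) :=
    π₀.comp (MvPolynomial.renameEquiv Γ(S, U) Equiv.ulift).toAlgHom
  have hπ : Function.Surjective π := hπ₀.comp (AlgEquiv.surjective _)
  let P := MvPolynomial (ULift.{u} (Fin n)) Γ(S, U)
  letI : Algebra P Γ(X, V) := π.toRingHom.toAlgebra
  haveI : IsScalarTower Γ(S, U) P Γ(X, V) := IsScalarTower.of_algebraMap_eq fun r => (π.commutes r).symm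
  letI := Module.compHom Γ(F, V) π.toRingHom
  letI : Module Γ(S, U) Γ(F, V) := Module.compHom Γ(F, V) (algebraMap Γ(S, U) Γ(X, V))
  haveI : IsScalarTower Γ(S, U) Γ(X, V) Γ(F, V) := IsScalarTower.of_algebraMap_smul fun _ _ => rfl
  haveI : IsScalarTower P Γ(X, V) Γ(F, V) := IsScalarTower.of_algebraMap_smul fun _ _ => rfl
  haveI : IsScalarTower Γ(S, U) P Γ(F, V) := IsScalarTower.of_algebraMap_smul fun r z => by
    show π (algebraMap Γ(S, U) P r) • z = algebraMap Γ(S, U) Γ(X, V) r • z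
    rw [π.commutes]
  haveI := hfp
  haveI : Module.FinitePresentation P Γ(X, V) :=
    Module.finitePresentation_of_surjective (Algebra.linearMap P Γ(X, V)) hπ
      (Algebra.FinitePresentation.ker_fG_of_surjective π hπ)
  haveI : Module.FinitePresentation P Γ(F, V) := Module.FinitePresentation.trans P Γ(F, V) Γ(X, V)
  let O := PrimeSpectrum.comap π.toRingHom ⁻¹'
    (fibPD Γ(S, U) (P := P) Γ(F, V) (Nat.card (ULift.{u} (Fin n)) + 1 - m) ∩ FlatLib.flatLocus Γ(S, U) P Γ(F, V))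
  have hO : IsOpen O := (isOpen_fibPD_inter_flatLocus Γ(F, V) _).preimage (PrimeSpectrum.continuous_comap _)
  have hmemV : ∀ Q, hV.fromSpec Q ∈ V := fun Q => by
    have h1 : hV.fromSpec Q ∈ Set.range hV.fromSpec := ⟨Q, rfl⟩
    rwa [hV.range_fromSpec] at h1
  have key : ∀ (y : X) (hy : y ∈ V), ((m : ℕ) : WithBot ℕ∞) ≤ rectDepth f F y ∧ FlatMod.IsFlatOverAt f F y ↔
      hV.primeIdealOf ⟨y, hy⟩ ∈ O := by
    intro y hy
    refine (and_congr (le_rectDepth_iff f hU hV hVU F π hπ y hy m)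
      ((FlatLib.isFlatOverAt_iff f F U hU V hV hVU hy rfl).trans ?_)).trans Iff.rfl
    rw [FlatLib.flatLocus_comap (P := P) hπ]
    rfl
  refine ⟨hV.fromSpec '' O, ?_, hV.fromSpec.isOpenEmbedding.isOpenMap _ hO,
    hV.primeIdealOf ⟨x, hxV⟩, (key x hxV).1 hx, hV.fromSpec_primeIdealOf ⟨x, hxV⟩⟩
  rintro _ ⟨Q, hQ, rfl⟩
  refine (key _ (hmemV Q)).2 ?_
  rwa [show hV.primeIdealOf ⟨hV.fromSpec Q, hmemV Q⟩ = Q from
    hV.fromSpec.isOpenEmbedding.injective (hV.fromSpec_primeIdealOf ⟨_, hmemV Q⟩)]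

theorem isFlatOverAt_structureModule_iff {X S : Scheme.{u}} (f : X ⟶ S) (x : X) :
    FlatMod.IsFlatOverAt f (Coh.structureModule X) x ↔ (f.stalkMap x).hom.Flat := by
  haveI : Coh.IsQCoh (Coh.structureModule X) := QCohLib.isQCoh_unit
  obtain ⟨_, ⟨U, hU, rfl⟩, hxU, -⟩ :=
    S.isBasis_affineOpens.exists_subset_of_mem_open (Set.mem_univ (f x)) isOpen_univ
  obtain ⟨_, ⟨V, hV, rfl⟩, hxV, hVsub⟩ := X.isBasis_affineOpens.exists_subset_of_mem_open
    (show x ∈ (f ⁻¹ᵁ U : X.Opens) from hxU) (f ⁻¹ᵁ U).2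
  have hVU : V ≤ f ⁻¹ᵁ U := fun z hz ↦ hVsub hz
  letI := (f.appLE U V hVU).hom.toAlgebra
  letI : Module Γ(S, U) Γ(Coh.structureModule X, V) :=
    Module.compHom _ (algebraMap Γ(S, U) Γ(X, V))
  haveI : IsScalarTower Γ(S, U) Γ(X, V) Γ(Coh.structureModule X, V) :=
    IsScalarTower.of_algebraMap_smul fun _ _ => rfl
  rw [FlatLib.isFlatOverAt_iff f (Coh.structureModule X) U hU V hV hVU hxV rfl,
    FlatLib.flat_stalkMap_iff (f := f) U hU V hV hVU hxV,
    FlatLib.flatLocus_congr (unitSectionsEquiv V)]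

/-- Generizations of flat points with `(S_k)` fibre local rings have `(S_k)` fibre local rings. -/
theorem hasSk_fibre_of_specializes {X S : Scheme.{u}} (f : X ⟶ S) [LocallyOfFinitePresentation f] (k : ℕ)
    {x' x : X} (h : x' ⤳ x) (hflat : (f.stalkMap x).hom.Flat)
    (hx : LocCoh.HasSk k ((f.fiber (f.base x)).presheaf.stalk (f.asFiber x))
      ((f.fiber (f.base x)).presheaf.stalk (f.asFiber x))) :
    LocCoh.HasSk k ((f.fiber (f.base x')).presheaf.stalk (f.asFiber x'))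
      ((f.fiber (f.base x')).presheaf.stalk (f.asFiber x')) := by
  haveI : Coh.IsQCoh (Coh.structureModule X) := QCohLib.isQCoh_unit
  by_contra hbad
  obtain ⟨z', -, hz'x', e', ρ', r', he', hρ', hr', h1, h2⟩ := (not_hasSk_fibre_iff f k x').1 hbad
  have hz'x : z' ⤳ x := hz'x'.trans h
  -- a generization of `x` in its fibre, in the closure of `z'`, with a large closure in the fibre
  let T : TopologicalSpace.Closeds X := ⟨closure {z'}, isClosed_closure⟩
  let j := (Scheme.IdealSheafData.vanishingIdeal T).subschemeι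
  have hrange : Set.range j.base = closure {z'} := by
    rw [Scheme.IdealSheafData.range_subschemeι, Scheme.IdealSheafData.coe_support_vanishingIdeal]
    rfl
  obtain ⟨w', hw'⟩ : z' ∈ Set.range j.base := hrange ▸ subset_closure rfl
  obtain ⟨w, hw⟩ : x ∈ Set.range j.base := hrange ▸ hz'x.mem_closure
  have hsp : w' ⤳ w := j.isEmbedding.isInducing.specializes_iff.1 (by rw [hw', hw]; exact hz'x)
  have hr : (r' : WithBot ℕ∞) ≤ FlatMor.fibreDimAt (j ≫ f) w := by
    refine le_trans ?_ (fibreClosureDim_le_fibreDimAt (j ≫ f) hsp)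
    rw [fibreClosureDim_comp_closed, hw', hr']
  obtain ⟨z, hzT, hfz, hzx, hrz⟩ : x ∈ fibWit f (closure {z'}) r' := by
    rw [← hrange, fibWit_range]
    exact ⟨w, hr, hw⟩
  have hz'z : z' ⤳ z := specializes_iff_mem_closure.2 hzT
  obtain ⟨d, r, a, hd, ha, hrr, he, hρ⟩ := exists_fibre_data f z
  have hfl : (f.stalkMap z).hom.Flat := hzx.mem_open (FlatLib.isOpen_setOf_flat_stalkMap f) hflat
  have hgood := (hasSk_fibre_iff f k x).1 hx z hfz hzx
  rw [hd, ha] at hgood
  rw [hrr, Nat.cast_le] at hrz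
  have hee : e' ≤ d + r := by
    have := FibDimLib.fibreDimAt_le_of_specializes f hz'z
    rw [he', he] at this
    exact Nat.cast_le.1 this
  have hρle : ∀ m : ℕ, (m : ℕ∞) ≤ a + r → m ≤ ρ' := fun m hm => by
    have h3 := hz'z.mem_open (isOpen_le_rectDepth_inter_flat f (Coh.structureModule X) isFP_structureModule m)
      ⟨by rw [hρ]; exact WithBot.coe_le_coe.2 hm, (isFlatOverAt_structureModule_iff f z).2 hfl⟩
    have h4 : ((m : ℕ) : WithBot ℕ∞) ≤ ((ρ' : ℕ∞) : WithBot ℕ∞) := hρ' ▸ h3.1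
    exact Nat.cast_le.1 (WithBot.coe_le_coe.1 h4)
  induction a using ENat.recTopCoe with
  | top => exact absurd (hρle (ρ' + 1) (by rw [top_add]; exact le_top)) (by omega)
  | coe b =>
    have hb := hρle (b + r) (by push_cast; exact le_rfl)
    have hg : ¬ ∃ c : ℕ, (b : ℕ∞) = c ∧ c < k ∧ c < d := fun hc => not_min_le_iff.2 hc hgood
    exact hg ⟨b, rfl, by omega, by omega⟩

/-- Along the flat locus the `(S_k)` locus of the fibres is open. -/
theorem isOpen_flat_hasSk_fibre {X S : Scheme.{u}} (f : X ⟶ S) [LocallyOfFinitePresentation f] (k : ℕ) :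
    IsOpen {x : X | (f.stalkMap x).hom.Flat ∧ LocCoh.HasSk k ((f.fiber (f.base x)).presheaf.stalk (f.asFiber x))
      ((f.fiber (f.base x)).presheaf.stalk (f.asFiber x))} := by
  rw [isOpen_iff_forall_mem_open]
  rintro x ⟨hfl, hx⟩
  obtain ⟨_, ⟨V, hV, rfl⟩, hxV, hVfl⟩ := X.isBasis_affineOpens.exists_subset_of_mem_open
    (show x ∈ {x : X | (f.stalkMap x).hom.Flat} from hfl) (FlatLib.isOpen_setOf_flat_stalkMap f)
  let G : Set X := {x : X | LocCoh.HasSk k ((f.fiber (f.base x)).presheaf.stalk (f.asFiber x))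
    ((f.fiber (f.base x)).presheaf.stalk (f.asFiber x))}
  have hc : IsConstructible (hV.fromSpec.base ⁻¹' G) :=
    (ConsLib.isLocallyConstructible_preimage hV.fromSpec
      (isLocallyConstructible_hasSk_fibre f k)).isConstructible
  have hmem : ∀ Q, hV.fromSpec.base Q ∈ V := fun Q => by
    have h1 : hV.fromSpec.base Q ∈ Set.range hV.fromSpec := ⟨Q, rfl⟩
    rwa [hV.range_fromSpec] at h1
  have ho : IsOpen (hV.fromSpec.base ⁻¹' G) := by
    rw [← isClosed_compl_iff]
    refine isClosed_of_closure_subset fun b hb hbG => ?_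
    obtain ⟨a, ha, hab⟩ := Groth.Agent.ProConsLib.exists_specializes_of_mem_closure
      (Groth.Agent.ProConsLib.isClopen_cons_of_isConstructible hc.compl).1 hb
    exact ha (hasSk_fibre_of_specializes f k (hab.map hV.fromSpec.continuous) (hVfl (hmem b)) hbG)
  refine ⟨hV.fromSpec '' (hV.fromSpec.base ⁻¹' G), ?_, hV.fromSpec.isOpenEmbedding.isOpenMap _ ho,
    hV.primeIdealOf ⟨x, hxV⟩, ?_, hV.fromSpec_primeIdealOf ⟨x, hxV⟩⟩
  · rintro _ ⟨Q, hQ, rfl⟩
    exact ⟨hVfl (hmem Q), hQ⟩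
  · show hV.fromSpec (hV.primeIdealOf ⟨x, hxV⟩) ∈ G
    rw [hV.fromSpec_primeIdealOf]
    exact hx

end DepthLib
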