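import Groth.Agent.CommAlgDim.GlobalDim
import Groth.Agent.CommAlgDim.Depth
import Mathlib

/-! # The Auslander–Buchsbaum formula over regular local rings -/

set_option autoImplicit false
universe u

open IsLocalRing RingTheory.Sequence CommAlgDim Pointwise

namespace DepthLib

theorem hasSeqIn_of_surjective {R S : Type u} [CommRing R] [CommRing S] [IsLocalRing R] [IsLocalRing S] [Algebra R S]
    (hs : Function.Surjective (algebraMap R S)) (M : Type u) [AddCommGroup M] [Module R M] [Module S M]
    [IsScalarTower R S M] (n : ℕ) :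
    HasSeqIn (maximalIdeal R) M n ↔ HasSeqIn (maximalIdeal S) M n := by
  haveI : IsLocalHom (algebraMap R S) := IsLocalHom.of_surjective _ hs
  constructor
  · rintro ⟨rs, hl, hm, hr⟩
    refine ⟨rs.map (algebraMap R S), by simpa using hl, ?_, (isWeaklyRegular_map_algebraMap_iff S M rs).2 hr⟩
    intro r hr'
    obtain ⟨a, ha, rfl⟩ := List.mem_map.1 hr'
    exact IsLocalRing.map_maximalIdeal_le (algebraMap R S) (Ideal.mem_map_of_mem _ (hm a ha))
  · rintro ⟨rs, hl, hm, hr⟩
    choose g hg using hs
    have e : (rs.map g).map (algebraMap R S) = rs := by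
      rw [List.map_map]
      exact (List.map_congr_left (g := id) fun a _ => hg a).trans (List.map_id rs)
    refine ⟨rs.map g, by simpa using hl, ?_, (isWeaklyRegular_map_algebraMap_iff S M _).1 (e.symm ▸ hr)⟩
    intro r hr'
    obtain ⟨a, ha, rfl⟩ := List.mem_map.1 hr'
    by_contra hc
    have hu : IsUnit (algebraMap R S (g a)) := (notMem_maximalIdeal.1 hc).map _
    rw [hg a] at hu
    exact (IsLocalRing.maximalIdeal.isMaximal S).ne_top (Ideal.eq_top_of_isUnit_mem _ (hm a ha) hu)

theorem hasSeqIn_iff_pdlt_aux : ∀ (d : ℕ) (R : Type u) [CommRing R] [IsRegularLocalRing R],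
    (maximalIdeal R).spanFinrank = d → ∀ (M : Type u) [AddCommGroup M] [Module R M] [Module.Finite R M]
      (n : ℕ), n ≤ d → (HasSeqIn (maximalIdeal R) M n ↔ PDLT R M (d + 1 - n))
  | d, R, _, _, hd, M, _, _, _, 0, _ => by
    refine iff_of_true (hasSeqIn_zero _) ?_
    have h := pdlt_of_isRegularLocalRing R M
    rwa [hd] at h
  | 0, R, _, _, _, M, _, _, _, n + 1, hn => absurd hn (by omega)
  | d + 1, R, _, _, hd, M, _, _, _, n + 1, hn => by
    classical
    haveI : IsDomain R := CommAlgDim.isDomain_of_isRegularLocalRing R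
    have hmne : maximalIdeal R ≠ ⊥ := fun h0 => by rw [h0, Submodule.spanFinrank_bot] at hd; omega
    have hm2 : ∀ {x : R}, x ∉ maximalIdeal R ^ 2 → IsSMulRegular R x := fun hx2 =>
      isSMulRegular_of_ne_zero fun h => hx2 (h ▸ zero_mem _)
    have hquot : ∀ {x : R}, x ∈ maximalIdeal R → x ∉ maximalIdeal R ^ 2 →
        ∀ (N : Type u) [AddCommGroup N] [Module R N] [Module.Finite R N] (j : ℕ), j ≤ d →
          (HasSeqIn (maximalIdeal R) (QuotSMulTop x N) j ↔ PDLT (R ⧸ Ideal.span {x}) (QuotSMulTop x N) (d + 1 - j)) := by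
      intro x hx hx2 N _ _ _ j hj
      haveI := isRegularLocalRing_quotient_singleton hx hx2
      haveI : Module.Finite (R ⧸ Ideal.span {x}) (QuotSMulTop x N) := Module.Finite.of_restrictScalars_finite R _ _
      refine (hasSeqIn_of_surjective (R := R) (S := R ⧸ Ideal.span {x}) Ideal.Quotient.mk_surjective
        (QuotSMulTop x N) j).trans (hasSeqIn_iff_pdlt_aux d _ ?_ _ j hj)
      have := spanFinrank_maximalIdeal_quotient_singleton hx hx2
      omega
    have key : ∀ {x : R}, x ∈ maximalIdeal R → x ∉ maximalIdeal R ^ 2 → IsSMulRegular M x →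
        (HasSeqIn (maximalIdeal R) M (n + 1) ↔ PDLT R M (d + 1 + 1 - (n + 1))) := by
      intro x hx hx2 hxM
      have h1 : HasSeqIn (maximalIdeal R) M (n + 1) ↔ HasSeqIn (maximalIdeal R) (QuotSMulTop x M) n :=
        ⟨fun h => h.quotSMulTop hx hxM, fun h => hasSeqIn_succ_of_cons hx hxM h⟩
      rw [h1, hquot hx hx2 M n (by omega), show d + 1 + 1 - (n + 1) = (d - n) + 1 by omega,
        show d + 1 - n = (d - n) + 1 by omega, pdlt_quotSMulTop_iff hx (hm2 hx2) _ M hxM]
    by_cases hass : maximalIdeal R ∈ associatedPrimes R M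
    · refine iff_of_false (fun h => ?_) (fun h => ?_)
      · exact (hasSeqIn_one_iff _).1 (h.mono (Nat.le_add_left 1 n)) _ hass le_rfl
      · obtain ⟨x, hx, hx2, -⟩ := exists_mem_notMem_sq (R := R) Set.finite_empty (by simp) (by simp) hmne
        obtain ⟨z, hz⟩ := ((isAssociatedPrime_iff).1 hass).2
        have hzm : ∀ a ∈ maximalIdeal R, a • z = 0 := fun a ha => by
          rw [hz, Submodule.mem_colon_singleton, Submodule.mem_bot] at ha
          exact ha
        have hz0 : z ≠ 0 := by
          rintro rfl
          exact (maximalIdeal.isMaximal R).ne_top (by rw [hz, eq_top_iff]; intro a _; simp [Submodule.mem_colon_singleton])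
        obtain ⟨j, hj⟩ : ∃ j, d + 1 + 1 - (n + 1) = j + 1 := ⟨d - n, by omega⟩
        rw [hj] at h
        rcases j with _ | j
        · haveI := pdlt_one_iff.1 h
          haveI : Module.FinitePresentation R M := Module.finitePresentation_of_finite R M
          haveI : Module.Free R M := Module.free_of_flat_of_isLocalRing
          let b := Module.Free.chooseBasis R M
          refine hz0 (b.repr.map_eq_zero_iff.1 ?_)
          ext i
          have h0 : x * b.repr z i = 0 := by
            have := congrArg (fun w => b.repr w i) (hzm x hx)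
            simpa using this
          exact hm2 hx2 (h0.trans (mul_zero x).symm)
        · obtain ⟨k, f, hf⟩ := Module.Finite.exists_fin' R M
          have hK : IsSMulRegular (LinearMap.ker f) x := fun a b hab =>
            Subtype.ext (funext fun i => hm2 hx2 (congrFun (congrArg Subtype.val hab) i))
          have h2 : PDLT (R ⧸ Ideal.span {x}) (QuotSMulTop x (LinearMap.ker f)) (d + 1 - 1) := by
            refine PDLT.mono (show j + 1 ≤ d + 1 - 1 by omega) ?_
            exact (pdlt_quotSMulTop_iff hx (hm2 hx2) j _ hK).2 ((pdlt_ker_iff f hf j).1 h)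
          have h3 := (hquot hx hx2 (LinearMap.ker f) 1 (by omega)).2 h2
          obtain ⟨w, rfl⟩ := hf z
          have hxw : x • w ∈ LinearMap.ker f := by
            rw [LinearMap.mem_ker, map_smul]; exact hzm x hx
          obtain ⟨rs, hl, hmem, hr⟩ := h3
          obtain ⟨y, rfl⟩ := List.length_eq_one_iff.1 hl
          rw [isWeaklyRegular_singleton_iff] at hr
          have hy := hmem y (List.mem_singleton_self y)
          have hyw : y • w ∈ LinearMap.ker f := by
            rw [LinearMap.mem_ker, map_smul]; exact hzm y hy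
          have h4 : (Submodule.Quotient.mk (⟨x • w, hxw⟩ : LinearMap.ker f) : QuotSMulTop x (LinearMap.ker f)) = 0 := by
            refine hr (Eq.trans ?_ (smul_zero y).symm)
            show y • _ = _
            rw [← Submodule.Quotient.mk_smul, Submodule.Quotient.mk_eq_zero, Submodule.mem_smul_pointwise_iff_exists]
            exact ⟨⟨y • w, hyw⟩, trivial, Subtype.ext (smul_comm x y w)⟩
          rw [Submodule.Quotient.mk_eq_zero, Submodule.mem_smul_pointwise_iff_exists] at h4
          obtain ⟨v, -, hv⟩ := h4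
          have hvw : (v : Fin k → R) = w := funext fun i => hm2 hx2 (congrFun (congrArg Subtype.val hv) i)
          exact hz0 (hvw ▸ v.2)
    · obtain ⟨x, hx, hx2, hxA⟩ := exists_mem_notMem_sq (R := R) (associatedPrimes.finite R M)
        (fun P hP => hP.isPrime) (fun P hP he => hass (he ▸ hP)) hmne
      refine key hx hx2 ?_
      by_contra hcon
      have h1 : x ∈ ({r : R | IsSMulRegular M r})ᶜ := hcon
      rw [← biUnion_associatedPrimes_eq_compl_regular R M, Set.mem_iUnion₂] at h1
      obtain ⟨P, hP, hxP⟩ := h1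
      exact hxA P hP hxP

/-- Auslander–Buchsbaum: `n ≤ depth M` iff `pd M ≤ dim R - n`. -/
theorem le_depth_iff_pdlt (R : Type u) [CommRing R] [IsRegularLocalRing R] (M : Type u) [AddCommGroup M]
    [Module R M] [Module.Finite R M] {d : ℕ} (hd : ringKrullDim R = d) {n : ℕ} (hn : n ≤ d) :
    (n : ℕ∞) ≤ LocCoh.depth R M ↔ PDLT R M (d + 1 - n) := by
  rw [le_depth_iff]
  refine hasSeqIn_iff_pdlt_aux d R ?_ M n hn
  have h := (isRegularLocalRing_iff R).1 inferInstance
  rw [hd] at h
  exact_mod_cast h

/-- Over a regular local ring of dimension `d`, depth beyond `d` forces the module to vanish. -/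
theorem subsingleton_of_lt_depth (R : Type u) [CommRing R] [IsRegularLocalRing R] (M : Type u) [AddCommGroup M]
    [Module R M] [Module.Finite R M] {d : ℕ} (hd : ringKrullDim R = d)
    (h : ((d + 1 : ℕ) : ℕ∞) ≤ LocCoh.depth R M) : Subsingleton M := by
  by_contra hM
  rw [not_subsingleton_iff_nontrivial] at hM
  obtain ⟨rs, hl, hm, hr⟩ := (le_depth_iff _).1 h
  have hreg : IsRegular M rs := ⟨hr, fun h0 => by
    have := Submodule.eq_bot_of_le_smul_of_le_jacobson_bot (Ideal.ofList rs) (⊤ : Submodule R M) Module.Finite.fg_top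
      h0.le ((Ideal.span_le.2 hm).trans (jacobson_eq_maximalIdeal (⊥ : Ideal R) bot_ne_top).ge)
    exact top_ne_bot this⟩
  obtain ⟨P, hP⟩ := associatedPrimes.nonempty R M
  have h1 := CommAlgDim.length_le_ringKrullDim_of_mem_associatedPrimes rs M hreg P hP
  have h2 := h1.trans (ringKrullDim_quotient_le P)
  rw [hd, hl] at h2
  norm_cast at h2
  omega

end DepthLib
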