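import Groth.Agent.DepthLib.FibrePD
import Groth.Agent.DepthLib.AB
import Groth.Agent.FibDimLib.Formula
import Groth.Prelude.Def_CAlg
import Mathlib

/-! # The depth of the fibres and the rectified depth in terms of projective dimensions -/

set_option autoImplicit false
universe u

open IsLocalRing TensorProduct CommAlgDim

namespace DepthLib

variable (R : Type u) {P : Type u} [CommRing R] [CommRing P] [Algebra R P]

instance instIsLocalRingFibRing (q : PrimeSpectrum P) : IsLocalRing (FibRing R q) := isLocalRing_fibRing R q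

instance instIsNoetherianRingFibRing [Algebra.FiniteType R P] (q : PrimeSpectrum P) : IsNoetherianRing (FibRing R q) :=
  isNoetherianRing_fibRing R q

/-- The depth of the fibre of `M` at `q`, over the local ring of the fibre. -/
noncomputable def fibDep (M : Type u) [AddCommGroup M] [Module P M] (q : PrimeSpectrum P) : ℕ∞ :=
  LocCoh.depth (FibRing R q) (FibRing R q ⊗[P] M)

/-- Depth of a base change does not see passage to a quotient by annihilators. -/
theorem depth_baseChange_of_surjective {P B : Type u} [CommRing P] [CommRing B] [Algebra P B]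
    (hs : Function.Surjective (algebraMap P B)) (A : Type u) [CommRing A] [IsLocalRing A] [IsNoetherianRing A]
    [Algebra P A] (A' : Type u) [CommRing A'] [IsLocalRing A'] [Algebra B A'] [Algebra P A'] [IsScalarTower P B A']
    (g : A →ₐ[P] A') (hg : Function.Surjective g)
    (hker : RingHom.ker g.toRingHom ≤ (RingHom.ker (algebraMap P B)).map (algebraMap P A))
    (M : Type u) [AddCommGroup M] [Module B M] [Module P M] [IsScalarTower P B M] [Module.Finite B M] :
    LocCoh.depth A' (A' ⊗[B] M) = LocCoh.depth A (A ⊗[P] M) := by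
  haveI : Module.Finite P B := Module.Finite.of_surjective (Algebra.linearMap P B) hs
  haveI : Module.Finite P M := Module.Finite.trans B M
  haveI : IsNoetherianRing A' := isNoetherianRing_of_surjective A A' g.toRingHom hg
  letI : Algebra A A' := g.toRingHom.toAlgebra
  haveI : IsScalarTower P A A' := IsScalarTower.of_algebraMap_eq fun x => (g.commutes x).symm
  haveI : TensorProduct.CompatibleSMul P B A' M := ⟨fun b a m => by
    obtain ⟨x, rfl⟩ := hs b
    rw [algebraMap_smul, algebraMap_smul, smul_tmul]⟩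
  let φ : A ⊗[P] M →ₗ[A] A' ⊗[B] M :=
    AlgebraTensorModule.lift
      ((LinearMap.toSpanSingleton A (M →ₗ[P] A' ⊗[B] M)
        ((TensorProduct.mk B A' M 1).restrictScalars P)))
  have hφ : ∀ a m, φ (a ⊗ₜ[P] m) = g a ⊗ₜ[B] m := fun a m => by
    show a • ((1 : A') ⊗ₜ[B] m) = _
    rw [TensorProduct.smul_tmul', ← algebraMap_smul A' a (1 : A'), smul_eq_mul, mul_one]
    rfl
  have hsurj : Function.Surjective φ := fun z => by
    induction z with
    | zero => exact ⟨0, map_zero _⟩
    | tmul a' m => obtain ⟨a, rfl⟩ := hg a'; exact ⟨a ⊗ₜ m, hφ a m⟩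
    | add x y hx hy =>
      obtain ⟨a, rfl⟩ := hx
      obtain ⟨b, rfl⟩ := hy
      exact ⟨a + b, map_add _ _ _⟩
  -- the kernel of `g` kills the tensor product
  have hzero : ∀ k ∈ (RingHom.ker (algebraMap P B)).map (algebraMap P A), ∀ m : M, k ⊗ₜ[P] m = (0 : A ⊗[P] M) := by
    intro k hk
    refine Submodule.span_induction ?_ (fun m => zero_tmul _ m) ?_ ?_ hk
    · rintro _ ⟨x, hx, rfl⟩ m
      rw [Algebra.algebraMap_eq_smul_one, smul_tmul, ← algebraMap_smul B x m, RingHom.mem_ker.1 hx, zero_smul, tmul_zero]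
    · intro a b _ _ ha hb m
      rw [add_tmul, ha, hb, add_zero]
    · intro r a _ ha m
      rw [← smul_tmul', ha, smul_zero]
  let gl : A →ₗ[P] A' := g.toLinearMap
  have hinj : Function.Injective φ := by
    rw [injective_iff_map_eq_zero]
    intro z hz
    have h1 : gl.rTensor M z = 0 := by
      let e := TensorProduct.equivOfCompatibleSMul (R := P) (A := B) (S := P) (M := A') (N := M)
      apply e.symm.injective
      rw [map_zero, ← hz]
      clear hz
      induction z with
      | zero => simp
      | tmul a m => rw [hφ]; rfl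
      | add x y hx hy => simp only [map_add, hx, hy]
    have h2 : z ∈ LinearMap.range ((LinearMap.ker gl).subtype.rTensor M) := by
      rw [← LinearMap.exact_iff.1 (rTensor_exact M gl.exact_subtype_ker_map hg)]
      exact h1
    obtain ⟨w, rfl⟩ := h2
    clear hz h1
    induction w with
    | zero => simp
    | tmul k m => exact hzero _ (hker k.2) m
    | add x y hx hy => rw [map_add, hx, hy, add_zero]
  let e : (A ⊗[P] M) ≃ₗ[A] (A' ⊗[B] M) := LinearEquiv.ofBijective φ ⟨hinj, hsurj⟩
  refine ENat.eq_of_forall_natCast_le_iff fun n => ?_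
  rw [le_depth_iff, le_depth_iff]
  exact (hasSeqIn_of_surjective (R := A) (S := A') hg (A' ⊗[B] M) n).symm.trans
    ⟨fun h => h.congr e.symm, fun h => h.congr e⟩

section Quot

variable {B : Type u} [CommRing B] [Algebra R B] [Algebra P B] [IsScalarTower R P B]

theorem exists_fibRing_map (hs : Function.Surjective (algebraMap P B)) (c : PrimeSpectrum B) :
    ∃ g : FibRing R (PrimeSpectrum.comap (algebraMap P B) c) →ₐ[P] FibRing R c, Function.Surjective g ∧
      RingHom.ker g.toRingHom ≤ (RingHom.ker (algebraMap P B)).map (algebraMap P _) := by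
  set q := PrimeSpectrum.comap (algebraMap P B) c with hq
  let L := Localization.AtPrime q.asIdeal
  let L' := Localization.AtPrime c.asIdeal
  let f : L →ₐ[P] L' :=
    { Localization.localRingHom q.asIdeal c.asIdeal (algebraMap P B) rfl with
      commutes' := fun x => (Localization.localRingHom_to_map _ _ _ _ x).trans
        (IsScalarTower.algebraMap_apply P B L' x).symm }
  have hp : q.asIdeal.comap (algebraMap R P) = c.asIdeal.comap (algebraMap R B) := by
    rw [IsScalarTower.algebraMap_eq R P B, ← Ideal.comap_comap]; rfl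
  let I := (q.asIdeal.comap (algebraMap R P)).map (algebraMap R L)
  let I' := (c.asIdeal.comap (algebraMap R B)).map (algebraMap R L')
  have hf : f.toRingHom.comp (algebraMap R L) = algebraMap R L' := by
    refine RingHom.ext fun x => ?_
    show f (algebraMap R L x) = _
    rw [IsScalarTower.algebraMap_apply R P L, f.commutes, ← IsScalarTower.algebraMap_apply]
  have hI : I.map f.toRingHom = I' := by
    simp only [I, I', Ideal.map_map, hf, hp]
  have hfs : Function.Surjective f := fun z => by
    obtain ⟨b, ⟨t, ht⟩, rfl⟩ := IsLocalization.exists_mk'_eq c.asIdeal.primeCompl z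
    obtain ⟨x, rfl⟩ := hs b
    obtain ⟨s, rfl⟩ := hs t
    refine ⟨IsLocalization.mk' L x (⟨s, ht⟩ : q.asIdeal.primeCompl), ?_⟩
    exact Localization.localRingHom_mk' _ _ _ rfl x ⟨s, ht⟩
  let g : (L ⧸ I) →ₐ[P] (L' ⧸ I') := Ideal.Quotient.liftₐ I ((Ideal.Quotient.mkₐ P I').comp f) fun a ha => by
    show Ideal.Quotient.mk I' (f a) = 0
    rw [Ideal.Quotient.eq_zero_iff_mem, ← hI]
    exact Ideal.mem_map_of_mem _ ha
  have hg : ∀ a, g (Ideal.Quotient.mk I a) = Ideal.Quotient.mk I' (f a) := fun a => rfl
  refine ⟨g, fun z => ?_, fun z hz => ?_⟩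
  · obtain ⟨w, rfl⟩ := Ideal.Quotient.mk_surjective z
    obtain ⟨v, rfl⟩ := hfs w
    exact ⟨Ideal.Quotient.mk I v, hg v⟩
  · obtain ⟨a, rfl⟩ := Ideal.Quotient.mk_surjective z
    have ha : f a ∈ I.map f.toRingHom := by
      rw [hI, ← Ideal.Quotient.eq_zero_iff_mem, ← hg]; exact hz
    obtain ⟨i, hi, hia⟩ := (Ideal.mem_map_iff_of_surjective f.toRingHom hfs).1 ha
    have hd : f (a - i) = 0 := by rw [map_sub]; exact sub_eq_zero.2 hia.symm
    rw [show Ideal.Quotient.mk I a = Ideal.Quotient.mk I (a - i) by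
      rw [map_sub, Ideal.Quotient.eq_zero_iff_mem.2 hi, sub_zero]]
    obtain ⟨x, ⟨s, hsq⟩, hx⟩ := IsLocalization.exists_mk'_eq q.asIdeal.primeCompl (a - i)
    rw [← hx] at hd ⊢
    have h0 : algebraMap B L' (algebraMap P B x) = 0 := by
      rw [← IsScalarTower.algebraMap_apply, ← f.commutes, ← IsLocalization.mk'_spec L x ⟨s, hsq⟩, map_mul, hd, zero_mul]
    obtain ⟨⟨t, ht⟩, htx⟩ := (IsLocalization.map_eq_zero_iff c.asIdeal.primeCompl L' _).1 h0
    obtain ⟨t', rfl⟩ := hs t
    have hk : t' * x ∈ RingHom.ker (algebraMap P B) := by rw [RingHom.mem_ker, map_mul]; exact htx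
    have h1 : IsLocalization.mk' L x ⟨s, hsq⟩ =
        IsLocalization.mk' L 1 (⟨t', ht⟩ * ⟨s, hsq⟩ : q.asIdeal.primeCompl) * algebraMap P L (t' * x) := by
      rw [← IsLocalization.mk'_one (M := q.asIdeal.primeCompl) L (t' * x), ← IsLocalization.mk'_mul, one_mul, mul_one,
        mul_comm t' x, mul_comm (⟨t', ht⟩ : q.asIdeal.primeCompl) ⟨s, hsq⟩]
      exact (IsLocalization.mk'_cancel (S := L) x ⟨s, hsq⟩ ⟨t', ht⟩).symm
    rw [h1, map_mul]
    refine Ideal.mul_mem_left _ _ ?_
    exact Ideal.mem_map_of_mem _ hk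

theorem fibDep_of_surjective [Algebra.FiniteType R P] (hs : Function.Surjective (algebraMap P B))
    (M : Type u) [AddCommGroup M] [Module B M] [Module P M] [IsScalarTower P B M] [Module.Finite B M]
    (c : PrimeSpectrum B) :
    fibDep R M c = fibDep R (P := P) M (PrimeSpectrum.comap (algebraMap P B) c) := by
  obtain ⟨g, hg, hk⟩ := exists_fibRing_map R hs c
  exact depth_baseChange_of_surjective hs _ (FibRing R c) g hg hk M

end Quot

theorem fibDep_eq_of_equiv [Algebra.FiniteType R P] (M : Type u) [AddCommGroup M] [Module P M] [Module.Finite P M]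
    (c : PrimeSpectrum P) (F : Type u) [CommRing F] [IsLocalRing F] [Algebra P F] (e : FibRing R c ≃ₐ[P] F) :
    LocCoh.depth F (F ⊗[P] M) = fibDep R M c :=
  depth_baseChange_of_surjective (P := P) (B := P) (fun x => ⟨x, rfl⟩) (FibRing R c) F e.toAlgHom e.surjective
    (fun z hz => by
      rw [show z = 0 from e.injective ((RingHom.mem_ker.1 hz).trans (map_zero e).symm)]
      exact Ideal.zero_mem _) M

theorem pdlt_zero_iff {A : Type u} [CommRing A] {M : Type u} [AddCommGroup M] [Module A M] :
    PDLT A M 0 ↔ Subsingleton M :=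
  (CategoryTheory.hasProjectiveDimensionLT_zero_iff_isZero (X := ModuleCat.of A M)).trans
    ModuleCat.isZero_iff_subsingleton

/-- Over a regular local ring of dimension `d` of a variety of dimension `d + e`, the bound on the
rectified depth is a bound on the projective dimension. -/
theorem le_depth_add_iff (A : Type u) [CommRing A] [IsRegularLocalRing A] (M : Type u) [AddCommGroup M]
    [Module A M] [Module.Finite A M] {d : ℕ} (hd : ringKrullDim A = d) (e m : ℕ) :
    ((m : ℕ) : ℕ∞) ≤ LocCoh.depth A M + (e : ℕ∞) ↔ PDLT A M (d + e + 1 - m) := by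
  rcases le_or_gt m e with h1 | h1
  · refine iff_of_true ((Nat.cast_le.2 h1).trans le_add_self) ?_
    have h0 : ((0 : ℕ) : ℕ∞) ≤ LocCoh.depth A M := zero_le'
    exact PDLT.mono (by omega) ((le_depth_iff_pdlt A M hd (Nat.zero_le d)).1 h0)
  obtain ⟨k, rfl⟩ := Nat.exists_eq_add_of_le h1.le
  rw [show d + e + 1 - (e + k) = d + 1 - k by omega, Nat.cast_add, add_comm (LocCoh.depth A M),
    (ENat.addLECancellable_of_ne_top (ENat.coe_ne_top e)).add_le_add_iff_left]
  rcases le_or_gt k d with hk | hk
  · exact le_depth_iff_pdlt A M hd hk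
  · rw [show d + 1 - k = 0 by omega, pdlt_zero_iff]
    refine ⟨fun h => subsingleton_of_lt_depth A M hd ((Nat.cast_le.2 hk).trans h), fun h => ?_⟩
    rw [le_depth_iff]
    exact hasSeqIn_of_subsingleton _ _

/-- The fibres of affine space: regular local rings, with the dimension complementary to the closure. -/
theorem fibRing_mvPolynomial {σ : Type u} [Finite σ] (q : PrimeSpectrum (MvPolynomial σ R))
    (p : Ideal R) [p.IsPrime] (hp : p = q.asIdeal.comap (algebraMap R (MvPolynomial σ R)))
    (Q : Ideal (p.Fiber (MvPolynomial σ R))) [Q.IsPrime]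
    (hQ : Q.comap (Algebra.TensorProduct.includeRight :
      MvPolynomial σ R →ₐ[R] p.Fiber (MvPolynomial σ R)).toRingHom = q.asIdeal) :
    IsRegularLocalRing (FibRing R q) ∧ ∃ d e : ℕ, ringKrullDim (FibRing R q) = d ∧
      ringKrullDim (p.Fiber (MvPolynomial σ R) ⧸ Q) = e ∧ d + e = Nat.card σ := by
  subst hp
  obtain ⟨θ, -⟩ := CMFlatLib.exists_fibreLocal_equiv _ Q q.asIdeal hQ
  set k := (q.asIdeal.comap (algebraMap R (MvPolynomial σ R))).ResidueField
  let F := k ⊗[R] MvPolynomial σ R
  let eF : F ≃ₐ[k] MvPolynomial σ k := MvPolynomial.scalarRTensorAlgEquiv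
  haveI : IsRegularRing (MvPolynomial σ k) := inferInstance
  haveI : IsRegularRing F := IsRegularRing.of_ringEquiv eF.symm.toRingEquiv
  haveI : IsDomain F := eF.toRingEquiv.toMulEquiv.isDomain _
  haveI : Algebra.FiniteType k F := Algebra.FiniteType.equiv inferInstance eF.symm
  haveI hreg : IsRegularLocalRing (Localization.AtPrime Q) := IsRegularRing.isRegularLocalRing_localization Q
  refine ⟨@IsRegularLocalRing.of_ringEquiv _ _ hreg _ _ θ.symm, ?_⟩
  obtain ⟨e, he, -⟩ := FibDimLib.ringKrullDim_quotient_eq_trdeg k Q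
  have hN : ringKrullDim F = (Nat.card σ : WithBot ℕ∞) := by
    rw [ringKrullDim_eq_of_ringEquiv eF.toRingEquiv, MvPolynomial.ringKrullDim_of_isNoetherianRing,
      ringKrullDim_eq_zero_of_field, zero_add]
  have h := FibDimLib.ringKrullDim_quotient_add_height_affine k F Q
  rw [← IsLocalization.AtPrime.ringKrullDim_eq_height Q (Localization.AtPrime Q), he, hN] at h
  obtain ⟨d, hd⟩ := CommAlgDim.exists_ringKrullDim_eq (R := Localization.AtPrime Q)
  refine ⟨d, e, (ringKrullDim_eq_of_ringEquiv θ).trans hd, he, ?_⟩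
  rw [hd] at h
  have : e + d = Nat.card σ := by exact_mod_cast h
  omega

/-- The rectified depth of the fibres of a quotient of a polynomial ring. -/
theorem le_fibDep_add_iff {σ : Type u} [Finite σ] {B : Type u} [CommRing B] [Algebra R B]
    [Algebra (MvPolynomial σ R) B] [IsScalarTower R (MvPolynomial σ R) B]
    (hs : Function.Surjective (algebraMap (MvPolynomial σ R) B))
    (M : Type u) [AddCommGroup M] [Module B M] [Module (MvPolynomial σ R) M] [IsScalarTower (MvPolynomial σ R) B M]
    [Module.Finite B M] (c : PrimeSpectrum B)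
    (p : Ideal R) [p.IsPrime] (hp : p = c.asIdeal.comap (algebraMap R B))
    (Q : Ideal (p.Fiber B)) [Q.IsPrime]
    (hQ : Q.comap (Algebra.TensorProduct.includeRight : B →ₐ[R] p.Fiber B).toRingHom = c.asIdeal) (m : ℕ) :
    ((m : ℕ) : WithBot ℕ∞) ≤ (fibDep R M c : WithBot ℕ∞) + ringKrullDim (p.Fiber B ⧸ Q) ↔
      PrimeSpectrum.comap (algebraMap (MvPolynomial σ R) B) c ∈
        fibPD R (P := MvPolynomial σ R) M (Nat.card σ + 1 - m) := by
  let π : MvPolynomial σ R →ₐ[R] B := IsScalarTower.toAlgHom R (MvPolynomial σ R) B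
  let t : p.Fiber (MvPolynomial σ R) →ₐ[R] p.Fiber B := Algebra.TensorProduct.map (AlgHom.id R p.ResidueField) π
  have ht : Function.Surjective t := TensorProduct.map_surjective Function.surjective_id hs
  set q := PrimeSpectrum.comap (algebraMap (MvPolynomial σ R) B) c with hqdef
  let Q' := Q.comap t.toRingHom
  have hQ' : Q'.comap (Algebra.TensorProduct.includeRight :
      MvPolynomial σ R →ₐ[R] p.Fiber (MvPolynomial σ R)).toRingHom = q.asIdeal := by
    rw [hqdef, PrimeSpectrum.comap_asIdeal, ← hQ, Ideal.comap_comap, Ideal.comap_comap]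
    congr 1
    -- done
  have hpq : p = q.asIdeal.comap (algebraMap R (MvPolynomial σ R)) := by
    rw [hp, hqdef, PrimeSpectrum.comap_asIdeal, Ideal.comap_comap, ← IsScalarTower.algebraMap_eq]
  obtain ⟨hreg, d, e, hd, he, hde⟩ := fibRing_mvPolynomial R q p hpq Q' hQ'
  haveI : Module.Finite (MvPolynomial σ R) B := Module.Finite.of_surjective (Algebra.linearMap _ B) hs
  haveI : Module.Finite (MvPolynomial σ R) M := Module.Finite.trans B M
  have hdim : ringKrullDim (p.Fiber B ⧸ Q) = (e : WithBot ℕ∞) := by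
    rw [← he]
    let g := (Ideal.Quotient.mk Q).comp t.toRingHom
    have hk : RingHom.ker g = Q' := by
      ext x
      simp [g, Q', Ideal.Quotient.eq_zero_iff_mem]
    exact ringKrullDim_eq_of_ringEquiv
      ((Ideal.quotEquivOfEq hk.symm).trans
        (RingHom.quotientKerEquivOfSurjective (f := g) (Ideal.Quotient.mk_surjective.comp ht))).symm
  rw [fibDep_of_surjective R hs M c, hdim, show Nat.card σ = d + e from hde.symm]
  refine Iff.trans ?_ (le_depth_add_iff (FibRing R q) (FibRing R q ⊗[MvPolynomial σ R] M) hd e m)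
  exact WithBot.coe_le_coe (a := ((m : ℕ) : ℕ∞)) (b := fibDep R (P := MvPolynomial σ R) M q + (e : ℕ∞))

end DepthLib
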