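import Groth.Agent.DepthLib.LocalPD
import Groth.Agent.CommAlgDim.LocPD
import Groth.Agent.RegFlatLib.Basic
import Groth.Agent.CMFlatLib.BaseChange
import Groth.Agent.CMFlatLib.Fibre
import Mathlib

/-! # Projective dimension of the fibres: openness and base change -/

set_option autoImplicit false
universe u

open IsLocalRing TensorProduct CommAlgDim

namespace DepthLib

variable (R : Type u) {P : Type u} [CommRing R] [CommRing P] [Algebra R P]

/-- The local ring at `q` of the fibre through `q`. -/
abbrev FibRing (q : PrimeSpectrum P) : Type u :=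
  Localization.AtPrime q.asIdeal ⧸ (q.asIdeal.comap (algebraMap R P)).map (algebraMap R (Localization.AtPrime q.asIdeal))

variable (M : Type u) [AddCommGroup M] [Module P M]

/-- The primes at which the fibre module has projective dimension less than `n`. -/
def fibPD (n : ℕ) : Set (PrimeSpectrum P) :=
  {q | PDLT (FibRing R q) (FibRing R q ⊗[P] M) n}

theorem fib_le_maximalIdeal (q : PrimeSpectrum P) :
    (q.asIdeal.comap (algebraMap R P)).map (algebraMap R (Localization.AtPrime q.asIdeal)) ≤
      maximalIdeal (Localization.AtPrime q.asIdeal) := by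
  rw [IsScalarTower.algebraMap_eq R P (Localization.AtPrime q.asIdeal), ← Ideal.map_map,
    ← Localization.AtPrime.map_eq_maximalIdeal]
  exact Ideal.map_mono Ideal.map_comap_le

theorem isLocalRing_fibRing (q : PrimeSpectrum P) : IsLocalRing (FibRing R q) :=
  GorLib.isLocalRing_quotient (ne_top_of_le_ne_top (IsLocalRing.maximalIdeal.isMaximal _).ne_top (fib_le_maximalIdeal R q))

theorem isNoetherianRing_fibRing [Algebra.FiniteType R P] (q : PrimeSpectrum P) : IsNoetherianRing (FibRing R q) := by
  let p := q.asIdeal.comap (algebraMap R P)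
  let E := PrimeSpectrum.preimageOrderIsoFiber R P ⟨p, inferInstance⟩
  let Q := E ⟨q, rfl⟩
  have hQ : Q.asIdeal.comap (Algebra.TensorProduct.includeRight : P →ₐ[R] p.Fiber P).toRingHom = q.asIdeal :=
    congrArg (fun z ↦ z.1.asIdeal) (E.symm_apply_apply ⟨q, rfl⟩)
  obtain ⟨θ, -⟩ := CMFlatLib.exists_fibreLocal_equiv p Q.asIdeal q.asIdeal hQ
  haveI : IsNoetherianRing (p.Fiber P) := Algebra.FiniteType.isNoetherianRing p.ResidueField _
  exact isNoetherianRing_of_ringEquiv _ θ.symm

theorem mem_fibPD_iff_pdltAt [IsNoetherianRing P] [Module.Flat R P] [Module R M] [IsScalarTower R P M]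
    [Module.Flat R M] [Module.Finite P M] (q : PrimeSpectrum P) (n : ℕ) :
    q ∈ fibPD R (P := P) M (n + 1) ↔ PDLTAt P M q (n + 1) := by
  let L := Localization.AtPrime q.asIdeal
  haveI : Module.Flat R L := Module.Flat.trans R P L
  let e : LocalizedModule q.asIdeal.primeCompl M ≃ₗ[L] L ⊗[P] M := LocalizedModule.equivTensorProduct _ M
  haveI : Module.Flat R (LocalizedModule q.asIdeal.primeCompl M) :=
    FlatLib.flat_localized q.asIdeal.primeCompl (LocalizedModule.mkLinearMap _ _)
  haveI : Module.Flat R (L ⊗[P] M) := Module.Flat.of_linearEquiv (e.restrictScalars R).symm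
  rw [PDLTAt, PDLT.congr e, ← pdlt_fibre_iff R _ (fib_le_maximalIdeal R q) n (L ⊗[P] M)]
  exact PDLT.congr (AlgebraTensorModule.cancelBaseChange P L (FibRing R q) (FibRing R q) M).symm

theorem isOpen_fibPD [IsNoetherianRing P] [Module.Flat R P] [Module R M] [IsScalarTower R P M]
    [Module.Flat R M] [Module.Finite P M] (n : ℕ) : IsOpen (fibPD R (P := P) M (n + 1)) := by
  simp only [fibPD]
  convert isOpen_setOf_pdltAt (A := P) n M using 1
  ext q
  exact mem_fibPD_iff_pdltAt R M q n

theorem pdlt_baseChange (A : Type u) [CommRing A] [IsNoetherianRing A] (B : Type u) [CommRing B] [Algebra A B]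
    [Module.Flat A B] : ∀ (n : ℕ) (N : Type u) [AddCommGroup N] [Module A N] [Module.Finite A N],
      PDLT A N (n + 1) → PDLT B (B ⊗[A] N) (n + 1)
  | 0, N, _, _, _, h => by
    have := pdlt_one_iff.1 h
    exact pdlt_one_iff.2 inferInstance
  | n + 1, N, _, _, _, h => by
    obtain ⟨k, φ, hφ⟩ := Module.Finite.exists_fin' A N
    rw [pdlt_ker_iff φ hφ n] at h
    have hs : Function.Surjective (AlgebraTensorModule.lTensor B B φ) :=
      LinearMap.lTensor_surjective B hφ
    exact (pdlt_ker_iff _ hs n).2 (PDLT.of_equiv (LinearMap.tensorKerEquiv B B φ) (pdlt_baseChange A B n _ h))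

theorem flat_algebraMap_tensor {k C K D : Type u} [Field k] [CommRing C] [Algebra k C] [CommRing K] [Algebra k K]
    [CommRing D] (Φ : C ⊗[k] K ≃+* D) : (Φ.toRingHom.comp (algebraMap C (C ⊗[k] K))).Flat :=
  (RingHom.flat_algebraMap_iff.2 inferInstance).comp (RingHom.Flat.of_bijective (f := Φ.toRingHom) Φ.bijective)

omit [Algebra R P] in
/-- Projective dimension of a module after a faithfully flat change of rings over the base. -/
theorem pdlt_tower_iff {A B P₁ : Type u} [CommRing A] [IsLocalRing A] [IsNoetherianRing A] [CommRing B] [IsLocalRing B]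
    [CommRing P₁] [Algebra P P₁] [Algebra P A] [Algebra P B] [Algebra P₁ B] [IsScalarTower P P₁ B]
    [Module.Finite P M] (h : A →+* B) [IsLocalHom h] (hflat : h.Flat)
    (hb : ∀ b : P, h (algebraMap P A b) = algebraMap P B b) (n : ℕ) :
    PDLT B (B ⊗[P₁] (P₁ ⊗[P] M)) (n + 1) ↔ PDLT A (A ⊗[P] M) (n + 1) := by
  letI : Algebra A B := h.toAlgebra
  haveI : Module.Flat A B := hflat
  haveI : IsLocalHom (algebraMap A B) := ‹IsLocalHom h›
  haveI : Module.FaithfullyFlat A B := Module.FaithfullyFlat.of_flat_of_isLocalHom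
  haveI : IsScalarTower P A B := IsScalarTower.of_algebraMap_eq fun b => (hb b).symm
  rw [PDLT.congr ((AlgebraTensorModule.cancelBaseChange P P₁ B B M).trans
    (AlgebraTensorModule.cancelBaseChange P A B B M).symm)]
  exact ⟨RegFlatLib.pdlt_of_baseChange _ _ n _, pdlt_baseChange _ _ n _⟩

theorem flat_localRingHom {F F' : Type u} [CommRing F] [CommRing F'] (φ : F →+* F') (hφ : φ.Flat)
    (Q' : Ideal F') [Q'.IsPrime] : (Localization.localRingHom (Q'.comap φ) Q' φ rfl).Flat := by
  letI := φ.toAlgebra
  haveI : Module.Flat F F' := hφ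
  haveI : Module.Flat F (Localization.AtPrime Q') := Module.Flat.trans F F' _
  letI := (Localization.localRingHom (Q'.comap φ) Q' φ rfl).toAlgebra
  haveI : IsScalarTower F (Localization.AtPrime (Q'.comap φ)) (Localization.AtPrime Q') :=
    IsScalarTower.of_algebraMap_eq fun x => (Localization.localRingHom_to_map _ _ _ rfl x).symm
  show Module.Flat (Localization.AtPrime (Q'.comap φ)) (Localization.AtPrime Q')
  exact (Module.flat_iff_of_isLocalization (Localization.AtPrime (Q'.comap φ)) (Q'.comap φ).primeCompl _).2 inferInstance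

variable (R' : Type u) [CommRing R'] [Algebra R R'] {P' : Type u} [CommRing P'] [Algebra R' P'] [Algebra P P']
  [Algebra R P'] [IsScalarTower R R' P'] [IsScalarTower R P P'] [Algebra.IsPushout R R' P P']

set_option backward.isDefEq.respectTransparency false in
/-- The local map of fibre rings is flat. -/
theorem exists_flat_fibHom (q' : PrimeSpectrum P') (q : PrimeSpectrum P) (hq : q = PrimeSpectrum.comap (algebraMap P P') q') :
    ∃ h : FibRing R q →+* FibRing R' q', IsLocalHom h ∧ h.Flat ∧
      ∀ b : P, h (algebraMap P (FibRing R q) b) = algebraMap P' (FibRing R' q') (algebraMap P P' b) := by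
  subst hq
  let q := PrimeSpectrum.comap (algebraMap P P') q'
  let p := q.asIdeal.comap (algebraMap R P)
  let p' := q'.asIdeal.comap (algebraMap R' P')
  have hp : p = p'.comap (algebraMap R R') := by
    show (q'.asIdeal.comap (algebraMap P P')).comap _ = (q'.asIdeal.comap _).comap _
    rw [Ideal.comap_comap, Ideal.comap_comap, ← IsScalarTower.algebraMap_eq, ← IsScalarTower.algebraMap_eq]
  letI := (Ideal.ResidueField.map p p' (algebraMap R R') hp).toAlgebra
  haveI : IsScalarTower R p.ResidueField p'.ResidueField := IsScalarTower.of_algebraMap_eq fun a => by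
    show _ = Ideal.ResidueField.map p p' (algebraMap R R') hp (algebraMap R p.ResidueField a)
    rw [Ideal.ResidueField.map_algebraMap, IsScalarTower.algebraMap_apply R R' p'.ResidueField]
  obtain ⟨Φ, hΦ⟩ := GorLib.exists_fibre_comparison (S := P) (S' := P') p p' hp
  let T := (p.Fiber P) ⊗[p.ResidueField] p'.ResidueField
  let E := PrimeSpectrum.preimageOrderIsoFiber R' P' ⟨p', inferInstance⟩
  let Q' := E ⟨q', rfl⟩
  have hQ' : Q'.asIdeal.comap (Algebra.TensorProduct.includeRight : P' →ₐ[R'] p'.Fiber P').toRingHom = q'.asIdeal :=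
    congrArg (fun z ↦ z.1.asIdeal) (E.symm_apply_apply ⟨q', rfl⟩)
  let φ : p.Fiber P →+* p'.Fiber P' := Φ.toRingHom.comp (algebraMap (p.Fiber P) T)
  have hφ : φ.Flat := flat_algebraMap_tensor Φ
  let Q := Q'.asIdeal.comap φ
  have hφb : ∀ b : P, φ ((1 : p.ResidueField) ⊗ₜ[R] b) = (1 : p'.ResidueField) ⊗ₜ[R'] algebraMap P P' b := hΦ
  have hQ : Q.comap (Algebra.TensorProduct.includeRight : P →ₐ[R] p.Fiber P).toRingHom = q.asIdeal := by
    ext b
    show φ ((1 : p.ResidueField) ⊗ₜ[R] b) ∈ Q'.asIdeal ↔ algebraMap P P' b ∈ q'.asIdeal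
    rw [hφb]
    exact Set.ext_iff.1 (congrArg SetLike.coe hQ') (algebraMap P P' b)
  obtain ⟨θ, hθ⟩ := CMFlatLib.exists_fibreLocal_equiv p Q q.asIdeal hQ
  obtain ⟨θ', hθ'⟩ := CMFlatLib.exists_fibreLocal_equiv p' Q'.asIdeal q'.asIdeal hQ'
  let σ := Localization.localRingHom Q Q'.asIdeal φ rfl
  have hσ := flat_localRingHom φ hφ Q'.asIdeal
  haveI : IsLocalHom σ := Localization.isLocalHom_localRingHom _ _ _ rfl
  refine ⟨(θ'.symm.toRingHom.comp σ).comp θ.toRingHom, ?_, ?_, fun b => ?_⟩
  · exact ⟨fun x hx => by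
      have h1 : IsUnit (σ (θ x)) := by
        have h2 := hx.map θ'
        simpa using h2
      simpa using ((isUnit_map_iff σ (θ x)).1 h1).map θ.symm⟩
  · exact (RingHom.Flat.of_bijective (f := θ.toRingHom) θ.bijective).comp (hσ.comp (RingHom.Flat.of_bijective (f := θ'.symm.toRingHom) θ'.symm.bijective))
  · show θ'.symm (σ (θ (Ideal.Quotient.mk _ (algebraMap P _ b)))) = Ideal.Quotient.mk _ (algebraMap P' _ _)
    rw [hθ, RingEquiv.symm_apply_eq, hθ', Localization.localRingHom_to_map, hφb]

set_option backward.isDefEq.respectTransparency false in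
theorem fibPD_baseChange [Algebra.FiniteType R P] [Module.Finite P M] (n : ℕ) :
    fibPD R' (P := P') (P' ⊗[P] M) (n + 1) = PrimeSpectrum.comap (algebraMap P P') ⁻¹' fibPD R (P := P) M (n + 1) := by
  ext q'
  obtain ⟨h, hloc, hflat, hb⟩ := exists_flat_fibHom R (P := P) R' q' _ rfl
  haveI := hloc
  haveI := isLocalRing_fibRing R (PrimeSpectrum.comap (algebraMap P P') q')
  haveI := isLocalRing_fibRing R' q'
  haveI := isNoetherianRing_fibRing R (PrimeSpectrum.comap (algebraMap P P') q')
  exact pdlt_tower_iff M h hflat (fun b => (hb b).trans (IsScalarTower.algebraMap_apply P P' _ b).symm) n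

end DepthLib
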