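import Groth.Agent.DepthLib.AB
import Groth.Agent.DepthLib.FibDepth
import Groth.Agent.DepthLib.FibrePD
import Groth.Agent.EquidimLib.DimBetween
import Groth.Agent.FlatLib.QStalk
import Groth.Agent.QCohLib.AffineFinite
import Groth.Agent.QCohLib.Support
import Mathlib

/-! # Rectified depth on regular biequidimensional schemes -/

set_option autoImplicit false
universe u

open CategoryTheory AlgebraicGeometry Topology TensorProduct IsLocalRing CommAlgDim

namespace DepthLib

theorem pdlt_of_algEquiv {B L₁ L₂ : Type u} [CommRing B] [CommRing L₁] [CommRing L₂] [IsNoetherianRing L₁]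
    [Algebra B L₁] [Algebra B L₂] (e : L₁ ≃ₐ[B] L₂) (M : Type u) [AddCommGroup M] [Module B M] [Module.Finite B M]
    {n : ℕ} (h : PDLT L₁ (L₁ ⊗[B] M) (n + 1)) : PDLT L₂ (L₂ ⊗[B] M) (n + 1) := by
  letI := e.toAlgHom.toRingHom.toAlgebra
  haveI : IsScalarTower B L₁ L₂ := IsScalarTower.of_algebraMap_eq fun b => (e.commutes b).symm
  haveI : Module.Flat L₁ L₂ := RingHom.flat_algebraMap_iff.1 (RingHom.Flat.of_bijective e.bijective)
  exact PDLT.of_equiv (AlgebraTensorModule.cancelBaseChange B L₁ L₂ L₂ M) (pdlt_baseChange L₁ L₂ n _ h)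

variable {X : Scheme.{u}}

theorem finite_stalk (F : X.Modules) [Coh.IsQCoh F] (hF : CohB1.IsFT F) (x : X) :
    Module.Finite (X.presheaf.stalk x) (F.presheaf.stalk x) := by
  obtain ⟨_, ⟨V, hV, rfl⟩, hy, -⟩ :=
    X.isBasis_affineOpens.exists_subset_of_mem_open (Set.mem_univ x) isOpen_univ
  haveI := QCohLib.finite_of_isFT hF hV
  letI : Algebra Γ(X, V) (X.presheaf.stalk x) := (X.presheaf.germ V x hy).hom.toAlgebra
  haveI : IsLocalization.AtPrime (X.presheaf.stalk x) (hV.primeIdealOf ⟨x, hy⟩).asIdeal := hV.isLocalization_stalk ⟨x, hy⟩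
  letI := Module.compHom (F.presheaf.stalk x) (X.presheaf.germ V x hy).hom
  haveI : IsScalarTower Γ(X, V) (X.presheaf.stalk x) (F.presheaf.stalk x) :=
    IsScalarTower.of_algebraMap_smul fun _ _ => rfl
  haveI := FlatLib.isLocalizedModule_germLin F hV hy
  exact Module.Finite.equiv (IsLocalizedModule.isBaseChange (hV.primeIdealOf ⟨x, hy⟩).asIdeal.primeCompl
    (X.presheaf.stalk x) (FlatLib.germLin F hy)).equiv

/-- Bounds on the projective dimension of the stalks are open conditions. -/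
theorem isOpen_pdlt_stalk [IsLocallyNoetherian X] (F : X.Modules) [Coh.IsQCoh F] (hF : CohB1.IsFT F) (n : ℕ) :
    IsOpen {x : X | PDLT (X.presheaf.stalk x) (F.presheaf.stalk x) n} := by
  rcases n with _ | n
  · have h : {x : X | PDLT (X.presheaf.stalk x) (F.presheaf.stalk x) 0} = (CohB1.support F)ᶜ := by
      ext x
      refine Iff.trans ?_ not_not.symm
      exact (CategoryTheory.hasProjectiveDimensionLT_zero_iff_isZero (X := ModuleCat.of (X.presheaf.stalk x) (F.presheaf.stalk x))).trans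
        ModuleCat.isZero_iff_subsingleton
    rw [h]
    exact (QCohLib.isClosed_support F hF).isOpen_compl
  rw [isOpen_iff_forall_mem_open]
  intro x hx
  obtain ⟨_, ⟨V, hV, rfl⟩, hxV, -⟩ :=
    X.isBasis_affineOpens.exists_subset_of_mem_open (Set.mem_univ x) isOpen_univ
  haveI := QCohLib.finite_of_isFT hF hV
  haveI : IsNoetherianRing Γ(X, V) := IsLocallyNoetherian.component_noetherian ⟨V, hV⟩
  have key : ∀ (y : X) (hy : y ∈ V), PDLT (X.presheaf.stalk y) (F.presheaf.stalk y) (n + 1) ↔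
      PDLTAt Γ(X, V) Γ(F, V) (hV.primeIdealOf ⟨y, hy⟩) (n + 1) := by
    intro y hy
    let q := hV.primeIdealOf ⟨y, hy⟩
    let O := X.presheaf.stalk y
    letI : Algebra Γ(X, V) O := (X.presheaf.germ V y hy).hom.toAlgebra
    haveI : IsLocalization.AtPrime O q.asIdeal := hV.isLocalization_stalk ⟨y, hy⟩
    letI := Module.compHom (F.presheaf.stalk y) (X.presheaf.germ V y hy).hom
    haveI : IsScalarTower Γ(X, V) O (F.presheaf.stalk y) := IsScalarTower.of_algebraMap_smul fun _ _ => rfl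
    haveI := FlatLib.isLocalizedModule_germLin F hV hy
    let L := Localization.AtPrime q.asIdeal
    haveI : IsNoetherianRing L := IsLocalization.isNoetherianRing q.asIdeal.primeCompl _ inferInstance
    haveI : IsNoetherianRing O := IsLocalization.isNoetherianRing q.asIdeal.primeCompl _ inferInstance
    let e₁ := (IsLocalizedModule.isBaseChange q.asIdeal.primeCompl O (FlatLib.germLin F hy)).equiv
    let e₂ := (IsLocalizedModule.isBaseChange q.asIdeal.primeCompl L
      (LocalizedModule.mkLinearMap q.asIdeal.primeCompl Γ(F, V))).equiv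
    let e : L ≃ₐ[Γ(X, V)] O := IsLocalization.algEquiv q.asIdeal.primeCompl _ _
    show PDLT O (F.presheaf.stalk y) (n + 1) ↔ PDLT L (LocalizedModule q.asIdeal.primeCompl Γ(F, V)) (n + 1)
    rw [← PDLT.congr e₁, ← PDLT.congr e₂]
    exact ⟨pdlt_of_algEquiv e.symm _, pdlt_of_algEquiv e _⟩
  refine ⟨hV.fromSpec '' {q | PDLTAt Γ(X, V) Γ(F, V) q (n + 1)}, ?_,
    hV.fromSpec.isOpenEmbedding.isOpenMap _ (isOpen_setOf_pdltAt n _),
    hV.primeIdealOf ⟨x, hxV⟩, (key x hxV).1 hx, hV.fromSpec_primeIdealOf ⟨x, hxV⟩⟩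
  rintro _ ⟨q, hq, rfl⟩
  have hy : hV.fromSpec q ∈ V := by
    have h1 : hV.fromSpec q ∈ Set.range hV.fromSpec := ⟨q, rfl⟩
    rwa [hV.range_fromSpec] at h1
  refine (key _ hy).2 ?_
  rw [show hV.primeIdealOf ⟨hV.fromSpec q, hy⟩ = q from
    hV.fromSpec.isOpenEmbedding.injective (hV.fromSpec_primeIdealOf ⟨_, hy⟩)]
  exact hq

/-- On a regular biequidimensional scheme the dimensions of local ring and closure add up. -/
theorem exists_dims_of_biequidim [IsNoetherian X]
    (hreg : ∀ x : X, IsRegularLocalRing ↑(X.presheaf.stalk x))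
    (hfin : topologicalKrullDim X < ⊤)
    (hcomp : ∀ C ∈ irreducibleComponents (X : Type u), topologicalKrullDim ↥C = topologicalKrullDim X)
    (hchain : ∀ (y : X) (T : Set X), IsClosed T → IsIrreducible T → y ∈ T →
      topologicalKrullDim ↥T = topologicalKrullDim ↥(closure ({y} : Set X)) + topologicalKrullDim ↥{t : X | t ∈ T ∧ t ⤳ y})
    (x : X) : ∃ d r : ℕ, ringKrullDim (X.presheaf.stalk x) = (d : WithBot ℕ∞) ∧
      topologicalKrullDim ↥(closure ({x} : Set X)) = (r : WithBot ℕ∞) ∧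
      topologicalKrullDim X = ((d + r : ℕ) : WithBot ℕ∞) := by
  haveI := hreg x
  haveI : IsDomain (X.presheaf.stalk x) := CommAlgDim.isDomain_of_isRegularLocalRing _
  obtain ⟨g, hg, hgU⟩ : ∃ g : X, g ⤳ x ∧ ∀ v : X, v ⤳ x → g ⤳ v := by
    let g := EquidimLib.stalkPt x ⟨⊥, Ideal.isPrime_bot⟩
    refine ⟨g, EquidimLib.stalkPt_specializes x _, fun v hv => ?_⟩
    obtain ⟨p, rfl⟩ := EquidimLib.exists_stalkPt hv
    exact EquidimLib.specializes_stalkPt bot_le
  obtain ⟨T, hT, hgT⟩ : ∃ T ∈ irreducibleComponents (X : Type u), g ∈ T :=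
    ⟨_, irreducibleComponent_mem_irreducibleComponents g, mem_irreducibleComponent⟩
  have hTc : IsClosed T := isClosed_of_mem_irreducibleComponents T hT
  have hset : {t : X | t ∈ T ∧ t ⤳ x} = {v : X | v ⤳ x} :=
    Set.ext fun v => ⟨fun h => h.2, fun h => ⟨(hgU v h).mem_closed hTc hgT, h⟩⟩
  have h1 := hchain x T hTc hT.1 (hg.mem_closed hTc hgT)
  rw [hcomp T hT, hset, ← EquidimLib.stalk_dim_eq] at h1
  obtain ⟨d, hd⟩ : ∃ d : ℕ, ringKrullDim (X.presheaf.stalk x) = (d : WithBot ℕ∞) :=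
    ⟨_, ((isRegularLocalRing_iff _).1 (hreg x)).symm⟩
  have hne : Nonempty ↥(closure ({x} : Set X)) := ⟨⟨x, subset_closure rfl⟩⟩
  haveI : IrreducibleSpace ↥(closure ({x} : Set X)) :=
    Subtype.irreducibleSpace isIrreducible_singleton.closure
  obtain ⟨a, ha⟩ : ∃ a : ℕ∞, topologicalKrullDim ↥(closure ({x} : Set X)) = (a : WithBot ℕ∞) := by
    obtain ⟨a, ha⟩ := WithBot.ne_bot_iff_exists.1
      (show topologicalKrullDim ↥(closure ({x} : Set X)) ≠ ⊥ from fun h => by
        have := (Order.krullDim_eq_bot_iff.1 h)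
        exact this.elim ⟨Set.univ, IrreducibleSpace.isIrreducible_univ _, isClosed_univ⟩)
    exact ⟨a, ha.symm⟩
  rw [ha, hd] at h1
  induction a using ENat.recTopCoe with
  | top =>
    rw [h1, show ((d : ℕ) : WithBot ℕ∞) = ((d : ℕ∞) : WithBot ℕ∞) from rfl, ← WithBot.coe_add, top_add] at hfin
    exact absurd hfin (lt_irrefl _)
  | coe r => exact ⟨d, r, hd, ha, h1.trans (by norm_cast; omega)⟩

theorem le_depth_add_iff_pdlt (R : Type u) [CommRing R] [IsRegularLocalRing R] (M : Type u) [AddCommGroup M]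
    [Module R M] [Module.Finite R M] {d : ℕ} (hd : ringKrullDim R = d) (r n : ℕ) :
    (n : WithBot ℕ∞) ≤ ((LocCoh.depth R M : ℕ∞) : WithBot ℕ∞) + (r : WithBot ℕ∞) ↔ PDLT R M (d + r + 1 - n) := by
  rw [← le_depth_add_iff R M hd r n]
  exact_mod_cast Iff.rfl

theorem depth_add_projectiveDimension (R : Type u) [CommRing R] [IsRegularLocalRing R] (M : Type u) [AddCommGroup M]
    [Module R M] [Module.Finite R M] [Nontrivial M] {d : ℕ} (hd : ringKrullDim R = d) :
    ∃ b : ℕ, b ≤ d ∧ LocCoh.depth R M = (b : ℕ∞) ∧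
      projectiveDimension (ModuleCat.of R M) = ((d - b : ℕ) : WithBot ℕ∞) := by
  have htop : ¬ ((d + 1 : ℕ) : ℕ∞) ≤ LocCoh.depth R M := fun h =>
    not_subsingleton M (subsingleton_of_lt_depth R M hd h)
  obtain ⟨b, hb⟩ : ∃ b : ℕ, LocCoh.depth R M = (b : ℕ∞) := by
    cases hh : LocCoh.depth R M using ENat.recTopCoe with
    | top => exact absurd (hh ▸ le_top) htop
    | coe b => exact ⟨b, rfl⟩
  have hbd : b ≤ d := by
    by_contra h
    exact htop (hb ▸ Nat.cast_le.2 (show d + 1 ≤ b by omega))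
  refine ⟨b, hbd, hb, le_antisymm ?_ ?_⟩
  · rw [projectiveDimension_le_iff]
    have h := (le_depth_iff_pdlt R M hd hbd).1 hb.ge
    rwa [show d + 1 - b = (d - b) + 1 by omega] at h
  · rw [projectiveDimension_ge_iff]
    intro h
    rcases Nat.lt_or_ge b d with h' | h'
    · have h2 := (le_depth_iff_pdlt R M hd (show b + 1 ≤ d from h')).2
        (by rwa [show d + 1 - (b + 1) = d - b by omega])
      rw [hb, Nat.cast_le] at h2
      omega
    · rw [show d - b = 0 by omega] at h
      exact not_subsingleton M (ModuleCat.isZero_iff_subsingleton.1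
        ((CategoryTheory.hasProjectiveDimensionLT_zero_iff_isZero (X := ModuleCat.of R M)).1 h))

end DepthLib
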