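import Groth.Agent.DepthLib.GeomNormalOpen
import Mathlib

/-! # Openness of geometric reducedness of the fibres -/

set_option autoImplicit false
universe u

open CategoryTheory AlgebraicGeometry Topology IsLocalRing CommAlgDim UOpenLib

namespace DepthLib

theorem reduced_iff_r0_s1 (R : Type u) [CommRing R] [IsNoetherianRing R] :
    _root_.IsReduced R ↔ LocCoh.HasRk 0 R ∧ LocCoh.HasSk 1 R R :=
  ⟨fun _ => ⟨NormalLib.R0_of_isReduced, NormalLib.S1_of_isReduced⟩,
    fun h => NormalLib.isReduced_of_R0_S1 h.1 h.2⟩

/-- Geometric reducedness over a field is geometric `(R_0)` with `(S_1)`. -/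
theorem geomReduced_iff {k : Type u} [Field k] {F : Scheme.{u}} (f : F ⟶ Spec (CommRingCat.of k))
    [LocallyOfFinitePresentation f] (y : F) :
    FBase.IsGeomReducedAt f y ↔
      (∀ (K : Type u) [Field K] [Algebra k K] (y' : ↥(FBase.bc f K)), (FBase.bcπ f K).base y' = y →
          LocCoh.HasRk 0 ((FBase.bc f K).presheaf.stalk y')) ∧
        LocCoh.HasSk 1 (F.presheaf.stalk y) (F.presheaf.stalk y) := by
  have hnoe : ∀ (K : Type u) [Field K] [Algebra k K], IsLocallyNoetherian (FBase.bc f K) := fun K _ _ => by
    let str : FBase.bc f K ⟶ Spec (CommRingCat.of K) := Limits.pullback.snd f _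
    haveI : LocallyOfFiniteType str := MorphismProperty.pullback_snd _ _ inferInstance
    exact LocallyOfFiniteType.isLocallyNoetherian str
  haveI : IsLocallyNoetherian F := LocallyOfFiniteType.isLocallyNoetherian f
  constructor
  · intro h
    refine ⟨fun K _ _ y' hy' => ?_, ?_⟩
    · haveI := hnoe K
      exact ((reduced_iff_r0_s1 _).1 (h K y' hy')).1
    · haveI := hnoe k
      let g := Spec.map (CommRingCat.ofHom (algebraMap k k))
      let π : FBase.bc f k ⟶ F := FBase.bcπ f k
      have hgid : g = 𝟙 _ := by
        show Spec.map (CommRingCat.ofHom (algebraMap k k)) = _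
        rw [Algebra.algebraMap_self, CommRingCat.ofHom_id, Spec.map_id]
      haveI : IsIso g := hgid ▸ inferInstance
      haveI : IsIso π := inferInstanceAs (IsIso (Limits.pullback.fst f g))
      obtain ⟨y', hy'⟩ := π.surjective y
      haveI := h k y' hy'
      subst hy'
      haveI : _root_.IsReduced (F.presheaf.stalk (π y')) :=
        isReduced_of_injective ((asIso (π.stalkMap y')).commRingCatIsoToRingEquiv)
          ((asIso (π.stalkMap y')).commRingCatIsoToRingEquiv).injective
      exact ((reduced_iff_r0_s1 _).1 ‹_›).2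
  · rintro ⟨h1, h2⟩ K _ _ y' hy'
    haveI := hnoe K
    refine (reduced_iff_r0_s1 _).2 ⟨h1 K y' hy', hasSk_stalk_baseChange f K y' 1 ?_⟩
    rw [hy']
    exact h2

variable {X S : Scheme.{u}} (f : X ⟶ S)

/-- Geometric `(R_0)` passes to generizations of flat points with fibres without embedded components. -/
theorem geomR0_fibre_of_specializes [LocallyOfFinitePresentation f] {x' x : X} (hsp : x' ⤳ x)
    (hfl : (f.stalkMap x).hom.Flat)
    (h1 : ∀ (K : Type u) [Field K] [Algebra (IsLocalRing.ResidueField (S.presheaf.stalk (f.base x))) K]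
        (y : ↥(FBase.bc (f.fiberToSpecResidueField (f.base x)) K)),
        (FBase.bcπ (f.fiberToSpecResidueField (f.base x)) K).base y = f.asFiber x →
          LocCoh.HasRk 0 ((FBase.bc (f.fiberToSpecResidueField (f.base x)) K).presheaf.stalk y))
    (h2 : LocCoh.HasSk 1 ((f.fiber (f.base x)).presheaf.stalk (f.asFiber x))
      ((f.fiber (f.base x)).presheaf.stalk (f.asFiber x))) :
    ∀ (K : Type u) [Field K] [Algebra (IsLocalRing.ResidueField (S.presheaf.stalk (f.base x'))) K]
        (y : ↥(FBase.bc (f.fiberToSpecResidueField (f.base x')) K)),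
        (FBase.bcπ (f.fiberToSpecResidueField (f.base x')) K).base y = f.asFiber x' →
          LocCoh.HasRk 0 ((FBase.bc (f.fiberToSpecResidueField (f.base x')) K).presheaf.stalk y) := by
  haveI : ∀ s : S, LocallyOfFinitePresentation (f.fiberToSpecResidueField s) := fun s =>
    MorphismProperty.pullback_snd _ _ inferInstance
  haveI : Coh.IsQCoh (Coh.structureModule X) := QCohLib.isQCoh_unit
  haveI := isFP_structureModule (X := X)
  have hFT : CohB1.IsFT (Coh.structureModule X) := inferInstance
  haveI := lft_fiberToSpec f (f.base x)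
  haveI : IsLocallyNoetherian (f.fiber (f.base x)) :=
    LocallyOfFiniteType.isLocallyNoetherian (f.fiberToSpecResidueField (f.base x))
  have h2' : LocCoh.HasSk 1 ((f.fiber (f.base x)).presheaf.stalk (f.asFiber x))
      (((Scheme.Modules.pullback (f.fiberι (f.base x))).obj (Coh.structureModule X)).presheaf.stalk (f.asFiber x)) := by
    obtain ⟨e⟩ := nonempty_pullback_unit_stalk (f.fiberι (f.base x)) (f.asFiber x)
    exact hasSk_congr e.symm 1 h2
  have hflat := (isFlatOverAt_structureModule_iff f x).2 hfl
  by_contra hbad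
  obtain ⟨z', hfz', hz'x', hns', e', r', he', hr', hle'⟩ := (not_geomRk_fibre_iff f 0 x').1 hbad
  obtain ⟨d', r'', a', -, -, hr'', had', hs', hρ'⟩ :=
    exists_mod_numbers f (Coh.structureModule X) hFT (mem_support_structureModule f z')
  rw [suppDimAt_structureModule, he'] at hs'
  rw [hr'] at hr''
  have e1 : e' = d' + r'' := Nat.cast_injective hs'
  have e2 : r' = r'' := Nat.cast_injective hr''
  obtain ⟨z, hfz, hzx, hz'z, hzs, hzρ, hzr⟩ :=
    exists_spread_ass_at f (Coh.structureModule X) isFP_structureModule hFT (hz'x'.trans hsp) hflat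
      (mem_support_structureModule f z') (by rw [hρ', hr', show a' + r'' = r' by omega])
  have hflz : (f.stalkMap z).hom.Flat := hzx.mem_open (FlatLib.isOpen_setOf_flat_stalkMap f) hfl
  have hns : f.asFiber z ∉ (f.fiberToSpecResidueField (f.base z)).smoothLocus := fun h => hns'
    ((mem_smoothLocus_iff f z').1 (hz'z.mem_open f.smoothLocus.2
      ((mem_smoothLocus_iff f z).2 ⟨hflz, h⟩))).2
  obtain ⟨d, r, a, -, -, hr, -, hs, hρ⟩ :=
    exists_mod_numbers f (Coh.structureModule X) hFT (mem_support_structureModule f z)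
  rw [hρ, hr] at hzρ
  have e3 : a + r = r := Nat.cast_injective hzρ
  have hd : d = 0 := by
    by_contra hne
    exact (not_hasSk_mod_iff f (Coh.structureModule X) hFT 1 x).2
      ⟨z, hfz, hzx, hzs, d + r, a + r, r, hs, hρ, hr, by omega, by omega⟩ h2'
  rw [suppDimAt_structureModule] at hs
  exact (not_geomRk_fibre_iff f 0 x).2 ⟨z, hfz, hzx, hns, d + r, r, hs, hr, by omega⟩ h1

/-- For morphisms locally of finite presentation geometric reducedness of the fibres is open along the
flat locus. -/
theorem isOpen_flat_geomReduced [LocallyOfFinitePresentation f] :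
    IsOpen {x : X | (f.stalkMap x).hom.Flat ∧
      FBase.IsGeomReducedAt (f.fiberToSpecResidueField (f.base x)) (f.asFiber x)} := by
  haveI : ∀ s : S, LocallyOfFinitePresentation (f.fiberToSpecResidueField s) := fun s =>
    MorphismProperty.pullback_snd _ _ inferInstance
  have key : ∀ x, FBase.IsGeomReducedAt (f.fiberToSpecResidueField (f.base x)) (f.asFiber x) ↔
      x ∈ {x : X | ∀ (K : Type u) [Field K] [Algebra (IsLocalRing.ResidueField (S.presheaf.stalk (f.base x))) K]
        (y : ↥(FBase.bc (f.fiberToSpecResidueField (f.base x)) K)),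
        (FBase.bcπ (f.fiberToSpecResidueField (f.base x)) K).base y = f.asFiber x →
          LocCoh.HasRk 0 ((FBase.bc (f.fiberToSpecResidueField (f.base x)) K).presheaf.stalk y)} ∩
      {x : X | LocCoh.HasSk 1 ((f.fiber (f.base x)).presheaf.stalk (f.asFiber x))
        ((f.fiber (f.base x)).presheaf.stalk (f.asFiber x))} := fun x =>
    @geomReduced_iff _ _ _ (f.fiberToSpecResidueField (f.base x))
      (‹∀ s : S, LocallyOfFinitePresentation (f.fiberToSpecResidueField s)› (f.base x)) (f.asFiber x)
  simp only [key]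
  refine isOpen_inter_of_generization (O := {x : X | (f.stalkMap x).hom.Flat})
    (FlatLib.isOpen_setOf_flat_stalkMap f)
    ((isLocallyConstructible_geomRk_fibre f 0).inter (isLocallyConstructible_hasSk_fibre f 1)) ?_
  rintro x' x hsp hfl ⟨h1, h2⟩
  exact ⟨geomR0_fibre_of_specializes f hsp hfl h1 h2, hasSk_fibre_of_specializes f 1 hsp hfl h2⟩

end DepthLib
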