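import Groth.Agent.DepthLib.FibDepth
import Groth.Agent.KFlatLib.StalkPull
import Groth.Agent.FlatLib.QStalk
import Groth.Agent.S9501
import Groth.Prelude.Def_CInt
import Mathlib

/-! # The depth of a module restricted to a fibre, in affine charts -/

set_option autoImplicit false
universe u

open AlgebraicGeometry CategoryTheory TensorProduct CommAlgDim

namespace DepthLib

variable {X S : Scheme.{u}} (f : X ⟶ S) {U : S.Opens} {V : X.Opens}
  (hU : IsAffineOpen U) (hV : IsAffineOpen V) (hVU : V ≤ f ⁻¹ᵁ U) [Algebra Γ(S, U) Γ(X, V)]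
  (hAB : algebraMap Γ(S, U) Γ(X, V) = (f.appLE U V hVU).hom)

include hU hV hVU hAB in
/-- The local ring of the fibre is that of the fibre of the rings of sections, compatibly with the sections. -/
theorem exists_fibRing_equiv (s : S) (y : f.fiber s) (hy : f.fiberι s y ∈ V) :
    letI : Algebra Γ(X, V) ((f.fiber s).presheaf.stalk y) :=
      ((f.fiberι s).stalkMap y).hom.comp (X.presheaf.germ V _ hy).hom |>.toAlgebra
    Nonempty (FibRing Γ(S, U) (hV.primeIdealOf ⟨f.fiberι s y, hy⟩) ≃ₐ[Γ(X, V)] (f.fiber s).presheaf.stalk y) := by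
  letI : Algebra Γ(X, V) ((f.fiber s).presheaf.stalk y) :=
    ((f.fiberι s).stalkMap y).hom.comp (X.presheaf.germ V _ hy).hom |>.toAlgebra
  let A := Γ(S, U)
  let B := Γ(X, V)
  let z := f.fiberι s y
  let q := hV.primeIdealOf ⟨z, hy⟩
  let L := Localization.AtPrime q.asIdeal
  have hzU : f z ∈ U := hVU hy
  letI : Algebra B (X.presheaf.stalk z) := (X.presheaf.germ V z hy).hom.toAlgebra
  haveI : IsLocalization.AtPrime (X.presheaf.stalk z) q.asIdeal := hV.isLocalization_stalk ⟨z, hy⟩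
  let e0 : L ≃ₐ[B] X.presheaf.stalk z := IsLocalization.algEquiv q.asIdeal.primeCompl _ _
  let g : X.presheaf.stalk z →ₐ[B] (f.fiber s).presheaf.stalk y :=
    { ((f.fiberι s).stalkMap y).hom with commutes' := fun _ => rfl }
  let h : L →ₐ[B] (f.fiber s).presheaf.stalk y := g.comp e0.toAlgHom
  obtain ⟨hsurj, hker⟩ := Groth.Agent.S9501.result f s y
  have hs : Function.Surjective h := hsurj.comp e0.surjective
  letI := S.presheaf.algebra_section_stalk ⟨f z, hzU⟩
  let pS := hU.primeIdealOf ⟨f z, hzU⟩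
  haveI : IsLocalization.AtPrime (S.presheaf.stalk (f z)) pS.asIdeal := hU.isLocalization_stalk ⟨f z, hzU⟩
  have hp : pS.asIdeal = q.asIdeal.comap (algebraMap A B) := by
    rw [hAB]
    exact congrArg PrimeSpectrum.asIdeal (IsAffineOpen.comap_primeIdealOf_appLE U hU V hV hVU hy).symm
  let I : Ideal L := (q.asIdeal.comap (algebraMap A B)).map (algebraMap A L)
  have hk : I = RingHom.ker h.toRingHom := by
    have h1 : RingHom.ker h.toRingHom = (RingHom.ker g.toRingHom).comap e0.toAlgHom.toRingHom := by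
      rw [RingHom.comap_ker]; rfl
    have h2 : RingHom.ker g.toRingHom =
        (IsLocalRing.maximalIdeal (S.presheaf.stalk (f z))).map (f.stalkMap z).hom := hker
    rw [h1, h2, ← IsLocalization.AtPrime.map_eq_maximalIdeal pS.asIdeal (S.presheaf.stalk (f z)), hp, Ideal.map_map]
    have h3 : (f.stalkMap z).hom.comp (algebraMap A (S.presheaf.stalk (f z))) =
        e0.toAlgHom.toRingHom.comp (algebraMap A L) := by
      refine RingHom.ext fun r => ?_
      show f.stalkMap z (S.presheaf.germ U (f z) hzU r) = e0 (algebraMap A L r)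
      rw [IsScalarTower.algebraMap_apply A B L, e0.commutes, hAB, Scheme.Hom.germ_stalkMap_apply]
      exact (TopCat.Presheaf.germ_res_apply X.presheaf _ _ _ _).symm
    rw [h3, ← Ideal.map_map]
    exact (Ideal.comap_map_of_bijective _ e0.bijective).symm
  exact ⟨(Ideal.quotientEquivAlgOfEq B hk).trans (Ideal.quotientKerAlgEquivOfSurjective hs)⟩

include hU hV hVU hAB in
theorem depth_fiber_eq [Algebra.FiniteType Γ(S, U) Γ(X, V)] (F : X.Modules) [Coh.IsQCoh F]
    [Module.Finite Γ(X, V) Γ(F, V)] (s : S) (y : f.fiber s) (hy : f.fiberι s y ∈ V) :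
    LocCoh.depth ((f.fiber s).presheaf.stalk y) (((Scheme.Modules.pullback (f.fiberι s)).obj F).presheaf.stalk y) =
      fibDep Γ(S, U) Γ(F, V) (hV.primeIdealOf ⟨f.fiberι s y, hy⟩) := by
  let z := f.fiberι s y
  let O := X.presheaf.stalk z
  let O' := (f.fiber s).presheaf.stalk y
  letI : Algebra O O' := ((f.fiberι s).stalkMap y).hom.toAlgebra
  letI : Algebra Γ(X, V) O := (X.presheaf.germ V z hy).hom.toAlgebra
  letI : Algebra Γ(X, V) O' := ((f.fiberι s).stalkMap y).hom.comp (X.presheaf.germ V z hy).hom |>.toAlgebra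
  haveI : IsScalarTower Γ(X, V) O O' := IsScalarTower.of_algebraMap_eq fun _ => rfl
  haveI : IsLocalization.AtPrime O (hV.primeIdealOf ⟨z, hy⟩).asIdeal := hV.isLocalization_stalk ⟨z, hy⟩
  letI := Module.compHom (F.presheaf.stalk z) (X.presheaf.germ V z hy).hom
  haveI : IsScalarTower Γ(X, V) O (F.presheaf.stalk z) := IsScalarTower.of_algebraMap_smul fun _ _ => rfl
  haveI := FlatLib.isLocalizedModule_germLin F hV hy
  have hb : IsBaseChange O (FlatLib.germLin F hy) :=
    IsLocalizedModule.isBaseChange (hV.primeIdealOf ⟨z, hy⟩).asIdeal.primeCompl O _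
  let e₁ : O' ⊗[O] F.presheaf.stalk z ≃ₗ[O'] ((Scheme.Modules.pullback (f.fiberι s)).obj F).presheaf.stalk y :=
    ((KFlatLib.stalkPullIso (f.fiberι s) y).symm.app F).toLinearEquiv
  let e₂ : O' ⊗[Γ(X, V)] Γ(F, V) ≃ₗ[O'] O' ⊗[O] F.presheaf.stalk z :=
    (AlgebraTensorModule.cancelBaseChange Γ(X, V) O O' O' Γ(F, V)).symm.trans
      (AlgebraTensorModule.congr (LinearEquiv.refl O' O') hb.equiv)
  obtain ⟨e⟩ := exists_fibRing_equiv f hU hV hVU hAB s y hy
  rw [← fibDep_eq_of_equiv Γ(S, U) Γ(F, V) (hV.primeIdealOf ⟨z, hy⟩) O' e]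
  exact (CommAlgDim.depth_congr (e₂.trans e₁)).symm

include hU hV hVU hAB in
theorem fiberDepth_eq [Algebra.FiniteType Γ(S, U) Γ(X, V)] (F : X.Modules) [Coh.IsQCoh F]
    [Module.Finite Γ(X, V) Γ(F, V)] (x : X) (hx : x ∈ V) :
    CInt.fiberDepth f F x = fibDep Γ(S, U) Γ(F, V) (hV.primeIdealOf ⟨x, hx⟩) := by
  have h : f.fiberι (f x) (f.asFiber x) = x := f.fiberι_asFiber x
  have hy : f.fiberι (f x) (f.asFiber x) ∈ V := by rw [h]; exact hx
  refine (depth_fiber_eq f hU hV hVU hAB F (f x) (f.asFiber x) hy).trans ?_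
  congr 2
  exact Subtype.ext h

end DepthLib
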