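import Groth.Agent.DepthLib.FibPDZero
import Groth.Agent.DepthLib.FibDepthScheme
import Groth.Agent.FlatLib.SectionsFP
import Groth.Agent.FibDimLib.ClosureDim
import Mathlib

/-! # Constructibility of the rectified depth of the fibres -/

set_option autoImplicit false
universe u

open TensorProduct CategoryTheory AlgebraicGeometry Topology CommAlgDim

namespace DepthLib

variable {X S : Scheme.{u}} (f : X ⟶ S)

/-- The rectified depth of the restriction of `F` to the fibre through `x`. -/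
noncomputable def rectDepth (F : X.Modules) (x : X) : WithBot ℕ∞ :=
  ((CInt.fiberDepth f F x : ℕ∞) : WithBot ℕ∞) +
    topologicalKrullDim ↥(closure ({f.asFiber x} : Set ↥(f.fiber (f.base x))))

theorem closure_asFiber_dim [LocallyOfFiniteType f] {U : S.Opens} {V : X.Opens} (hU : IsAffineOpen U)
    (hV : IsAffineOpen V) (hVU : V ≤ f ⁻¹ᵁ U) {x : X} (hx : x ∈ V) :
    letI := (f.appLE U V hVU).hom.toAlgebra
    ∃ (p : Ideal Γ(S, U)) (_ : p.IsPrime), p = (hV.primeIdealOf ⟨x, hx⟩).asIdeal.comap (algebraMap Γ(S, U) Γ(X, V)) ∧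
      ∃ (Q : Ideal (p.Fiber Γ(X, V))) (_ : Q.IsPrime),
        Q.comap (Algebra.TensorProduct.includeRight : Γ(X, V) →ₐ[Γ(S, U)] p.Fiber Γ(X, V)).toRingHom =
          (hV.primeIdealOf ⟨x, hx⟩).asIdeal ∧
        topologicalKrullDim ↥(closure ({f.asFiber x} : Set ↥(f.fiber (f.base x)))) =
          ringKrullDim (p.Fiber Γ(X, V) ⧸ Q) := by
  letI := (f.appLE U V hVU).hom.toAlgebra
  obtain ⟨e, Q, he, hQ, heQ⟩ := FibDimLib.exists_affine_fibre_embedding f x hU hV hVU hx
  refine ⟨(hU.primeIdealOf ⟨f x, hVU hx⟩).asIdeal, inferInstance, ?_, Q.asIdeal, inferInstance, hQ, ?_⟩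
  · exact (congrArg PrimeSpectrum.asIdeal (IsAffineOpen.comap_primeIdealOf_appLE U hU V hV hVU hx)).symm
  · rw [← heQ, ← @FibDimLib.topologicalKrullDim_closure_of_isOpenEmbedding (S.residueField (f.base x)) _ _
        (f.fiberToSpecResidueField (f.base x)) (UOpenLib.lft_fiberToSpec f (f.base x)) _ _ e he Q,
      FibDimLib.topologicalKrullDim_closure_prime]

/-- The bound on the rectified depth is, in charts, a bound on a projective dimension. -/
theorem le_rectDepth_iff [LocallyOfFiniteType f] {U : S.Opens} {V : X.Opens} (hU : IsAffineOpen U)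
    (hV : IsAffineOpen V) (hVU : V ≤ f ⁻¹ᵁ U) (F : X.Modules) [Coh.IsQCoh F] [Module.Finite Γ(X, V) Γ(F, V)]
    {σ : Type u} [Finite σ] :
    letI := (f.appLE U V hVU).hom.toAlgebra
    ∀ (π : MvPolynomial σ Γ(S, U) →ₐ[Γ(S, U)] Γ(X, V)), Function.Surjective π →
      letI := Module.compHom Γ(F, V) π.toRingHom
      ∀ (x : X) (hx : x ∈ V) (m : ℕ), ((m : ℕ) : WithBot ℕ∞) ≤ rectDepth f F x ↔
        PrimeSpectrum.comap π.toRingHom (hV.primeIdealOf ⟨x, hx⟩) ∈
          fibPD Γ(S, U) (P := MvPolynomial σ Γ(S, U)) Γ(F, V) (Nat.card σ + 1 - m) := by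
  letI := (f.appLE U V hVU).hom.toAlgebra
  intro π hπ
  letI := Module.compHom Γ(F, V) π.toRingHom
  intro x hx m
  haveI : Algebra.FiniteType Γ(S, U) Γ(X, V) := f.finiteType_appLE hU hV hVU
  letI : Algebra (MvPolynomial σ Γ(S, U)) Γ(X, V) := π.toRingHom.toAlgebra
  haveI : IsScalarTower Γ(S, U) (MvPolynomial σ Γ(S, U)) Γ(X, V) :=
    IsScalarTower.of_algebraMap_eq fun r => (π.commutes r).symm
  haveI : IsScalarTower (MvPolynomial σ Γ(S, U)) Γ(X, V) Γ(F, V) := IsScalarTower.of_algebraMap_smul fun _ _ => rfl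
  obtain ⟨p, hp', hp, Q, hQ', hQ, hdim⟩ := closure_asFiber_dim f hU hV hVU hx
  rw [rectDepth, hdim, fiberDepth_eq f hU hV hVU rfl F x hx]
  exact le_fibDep_add_iff Γ(S, U) hπ Γ(F, V) (hV.primeIdealOf ⟨x, hx⟩) p hp Q hQ m

theorem isLocallyConstructible_compl {T : Scheme.{u}} {A : Set T} (hA : IsLocallyConstructible A) :
    IsLocallyConstructible Aᶜ := fun t => by
  obtain ⟨W, hW, hWo, hc⟩ := hA t
  exact ⟨W, hW, hWo, hc.compl⟩

/-- A subset is locally constructible if it is so in affine charts. -/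
theorem isLocallyConstructible_of_chart {E : Set X}
    (h : ∀ x : X, ∃ (V : X.Opens) (hV : IsAffineOpen V), x ∈ V ∧
      ∃ E' : Set (PrimeSpectrum Γ(X, V)), IsLocallyConstructible E' ∧ ∀ P, hV.fromSpec P ∈ E ↔ P ∈ E') :
    IsLocallyConstructible E := by
  intro x
  obtain ⟨V, hV, hxV, E', hE', key⟩ := h x
  obtain ⟨A, hA, hAo, hc⟩ := hE' (hV.primeIdealOf ⟨x, hxV⟩)
  have hemb := hV.fromSpec.isOpenEmbedding
  refine ⟨hV.fromSpec '' A, ?_, hemb.isOpenMap _ hAo, ?_⟩
  · exact (congrArg (nhds ·) (hV.fromSpec_primeIdealOf ⟨x, hxV⟩)) ▸ hemb.image_mem_nhds.2 hA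
  · let ε : A ≃ₜ (hV.fromSpec '' A) :=
      (Equiv.Set.image _ A hemb.injective).toHomeomorphOfIsInducing
        (hemb.restrict (Set.mapsTo_image _ _) hAo).isInducing
    convert! hc.preimage_of_isOpenEmbedding ε.symm.isOpenEmbedding using 1
    ext ⟨_, P, hP, rfl⟩
    have hε : ε.symm ⟨hV.fromSpec P, P, hP, rfl⟩ = ⟨P, hP⟩ := ε.symm_apply_eq.2 (Subtype.ext rfl)
    simp only [Set.mem_preimage, hε]
    exact key P

/-- The loci where the rectified depth of the fibres is at least `m` are locally constructible. -/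
theorem isLocallyConstructible_le_rectDepth [LocallyOfFinitePresentation f] (F : X.Modules) [Coh.IsQCoh F]
    (hF : CohB1.IsFP F) (m : ℕ) : IsLocallyConstructible {x : X | ((m : ℕ) : WithBot ℕ∞) ≤ rectDepth f F x} := by
  refine isLocallyConstructible_of_chart fun x => ?_
  obtain ⟨_, ⟨U, hU, rfl⟩, hxU, -⟩ :=
    S.isBasis_affineOpens.exists_subset_of_mem_open (Set.mem_univ (f x)) isOpen_univ
  obtain ⟨V, hV, hVU, hxV, hfp⟩ := FlatLib.exists_finitePresentation_nhd hF (U := f ⁻¹ᵁ U) hxU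
  refine ⟨V, hV, hxV, ?_⟩
  letI := (f.appLE U V hVU).hom.toAlgebra
  haveI : Algebra.FinitePresentation Γ(S, U) Γ(X, V) := f.finitePresentation_appLE hU hV hVU
  obtain ⟨n, π₀, hπ₀, hker⟩ := Algebra.FinitePresentation.out (R := Γ(S, U)) (A := Γ(X, V))
  let π : MvPolynomial (ULift.{u} (Fin n)) Γ(S, U) →ₐ[Γ(S, U)] Γ(X, V) :=
    π₀.comp (MvPolynomial.renameEquiv Γ(S, U) Equiv.ulift).toAlgHom
  have hπ : Function.Surjective π := hπ₀.comp (AlgEquiv.surjective _)
  have hk : (RingHom.ker π.toRingHom).FG :=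
    Algebra.FinitePresentation.ker_fG_of_surjective π hπ
  let P := MvPolynomial (ULift.{u} (Fin n)) Γ(S, U)
  letI : Algebra P Γ(X, V) := π.toRingHom.toAlgebra
  letI := Module.compHom Γ(F, V) π.toRingHom
  haveI : IsScalarTower P Γ(X, V) Γ(F, V) := IsScalarTower.of_algebraMap_smul fun _ _ => rfl
  haveI := hfp
  haveI : Module.FinitePresentation P Γ(X, V) :=
    Module.finitePresentation_of_surjective (Algebra.linearMap P Γ(X, V)) hπ hk
  haveI : Module.FinitePresentation P Γ(F, V) := Module.FinitePresentation.trans P Γ(F, V) Γ(X, V)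
  have hE : IsLocallyConstructible (fibPD Γ(S, U) (P := P) Γ(F, V) (Nat.card (ULift.{u} (Fin n)) + 1 - m)) := by
    rcases Nat.eq_zero_or_eq_succ_pred (Nat.card (ULift.{u} (Fin n)) + 1 - m) with h | h <;> rw [h]
    · exact isLocallyConstructible_fibPD_zero Γ(F, V)
    · exact isLocallyConstructible_fibPD Γ(F, V) _
  refine ⟨PrimeSpectrum.comap π.toRingHom ⁻¹' (fibPD Γ(S, U) (P := P) Γ(F, V) (Nat.card (ULift.{u} (Fin n)) + 1 - m)),
    ConsLib.isLocallyConstructible_preimage (Spec.map (CommRingCat.ofHom π.toRingHom)) hE, fun Q => ?_⟩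
  have hmem : hV.fromSpec Q ∈ V := by
    have h1 : hV.fromSpec Q ∈ Set.range hV.fromSpec := ⟨Q, rfl⟩
    rwa [hV.range_fromSpec] at h1
  have hQeq : hV.primeIdealOf ⟨hV.fromSpec Q, hmem⟩ = Q :=
    hV.fromSpec.isOpenEmbedding.injective (hV.fromSpec_primeIdealOf ⟨_, hmem⟩)
  exact (le_rectDepth_iff f hU hV hVU F π hπ (hV.fromSpec Q) hmem m).trans (by rw [hQeq]; rfl)

/-- The level sets of the rectified depth of the fibres are locally constructible. -/
theorem isLocallyConstructible_rectDepth_eq [LocallyOfFinitePresentation f] (F : X.Modules) [Coh.IsQCoh F]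
    (hF : CohB1.IsFP F) (n : ℕ∞) : IsLocallyConstructible {x : X | rectDepth f F x = (n : WithBot ℕ∞)} := by
  induction n using ENat.recTopCoe with
  | top =>
    -- only the zero stalk has infinite rectified depth
    refine isLocallyConstructible_of_chart fun x => ?_
    obtain ⟨_, ⟨U, hU, rfl⟩, hxU, -⟩ :=
      S.isBasis_affineOpens.exists_subset_of_mem_open (Set.mem_univ (f x)) isOpen_univ
    obtain ⟨V, hV, hVU, hxV, hfp⟩ := FlatLib.exists_finitePresentation_nhd hF (U := f ⁻¹ᵁ U) hxU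
    refine ⟨V, hV, hxV, ?_⟩
    letI := (f.appLE U V hVU).hom.toAlgebra
    haveI : Algebra.FiniteType Γ(S, U) Γ(X, V) := f.finiteType_appLE hU hV hVU
    haveI := hfp
    obtain ⟨n, π₀, hπ₀⟩ := Algebra.FiniteType.iff_quotient_mvPolynomial''.1
      (inferInstance : Algebra.FiniteType Γ(S, U) Γ(X, V))
    let π : MvPolynomial (ULift.{u} (Fin n)) Γ(S, U) →ₐ[Γ(S, U)] Γ(X, V) :=
      π₀.comp (MvPolynomial.renameEquiv Γ(S, U) Equiv.ulift).toAlgHom
    have hπ : Function.Surjective π := hπ₀.comp (AlgEquiv.surjective _)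
    refine ⟨hV.fromSpec ⁻¹' {x | ((n + 1 : ℕ) : WithBot ℕ∞) ≤ rectDepth f F x},
      ConsLib.isLocallyConstructible_preimage hV.fromSpec (isLocallyConstructible_le_rectDepth f F hF (n + 1)),
      fun Q => ⟨fun h => ?_, fun h => ?_⟩⟩
    · show ((n + 1 : ℕ) : WithBot ℕ∞) ≤ rectDepth f F (hV.fromSpec Q)
      rw [Set.mem_setOf_eq] at h
      rw [h]; exact le_top
    · have hmem : hV.fromSpec Q ∈ V := by
        have h1 : hV.fromSpec Q ∈ Set.range hV.fromSpec := ⟨Q, rfl⟩
        rwa [hV.range_fromSpec] at h1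
      have hkey := fun m => le_rectDepth_iff f hU hV hVU F π hπ (hV.fromSpec Q) hmem m
      have hcard : Nat.card (ULift.{u} (Fin n)) = n := by simp
      have hall : ∀ m : ℕ, ((m : ℕ) : WithBot ℕ∞) ≤ rectDepth f F (hV.fromSpec Q) := fun m => by
        rcases le_or_gt m (n + 1) with hm | hm
        · exact (Nat.cast_le.2 hm).trans h
        · refine (hkey m).2 ?_
          have := (hkey (n + 1)).1 h
          rw [hcard, show n + 1 - (n + 1) = 0 by omega] at this
          rw [hcard, show n + 1 - m = 0 by omega]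
          exact this
      show rectDepth f F (hV.fromSpec Q) = ((⊤ : ℕ∞) : WithBot ℕ∞)
      obtain ⟨a, ha⟩ := WithBot.ne_bot_iff_exists.1
        (ne_bot_of_le_ne_bot (by simp) (hall 0) : rectDepth f F (hV.fromSpec Q) ≠ ⊥)
      rw [← ha]
      congr 1
      refine ENat.eq_top_iff_forall_ge.2 fun m => ?_
      have := hall m
      rw [← ha] at this
      exact WithBot.coe_le_coe.1 this
  | coe m =>
    have heq : {x : X | rectDepth f F x = ((m : ℕ∞) : WithBot ℕ∞)} =
        {x : X | ((m : ℕ) : WithBot ℕ∞) ≤ rectDepth f F x} ∩ {x : X | ((m + 1 : ℕ) : WithBot ℕ∞) ≤ rectDepth f F x}ᶜ := by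
      ext x
      simp only [Set.mem_setOf_eq, Set.mem_inter_iff, Set.mem_compl_iff]
      refine ⟨fun h => ⟨h.ge, fun h' => ?_⟩, fun ⟨h1, h2⟩ => ?_⟩
      · rw [h] at h'
        have h3 : ((m + 1 : ℕ) : ℕ∞) ≤ (m : ℕ∞) := WithBot.coe_le_coe.1 h'
        exact absurd (Nat.cast_le.1 h3) (by omega)
      · obtain ⟨a, ha⟩ := WithBot.ne_bot_iff_exists.1
          (ne_bot_of_le_ne_bot (by simp) h1 : rectDepth f F x ≠ ⊥)
        rw [← ha] at h1 h2 ⊢
        have h3 : (m : ℕ∞) ≤ a := WithBot.coe_le_coe.1 h1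
        have h4 : ¬ ((m + 1 : ℕ) : ℕ∞) ≤ a := fun h => h2 (WithBot.coe_le_coe.2 h)
        congr 1
        induction a using ENat.recTopCoe with
        | top => exact absurd le_top h4
        | coe b =>
          rw [Nat.cast_le] at h3 h4
          exact_mod_cast (show b = m by omega)
    rw [heq]
    exact (isLocallyConstructible_le_rectDepth f F hF m).inter
      (isLocallyConstructible_compl (isLocallyConstructible_le_rectDepth f F hF (m + 1)))

end DepthLib
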