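import Groth.Agent.DepthLib.SmoothFib
import Groth.Agent.FlatLib.Stage
import Groth.Agent.FlatLib.FibCharts
import Groth.Agent.ConsLib.General
import Groth.Agent.FlatLib.QFCover
import Groth.Agent.FlatLib.SchemeFlat
import Groth.Agent.FlatLib.OpenFP
import Groth.Agent.DepthLib.Rectified
import Mathlib

/-! # Constructibility of the points where the fibres are smooth -/

set_option autoImplicit false
universe u

open TensorProduct CategoryTheory AlgebraicGeometry Topology

namespace DepthLib

/-- A point is smooth exactly when it is flat and smooth in its fibre. -/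
theorem mem_smoothLocus_iff_flat_fibSmooth (R B : Type u) [CommRing R] [CommRing B] [Algebra R B]
    [Algebra.FinitePresentation R B] (q : PrimeSpectrum B) :
    q ∈ Algebra.smoothLocus R B ↔ q ∈ FlatLib.flatLocus R B B ∧ q ∈ fibSmooth R B := by
  let p := q.asIdeal.comap (algebraMap R B)
  let K := p.ResidueField
  let E := PrimeSpectrum.preimageHomeomorphFiber R B ⟨p, inferInstance⟩
  let c : PrimeSpectrum (p.Fiber B) := E ⟨q, rfl⟩
  have hc : c.asIdeal.comap (Algebra.TensorProduct.includeRight : B →ₐ[R] p.Fiber B).toRingHom = q.asIdeal :=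
    congrArg (fun z ↦ z.1.asIdeal) (E.symm_apply_apply ⟨q, rfl⟩)
  rw [← mem_fibSmooth_iff K c q hc]
  constructor
  · intro h
    haveI : Algebra.IsSmoothAt R q.asIdeal := h
    obtain ⟨g, hg, hsm⟩ := Algebra.IsSmoothAt.exists_notMem_smooth R q.asIdeal
    refine ⟨FlatLib.flat_of_le (Submonoid.powers g) (Algebra.linearMap B (Localization.Away g)) q.asIdeal.primeCompl
      (LocalizedModule.mkLinearMap _ B) (Submonoid.powers_le.2 hg) inferInstance, ?_⟩
    let Cg := Localization.Away ((1 : K) ⊗ₜ[R] g)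
    haveI : Algebra.FormallySmooth K (K ⊗[R] Localization.Away g) := inferInstance
    haveI : Algebra.FormallySmooth K Cg :=
      Algebra.FormallySmooth.of_equiv (IsLocalization.Away.tensorProductEquivTMulRight R K g (Localization.Away g))
    have hsub : (PrimeSpectrum.basicOpen ((1 : K) ⊗ₜ[R] g) : Set (PrimeSpectrum (K ⊗[R] B))) ⊆
        Algebra.smoothLocus K (K ⊗[R] B) := Algebra.basicOpen_subset_smoothLocus_iff.2 inferInstance
    refine hsub ?_
    show (1 : K) ⊗ₜ[R] g ∉ c.asIdeal
    intro hmem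
    exact hg (hc ▸ hmem)
  · rintro ⟨hfl, h⟩
    obtain ⟨_, ⟨g', rfl⟩, hcg, hsub⟩ :=
      PrimeSpectrum.isTopologicalBasis_basic_opens.exists_subset_of_mem_open h Algebra.isOpen_smoothLocus
    obtain ⟨_, ⟨g₀, rfl⟩, hqg₀, hsub₀⟩ :=
      PrimeSpectrum.isTopologicalBasis_basic_opens.exists_subset_of_mem_open hfl FlatLib.isOpen_flatLocus_fp
    obtain ⟨r, hr, g₁, hg₁⟩ := Ideal.Fiber.exists_smul_eq_one_tmul p g'
    have hu : IsUnit (algebraMap R (K ⊗[R] B) r) := by
      rw [IsScalarTower.algebraMap_apply R K (K ⊗[R] B)]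
      exact (Ne.isUnit fun h0 ↦ hr (Ideal.algebraMap_residueField_eq_zero.mp h0)).map _
    let g := g₁ * g₀
    have hD : (PrimeSpectrum.basicOpen ((1 : K) ⊗ₜ[R] g) : Set (PrimeSpectrum (K ⊗[R] B))) ⊆
        PrimeSpectrum.basicOpen g' := fun z hz hz' => hz (by
      show (1 : K) ⊗ₜ[R] (g₁ * g₀) ∈ z.asIdeal
      rw [show (1 : K) ⊗ₜ[R] (g₁ * g₀) = (1 : K) ⊗ₜ[R] g₁ * (1 : K) ⊗ₜ[R] g₀ by
        rw [Algebra.TensorProduct.tmul_mul_tmul, mul_one], ← hg₁, Algebra.smul_def]
      exact Ideal.mul_mem_right _ _ (Ideal.mul_mem_left _ _ hz'))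
    have hgq : g ∉ q.asIdeal := fun hmem => (q.isPrime.mem_or_mem hmem).elim (fun hmem => by
      have h1 : (1 : K) ⊗ₜ[R] g₁ ∈ c.asIdeal := by rw [← hc] at hmem; exact hmem
      rw [← hg₁, Algebra.smul_def, Ideal.unit_mul_mem_iff_mem _ hu] at h1
      exact hcg h1) hqg₀
    haveI : Module.Flat R (Localization.Away g) := FlatLib.flat_away_of_basicOpen g fun z hz =>
      hsub₀ fun hz' => hz (Ideal.mul_mem_left _ _ hz')
    haveI : Algebra.FormallySmooth K (Localization.Away ((1 : K) ⊗ₜ[R] g)) :=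
      Algebra.basicOpen_subset_smoothLocus_iff.1 (hD.trans hsub)
    haveI : Algebra.FormallySmooth K (p.Fiber (Localization.Away g)) :=
      Algebra.FormallySmooth.of_equiv
        (IsLocalization.Away.tensorProductEquivTMulRight R K g (Localization.Away g)).symm
    haveI : Algebra.FinitePresentation B (Localization.Away g) := IsLocalization.Away.finitePresentation g
    haveI : Algebra.FinitePresentation R (Localization.Away g) := Algebra.FinitePresentation.trans R B _
    obtain ⟨qg, hqg⟩ : q ∈ Set.range (PrimeSpectrum.comap (algebraMap B (Localization.Away g))) := by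
      rw [PrimeSpectrum.localization_away_comap_range (Localization.Away g) g]
      exact hgq
    haveI : qg.asIdeal.LiesOver p := ⟨by
      show p = qg.asIdeal.comap (algebraMap R (Localization.Away g))
      rw [IsScalarTower.algebraMap_eq R B (Localization.Away g), ← Ideal.comap_comap]
      exact congrArg (fun z : PrimeSpectrum B => z.asIdeal.comap (algebraMap R B)) hqg.symm⟩
    have hsm : qg ∈ Algebra.smoothLocus R (Localization.Away g) := Algebra.IsSmoothAt.of_formallySmooth_fiber p qg.asIdeal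
    rw [← Algebra.smoothLocus_comap_of_isLocalization g] at hsm
    exact hqg ▸ hsm

/-- For flat algebras of finite presentation the smooth points are those smooth in their fibres. -/
theorem smoothLocus_eq_fibSmooth (R B : Type u) [CommRing R] [CommRing B] [Algebra R B]
    [Algebra.FinitePresentation R B] [Module.Flat R B] : Algebra.smoothLocus R B = fibSmooth R B :=
  Set.ext fun q => (mem_smoothLocus_iff_flat_fibSmooth R B q).trans
    (and_iff_right ((FlatLib.mem_flatLocus_self_iff q).2 inferInstance))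

theorem isLocallyConstructible_fibSmooth_noetherian (R B : Type u) [CommRing R] [CommRing B] [Algebra R B]
    [IsNoetherianRing R] [Algebra.FiniteType R B] : IsLocallyConstructible (fibSmooth R B) := by
  haveI : IsNoetherianRing B := Algebra.FiniteType.isNoetherianRing R B
  haveI : Algebra.FinitePresentation R B := Algebra.FinitePresentation.of_finiteType.mp inferInstance
  change IsLocallyConstructible (X := ↥(Spec (CommRingCat.of B))) _
  refine ConsLib.isLocallyConstructible_of_generic fun {Z} _ _ i _ => ?_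
  let q : PrimeSpectrum B := i (genericPoint Z)
  let p : Ideal R := q.asIdeal.comap (algebraMap R B)
  obtain ⟨r, hr, hfree⟩ := FlatLib.exists_free_away (R := R) (S := B) (M := B) p
  let R' := Localization.Away (Ideal.Quotient.mk p r)
  let C := R' ⊗[R] B
  let inc := (Algebra.TensorProduct.includeRight : B →ₐ[R] C).toRingHom
  haveI : Module.Flat R' C := Module.Flat.of_free
  haveI : Algebra.FinitePresentation R' C := inferInstance
  have hemb : IsEmbedding (PrimeSpectrum.comap inc) := by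
    have h1 : IsPreimmersion (Spec.map (CommRingCat.ofHom (algebraMap R R'))) := by
      rw [IsScalarTower.algebraMap_eq R (R ⧸ p) R', CommRingCat.ofHom_comp, Spec.map_comp]
      haveI : IsClosedImmersion (Spec.map (CommRingCat.ofHom (algebraMap R (R ⧸ p)))) :=
        IsClosedImmersion.spec_of_surjective _ Ideal.Quotient.mk_surjective
      haveI : IsOpenImmersion (Spec.map (CommRingCat.ofHom (algebraMap (R ⧸ p) R'))) :=
        IsOpenImmersion.of_isLocalization (Ideal.Quotient.mk p r)
      infer_instance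
    have h2 : IsPreimmersion (Spec.map (CommRingCat.ofHom inc)) :=
      MorphismProperty.of_isPullback
        (isPullback_SpecMap_of_isPushout _ _ _ _ (CommRingCat.isPushout_tensorProduct R R' B)) h1
    exact h2.isEmbedding
  have hlift : ∀ P : PrimeSpectrum B, p ≤ P.asIdeal.comap (algebraMap R B) → algebraMap R B r ∉ P.asIdeal →
      ∃ c, PrimeSpectrum.comap inc c = P := by
    intro P hle hrP
    let K := P.asIdeal.ResidueField
    let φ₁ : R ⧸ p →+* K := Ideal.Quotient.lift p (algebraMap R K) fun a ha => by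
      rw [IsScalarTower.algebraMap_apply R B K]
      exact Ideal.algebraMap_residueField_eq_zero.2 (hle ha)
    have hu : IsUnit (φ₁ (Ideal.Quotient.mk p r)) := by
      rw [Ideal.Quotient.lift_mk, isUnit_iff_ne_zero, IsScalarTower.algebraMap_apply R B K]
      exact fun h => hrP (Ideal.algebraMap_residueField_eq_zero.1 h)
    let φ : R' →+* K := IsLocalization.Away.lift (Ideal.Quotient.mk p r) hu
    have hφ : ∀ a, φ (algebraMap R R' a) = algebraMap R K a := fun a => by
      rw [IsScalarTower.algebraMap_apply R (R ⧸ p) R']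
      exact IsLocalization.Away.lift_eq _ hu _
    let ψR : R' →ₐ[R] K := { φ with commutes' := hφ }
    let Ψ : C →ₐ[R] K := Algebra.TensorProduct.productMap ψR (IsScalarTower.toAlgHom R B K)
    refine ⟨PrimeSpectrum.comap Ψ.toRingHom ⊥, PrimeSpectrum.ext ?_⟩
    ext b
    show Ψ (1 ⊗ₜ b) ∈ (⊥ : Ideal K) ↔ b ∈ P.asIdeal
    rw [Algebra.TensorProduct.productMap_apply_tmul, map_one, one_mul, Ideal.mem_bot]
    exact Ideal.algebraMap_residueField_eq_zero
  let D : TopologicalSpace.Opens ↥(Spec (CommRingCat.of B)) := PrimeSpectrum.basicOpen (algebraMap R B r)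
  let W : Set Z := i ⁻¹' (D : Set _)
  have hWo : IsOpen W := D.2.preimage i.continuous
  have hgW : genericPoint Z ∈ W := hr
  have hgen : ∀ z : Z, genericPoint Z ⤳ z := genericPoint_specializes
  have hW : ∀ z ∈ W, ∃ c, PrimeSpectrum.comap inc c = (i z : PrimeSpectrum B) := fun z hz =>
    hlift _ (Ideal.comap_mono ((PrimeSpectrum.le_iff_specializes q (i z)).2 ((hgen z).map i.continuous))) hz
  have hO : IsOpen (Algebra.smoothLocus R' C) := Algebra.isOpen_smoothLocus
  have hEc : ∀ c, c ∈ Algebra.smoothLocus R' C ↔ PrimeSpectrum.comap inc c ∈ fibSmooth R B := fun c => by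
    rw [smoothLocus_eq_fibSmooth]
    exact Set.ext_iff.1 (fibSmooth_baseChange R B R') c
  obtain ⟨O', hO', hOO'⟩ := hemb.isInducing.isOpen_iff.1 hO
  have key : ∀ z ∈ W, ((i z : PrimeSpectrum B) ∈ fibSmooth R B ↔ (i z : PrimeSpectrum B) ∈ O') := fun z hz => by
    obtain ⟨c, hc⟩ := hW z hz
    have h : PrimeSpectrum.comap inc c ∈ fibSmooth R B ↔ PrimeSpectrum.comap inc c ∈ O' :=
      (hEc c).symm.trans (Set.ext_iff.1 hOO' c).symm
    exact hc ▸ h
  by_cases hq : q ∈ fibSmooth R B
  · refine Or.inl ⟨genericPoint Z, mem_interior.2 ⟨W ∩ i ⁻¹' O', fun z hz => (key z hz.1).2 hz.2,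
      hWo.inter (hO'.preimage i.continuous), hgW, (key _ hgW).1 hq⟩⟩
  · refine Or.inr ⟨genericPoint Z, mem_interior.2 ⟨W, fun z hz hzE => hq ?_, hWo, hgW⟩⟩
    exact (key _ hgW).2 (((hgen z).map i.continuous).mem_open hO' ((key z hz).1 hzE))

theorem isLocallyConstructible_fibSmooth (R B : Type u) [CommRing R] [CommRing B] [Algebra R B]
    [Algebra.FinitePresentation R B] : IsLocallyConstructible (fibSmooth R B) := by
  let P := Algebra.Presentation.ofFinitePresentation R B
  let R₀ := P.Core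
  haveI : IsNoetherianRing R₀ := Algebra.FiniteType.isNoetherianRing ℤ R₀
  let B₀ := P.ModelOfHasCoeffs R₀
  let e : R ⊗[R₀] B₀ ≃ₐ[R] B := P.tensorModelOfHasCoeffsEquiv R₀
  haveI : Algebra.FiniteType R₀ B₀ := inferInstance
  haveI : Algebra.FinitePresentation R₀ B₀ := Algebra.FinitePresentation.of_finiteType.mp inferInstance
  rw [@fibSmooth_congr R (R ⊗[R₀] B₀) B _ _ _ _ _ inferInstance inferInstance e, fibSmooth_baseChange R₀ B₀ R]
  have h := isLocallyConstructible_fibSmooth_noetherian R₀ B₀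
  let f := CommRingCat.ofHom (e.toRingEquiv.toRingHom.comp
    (Algebra.TensorProduct.includeRight : B₀ →ₐ[R₀] R ⊗[R₀] B₀).toRingHom)
  exact ConsLib.isLocallyConstructible_preimage (Spec.map f) h

theorem mem_smoothLocus_spec_iff {K C : Type u} [CommRing K] [CommRing C] [Algebra K C]
    [LocallyOfFinitePresentation (Spec.map (CommRingCat.ofHom (algebraMap K C)))] (c : PrimeSpectrum C) :
    (c : Spec (CommRingCat.of C)) ∈ (Spec.map (CommRingCat.ofHom (algebraMap K C))).smoothLocus ↔
      c ∈ Algebra.smoothLocus K C := by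
  refine Scheme.Hom.mem_smoothLocus.trans ?_
  let p := c.asIdeal.comap (algebraMap K C)
  haveI : c.asIdeal.LiesOver p := ⟨rfl⟩
  let _ := Localization.AtPrime.algebraOfLiesOver p c.asIdeal
  trans Algebra.FormallySmooth (Localization.AtPrime p) (Localization.AtPrime c.asIdeal)
  · rw [← RingHom.formallySmooth_algebraMap]
    exact RingHom.FormallySmooth.respectsIso.arrow_mk_iso_iff
      (Scheme.arrowStalkMapSpecIso (CommRingCat.ofHom (algebraMap K C)) c)
  · exact Algebra.FormallySmooth.iff_restrictScalars.symm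

/-- In charts the smooth points of the fibres are `fibSmooth`. -/
theorem mem_smoothLocus_fibre_iff {X S : Scheme.{u}} (f : X ⟶ S) [LocallyOfFinitePresentation f] (x : X)
    [LocallyOfFinitePresentation (f.fiberToSpecResidueField (f.base x))] {U : S.Opens} {V : X.Opens}
    (hU : IsAffineOpen U) (hV : IsAffineOpen V) (hVU : V ≤ f ⁻¹ᵁ U) (hx : x ∈ V) :
    f.asFiber x ∈ (f.fiberToSpecResidueField (f.base x)).smoothLocus ↔
      hV.primeIdealOf ⟨x, hx⟩ ∈ @fibSmooth Γ(S, U) Γ(X, V) _ _ (f.appLE U V hVU).hom.toAlgebra := by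
  letI := (f.appLE U V hVU).hom.toAlgebra
  haveI : Algebra.FinitePresentation Γ(S, U) Γ(X, V) := f.finitePresentation_appLE hU hV hVU
  let s := f.base x
  obtain ⟨ψ, hψ⟩ := FlatLib.exists_residue_chart hU s (hVU hx)
  letI : Algebra Γ(S, U) (S.residueField s) := ψ.hom.toAlgebra
  obtain ⟨θ, hθ, hfst, hsnd, hrange⟩ := FlatLib.exists_fibre_chart (A := Γ(S, U)) (B := Γ(X, V))
    (K := S.residueField s) f hV.fromSpec hU.fromSpec (IsAffineOpen.SpecMap_appLE_fromSpec f hU hV hVU).symm
    s (Iso.refl _) (by rw [Iso.refl_hom, Category.id_comp]; exact hψ)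
  haveI := hθ
  obtain ⟨a, ha⟩ := hrange (f.asFiber x) (by
    rw [f.fiberι_asFiber, hV.range_fromSpec]
    exact hx)
  have haq : a.asIdeal.comap (Algebra.TensorProduct.includeRight :
      Γ(X, V) →ₐ[Γ(S, U)] S.residueField s ⊗[Γ(S, U)] Γ(X, V)).toRingHom =
      (hV.primeIdealOf ⟨x, hx⟩).asIdeal := by
    have h1 := congrArg (f.fiberι s) ha
    rw [← Scheme.Hom.comp_apply, hfst, f.fiberι_asFiber, Scheme.Hom.comp_apply] at h1
    have h2 := h1.trans (hV.fromSpec_primeIdealOf ⟨x, hx⟩).symm
    exact congrArg PrimeSpectrum.asIdeal (hV.fromSpec.isOpenEmbedding.injective h2)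
  rw [← mem_fibSmooth_iff (S.residueField s) a _ haq, ← ha]
  have hmap : θ ≫ f.fiberToSpecResidueField s =
      Spec.map (CommRingCat.ofHom (algebraMap (S.residueField s) (S.residueField s ⊗[Γ(S, U)] Γ(X, V)))) :=
    hsnd.trans (Category.comp_id _)
  haveI : LocallyOfFinitePresentation
      (Spec.map (CommRingCat.ofHom (algebraMap (S.residueField s) (S.residueField s ⊗[Γ(S, U)] Γ(X, V))))) :=
    hmap ▸ (inferInstance : LocallyOfFinitePresentation (θ ≫ f.fiberToSpecResidueField s))
  rw [← mem_smoothLocus_spec_iff]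
  show a ∈ θ ⁻¹ᵁ (f.fiberToSpecResidueField s).smoothLocus ↔ _
  rw [Scheme.Hom.preimage_smoothLocus_eq]
  simp only [hmap]
  exact Iff.rfl

/-- The points where the fibres are smooth form a locally constructible set. -/
theorem isLocallyConstructible_smooth_fibre {X S : Scheme.{u}} (f : X ⟶ S) [LocallyOfFinitePresentation f]
    [∀ s : S, LocallyOfFinitePresentation (f.fiberToSpecResidueField s)] :
    IsLocallyConstructible {x : X | f.asFiber x ∈ (f.fiberToSpecResidueField (f.base x)).smoothLocus} := by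
  refine isLocallyConstructible_of_chart fun x => ?_
  obtain ⟨U, hU, hxU⟩ : ∃ U : S.Opens, IsAffineOpen U ∧ f x ∈ U := by
    obtain ⟨_, ⟨U, hU, rfl⟩, hxU, -⟩ :=
      S.isBasis_affineOpens.exists_subset_of_mem_open (Set.mem_univ (f x)) isOpen_univ
    exact ⟨U, hU, hxU⟩
  obtain ⟨V, hV, hxV, hVU⟩ : ∃ V : X.Opens, IsAffineOpen V ∧ x ∈ V ∧ V ≤ f ⁻¹ᵁ U := by
    obtain ⟨_, ⟨V, hV, rfl⟩, hxV, hVsub⟩ :=
      X.isBasis_affineOpens.exists_subset_of_mem_open (show x ∈ f ⁻¹ᵁ U from hxU) (f ⁻¹ᵁ U).2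
    exact ⟨V, hV, hxV, hVsub⟩
  refine ⟨V, hV, hxV, ?_⟩
  letI := (f.appLE U V hVU).hom.toAlgebra
  haveI : Algebra.FinitePresentation Γ(S, U) Γ(X, V) := f.finitePresentation_appLE hU hV hVU
  refine ⟨fibSmooth Γ(S, U) Γ(X, V), isLocallyConstructible_fibSmooth _ _, fun Q => ?_⟩
  have hmem : hV.fromSpec Q ∈ V := by
    have h1 : hV.fromSpec Q ∈ Set.range hV.fromSpec := ⟨Q, rfl⟩
    rwa [hV.range_fromSpec] at h1
  have hQeq : hV.primeIdealOf ⟨hV.fromSpec Q, hmem⟩ = Q :=
    hV.fromSpec.isOpenEmbedding.injective (hV.fromSpec_primeIdealOf ⟨_, hmem⟩)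
  exact (mem_smoothLocus_fibre_iff f (hV.fromSpec Q) hU hV hVU hmem).trans (by rw [hQeq]; exact Iff.rfl)

/-- Smoothness at a point is flatness and smoothness of the fibre. -/
theorem mem_smoothLocus_iff {X S : Scheme.{u}} (f : X ⟶ S) [LocallyOfFinitePresentation f] (x : X)
    [LocallyOfFinitePresentation (f.fiberToSpecResidueField (f.base x))] :
    x ∈ f.smoothLocus ↔
      (f.stalkMap x).hom.Flat ∧ f.asFiber x ∈ (f.fiberToSpecResidueField (f.base x)).smoothLocus := by
  obtain ⟨U, hU, hxU⟩ : ∃ U : S.Opens, IsAffineOpen U ∧ f x ∈ U := by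
    obtain ⟨_, ⟨U, hU, rfl⟩, hxU, -⟩ :=
      S.isBasis_affineOpens.exists_subset_of_mem_open (Set.mem_univ (f x)) isOpen_univ
    exact ⟨U, hU, hxU⟩
  obtain ⟨V, hV, hxV, hVU⟩ : ∃ V : X.Opens, IsAffineOpen V ∧ x ∈ V ∧ V ≤ f ⁻¹ᵁ U := by
    obtain ⟨_, ⟨V, hV, rfl⟩, hxV, hVsub⟩ :=
      X.isBasis_affineOpens.exists_subset_of_mem_open (show x ∈ f ⁻¹ᵁ U from hxU) (f ⁻¹ᵁ U).2
    exact ⟨V, hV, hxV, hVsub⟩
  letI := (f.appLE U V hVU).hom.toAlgebra
  haveI : Algebra.FinitePresentation Γ(S, U) Γ(X, V) := f.finitePresentation_appLE hU hV hVU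
  rw [Scheme.Hom.mem_smoothLocus, formallySmooth_stalkMap_iff U hU V hV hVU hxV,
    FlatLib.flat_stalkMap_iff (f := f) U hU V hV hVU hxV, mem_smoothLocus_fibre_iff f x hU hV hVU hxV]
  exact mem_smoothLocus_iff_flat_fibSmooth _ _ _

end DepthLib
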