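import Groth.Agent.DepthLib.ModOpen
import Mathlib

/-! # The loci of fibre modules without embedded associated points -/

set_option autoImplicit false
universe u

open CategoryTheory AlgebraicGeometry Topology IsLocalRing CommAlgDim UOpenLib

namespace DepthLib

variable {X S : Scheme.{u}} (f : X ⟶ S) (F : X.Modules)

/-- Absence of embedded associated points in a fibre is `(S_1)` at all its points. -/
theorem noEmbedded_fibre_iff [LocallyOfFinitePresentation f] [Coh.IsQCoh F] (hFT : CohB1.IsFT F) (s : S) :
    AssSch.NoEmbedded ((Scheme.Modules.pullback (f.fiberι s)).obj F) ↔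
      ∀ x : X, f.base x = s → LocCoh.HasSk 1 ((f.fiber (f.base x)).presheaf.stalk (f.asFiber x))
        (((Scheme.Modules.pullback (f.fiberι (f.base x))).obj F).presheaf.stalk (f.asFiber x)) := by
  simp only [← noEmbedded_at_iff_hasS1 f F hFT]
  rw [← forall_fiber_iff f (fun y w => ∀ z ∈ AssSch.Ass ((Scheme.Modules.pullback (f.fiberι y)).obj F), w ∈ closure {z} →
    ∀ z' ∈ AssSch.Ass ((Scheme.Modules.pullback (f.fiberι y)).obj F), z ∈ closure {z'} → z' = z) s]
  exact ⟨fun h w z hz _ z' hz' hzz' => (h z hz z' hz' (specializes_iff_mem_closure.2 hzz')).symm,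
    fun h z hz z' hz' hsp => (h z z hz (subset_closure rfl) z' hz' hsp.mem_closure).symm⟩

/-- The points with fibre module without embedded associated points form a locally constructible set. -/
theorem isLocallyConstructible_noEmbedded_fibre [LocallyOfFinitePresentation f] [QuasiCompact f] [Coh.IsQCoh F]
    (hF : CohB1.IsFP F) (hFT : CohB1.IsFT F) :
    IsLocallyConstructible {s : S | AssSch.NoEmbedded ((Scheme.Modules.pullback (f.fiberι s)).obj F)} := by
  have heq : {s : S | AssSch.NoEmbedded ((Scheme.Modules.pullback (f.fiberι s)).obj F)} =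
      (f '' {x : X | LocCoh.HasSk 1 ((f.fiber (f.base x)).presheaf.stalk (f.asFiber x))
        (((Scheme.Modules.pullback (f.fiberι (f.base x))).obj F).presheaf.stalk (f.asFiber x))}ᶜ)ᶜ := by
    ext s
    simp only [Set.mem_setOf_eq, noEmbedded_fibre_iff f F hFT s, Set.mem_compl_iff, Set.mem_image, not_exists, not_and]
    exact ⟨fun h x hx hxs => hx (h x hxs), fun h x hxs => by_contra fun hx => h x hx hxs⟩
  rw [heq]
  exact isLocallyConstructible_compl (f.isLocallyConstructible_image
    (isLocallyConstructible_compl (isLocallyConstructible_hasSk_mod f F hF hFT 1)))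

/-- A locally constructible set containing the generic point contains a neighbourhood of it. -/
theorem exists_opens_subset_of_genericPoint_mem {S : Scheme.{u}} [IrreducibleSpace S] {G : Set S}
    (hG : IsLocallyConstructible G) (h : genericPoint S ∈ G) :
    ∃ U : S.Opens, genericPoint S ∈ U ∧ (U : Set S) ⊆ G := by
  obtain ⟨_, ⟨V, hV, rfl⟩, hηV, -⟩ :=
    S.isBasis_affineOpens.exists_subset_of_mem_open (Set.mem_univ (genericPoint S)) isOpen_univ
  have hc : IsConstructible (hV.fromSpec.base ⁻¹' G) :=
    (ConsLib.isLocallyConstructible_preimage hV.fromSpec hG).isConstructible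
  let O : Set ↥(Spec Γ(S, V)) := (closure (hV.fromSpec.base ⁻¹' G)ᶜ)ᶜ
  have hη : hV.primeIdealOf ⟨genericPoint S, hηV⟩ ∈ O := by
    intro hcl
    obtain ⟨a, ha, hab⟩ := Groth.Agent.ProConsLib.exists_specializes_of_mem_closure
      (Groth.Agent.ProConsLib.isClopen_cons_of_isConstructible hc.compl).1 hcl
    have h1 : hV.fromSpec.base a ⤳ genericPoint S :=
      (hab.map hV.fromSpec.continuous).trans (specializes_of_eq (hV.fromSpec_primeIdealOf ⟨_, hηV⟩))
    have h2 := h1.antisymm (genericPoint_specializes _)
    exact ha (show hV.fromSpec.base a ∈ G by rw [h2.eq]; exact h)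
  refine ⟨⟨hV.fromSpec '' O, hV.fromSpec.isOpenEmbedding.isOpenMap _ isClosed_closure.isOpen_compl⟩,
    ⟨_, hη, hV.fromSpec_primeIdealOf ⟨_, hηV⟩⟩, ?_⟩
  rintro _ ⟨Q, hQ, rfl⟩
  exact by_contra fun hQG => hQ (subset_closure hQG)

end DepthLib
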