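import Groth.Agent.CMFlatLib.FibreDepth
import Mathlib

/-! # Depth along flat local homomorphisms -/

set_option autoImplicit false
universe u

open IsLocalRing RingTheory.Sequence CommAlgDim GorLib CMFlatLib

namespace DepthLib

theorem hasSeqIn_ringEquiv {R S : Type u} [CommRing R] [IsLocalRing R] [CommRing S] [IsLocalRing S] (e : R ≃+* S)
    {n : ℕ} (h : HasSeqIn (maximalIdeal R) R n) : HasSeqIn (maximalIdeal S) S n := by
  obtain ⟨rs, hl, hm, hr⟩ := h
  refine ⟨rs.map e, by simpa using hl, fun r hr' => ?_, ?_⟩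
  · obtain ⟨a, ha, rfl⟩ := List.mem_map.1 hr'
    by_contra hc
    have hu : IsUnit (e a) := notMem_maximalIdeal.1 hc
    have := hu.map e.symm
    rw [e.symm_apply_apply] at this
    exact (IsLocalRing.maximalIdeal.isMaximal R).ne_top (Ideal.eq_top_of_isUnit_mem _ (hm a ha) this)
  · refine (AddEquiv.isWeaklyRegular_congr (e := e.toAddEquiv) ?_).1 hr
    simp only [List.forall₂_map_right_iff, List.forall₂_same]
    intro b _ x
    show e (b * x) = e b * e x
    rw [map_mul]

/-- The depths of the source and of the closed fibre add up below the depth of the target. -/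
theorem hasSeqIn_add : ∀ (a : ℕ) (A : Type u) [CommRing A] [IsLocalRing A] [IsNoetherianRing A]
    (B : Type u) [CommRing B] [IsLocalRing B] [IsNoetherianRing B]
    [Algebra A B] [IsLocalHom (algebraMap A B)] [Module.Flat A B] [IsLocalRing (Fib A B)] (b : ℕ),
    HasSeqIn (maximalIdeal A) A a → HasSeqIn (maximalIdeal (Fib A B)) (Fib A B) b →
      HasSeqIn (maximalIdeal B) B (a + b) := by
  intro a
  induction a with
  | zero =>
    intro A _ _ _ B _ _ _ _ _ _ _ b _ hb
    rw [zero_add]
    refine hasSeqIn_of_fib b A B (maximalIdeal B) le_rfl ?_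
    rwa [← maximalIdeal_quotient]
  | succ a ih =>
    intro A _ _ _ B _ _ _ _ _ _ _ b ha hb
    obtain ⟨rs, hl, hm, hr⟩ := ha
    obtain ⟨x, xs, rfl⟩ : ∃ x l, rs = x :: l := by
      cases rs with
      | nil => simp at hl
      | cons x l => exact ⟨x, l, rfl⟩
    rw [GorLib.isWeaklyRegular_cons_ring] at hr
    have hfm : x ∈ maximalIdeal A := hm x List.mem_cons_self
    have hfB : algebraMap A B x ∈ maximalIdeal B := (comap_maximalIdeal' A B x).2 hfm
    have hfreg : IsSMulRegular B (algebraMap A B x) := hr.1.of_flat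
    have hspan : (Ideal.span {x}).map (algebraMap A B) = Ideal.span {algebraMap A B x} := by
      rw [Ideal.map_span, Set.image_singleton]
    have hfne : Ideal.span {x} ≠ ⊤ :=
      ne_top_of_le_ne_top (Ideal.IsMaximal.ne_top inferInstance) ((Ideal.span_singleton_le_iff_mem _).2 hfm)
    have hfne' : (Ideal.span {x}).map (algebraMap A B) ≠ ⊤ := by
      rw [hspan]
      exact ne_top_of_le_ne_top (Ideal.IsMaximal.ne_top inferInstance) ((Ideal.span_singleton_le_iff_mem _).2 hfB)
    haveI : IsLocalRing (A ⧸ Ideal.span {x}) := isLocalRing_quotient hfne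
    haveI : IsLocalRing (B ⧸ (Ideal.span {x}).map (algebraMap A B)) := isLocalRing_quotient hfne'
    haveI : Module.Flat (A ⧸ Ideal.span {x}) (B ⧸ (Ideal.span {x}).map (algebraMap A B)) :=
      CatLib.flat_quotient _
    haveI : IsLocalHom (algebraMap (A ⧸ Ideal.span {x}) (B ⧸ (Ideal.span {x}).map (algebraMap A B))) := ⟨fun z hz => by
      obtain ⟨c, rfl⟩ := Ideal.Quotient.mk_surjective z
      by_contra han
      refine not_isUnit_mk hfne' ((comap_maximalIdeal' A B c).2 fun h => han (h.map _)) ?_
      exact hz⟩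
    haveI : IsLocalRing (Fib (A ⧸ Ideal.span {x}) (B ⧸ (Ideal.span {x}).map (algebraMap A B))) :=
      isLocalRing_quotient (map_maximalIdeal_ne_top _ _)
    let ε : Fib (A ⧸ Ideal.span {x}) (B ⧸ (Ideal.span {x}).map (algebraMap A B)) ≃+* Fib A B := by
      refine (Ideal.quotEquivOfEq ?_).trans (DoubleQuot.quotQuotEquivQuotOfLE
        (Ideal.map_mono ((Ideal.span_singleton_le_iff_mem _).2 hfm)))
      rw [maximalIdeal_quotient, Ideal.map_map, Ideal.map_map]
      rfl
    obtain ⟨ts, htl, htm, htr⟩ := ih (A ⧸ Ideal.span {x}) (B ⧸ (Ideal.span {x}).map (algebraMap A B)) b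
      ⟨xs.map (Ideal.Quotient.mk _), by simpa using hl, fun r hr' => by
        obtain ⟨c, hc, rfl⟩ := List.mem_map.1 hr'
        rw [maximalIdeal_quotient]
        exact Ideal.mem_map_of_mem _ (hm c (List.mem_cons_of_mem _ hc)), hr.2⟩
      (hasSeqIn_ringEquiv ε.symm hb)
    obtain ⟨us, hus, rfl⟩ := exists_map_list _ Ideal.Quotient.mk_surjective (maximalIdeal B) ts
      (fun r hr' => by rw [← maximalIdeal_quotient]; exact htm r hr')
    refine ⟨algebraMap A B x :: us, ?_, List.forall_mem_cons.2 ⟨hfB, hus⟩,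
      GorLib.isWeaklyRegular_cons_ring.2 ⟨hfreg, ?_⟩⟩
    · simp only [List.length_map] at htl
      simp [htl]
      omega
    · have h1 := (AddEquiv.isWeaklyRegular_congr
        (as := us.map (Ideal.Quotient.mk ((Ideal.span {x}).map (algebraMap A B))))
        (bs := us.map (Ideal.Quotient.mk (Ideal.span {algebraMap A B x})))
        (e := (Ideal.quotEquivOfEq hspan).toAddEquiv) ?_).1 htr
      · exact h1
      · simp only [List.forall₂_map_left_iff, List.forall₂_map_right_iff, List.forall₂_same]
        intro c _ z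
        show Ideal.quotEquivOfEq hspan (_ * z) = _ * Ideal.quotEquivOfEq hspan z
        rw [map_mul, Ideal.quotEquivOfEq_mk]

/-- The depths of the source and of the closed fibre add up below the depth of the target. -/
theorem add_le_depth (A : Type u) [CommRing A] [IsLocalRing A] [IsNoetherianRing A]
    (B : Type u) [CommRing B] [IsLocalRing B] [IsNoetherianRing B]
    [Algebra A B] [IsLocalHom (algebraMap A B)] [Module.Flat A B] [IsLocalRing (Fib A B)] {a b : ℕ}
    (ha : (a : ℕ∞) ≤ LocCoh.depth A A) (hb : (b : ℕ∞) ≤ LocCoh.depth (Fib A B) (Fib A B)) :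
    ((a + b : ℕ) : ℕ∞) ≤ LocCoh.depth B B :=
  (le_depth_iff _).2 (hasSeqIn_add a A B b ((le_depth_iff _).1 ha) ((le_depth_iff _).1 hb))

end DepthLib
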