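import Groth.Agent.DepthLib.FlatDepth
import Groth.Agent.DepthLib.SkStalk
import Groth.Agent.DepthLib.GeomRk
import Groth.Prelude.Def_FDesc
import Groth.Agent.CMFlatLib.Open
import Mathlib

/-! # `(S_k)` and field extensions -/

set_option autoImplicit false
universe u

open CategoryTheory CategoryTheory.Limits AlgebraicGeometry Topology TensorProduct IsLocalRing CMFlatLib GorLib

namespace DepthLib

/-- The Serre inequality goes up along flat local homomorphisms with Cohen-Macaulay closed fibre. -/
theorem serre_ineq_of_flat (A : Type u) [CommRing A] [IsLocalRing A] [IsNoetherianRing A]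
    (B : Type u) [CommRing B] [IsLocalRing B] [IsNoetherianRing B]
    [Algebra A B] [IsLocalHom (algebraMap A B)] [Module.Flat A B]
    (hcm : LocCoh.IsCohenMacaulayLocalRing (Fib A B)) (n : ℕ)
    (h : min (n : WithBot ℕ∞) (ringKrullDim A) ≤ ((LocCoh.depth A A : ℕ∞) : WithBot ℕ∞)) :
    min (n : WithBot ℕ∞) (ringKrullDim B) ≤ ((LocCoh.depth B B : ℕ∞) : WithBot ℕ∞) := by
  haveI := hcm
  obtain ⟨d, hd⟩ := CommAlgDim.exists_ringKrullDim_eq (R := A)
  obtain ⟨c, hc⟩ := CommAlgDim.exists_ringKrullDim_eq (R := Fib A B)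
  have hB : ringKrullDim B = ((d + c : ℕ) : WithBot ℕ∞) := by
    rw [← maximalIdeal_height_eq_ringKrullDim,
      Ideal.height_eq_height_add_of_liesOver_of_hasGoingDown (maximalIdeal A) (maximalIdeal B),
      WithBot.coe_add, maximalIdeal_height_eq_ringKrullDim, hd, ← maximalIdeal_quotient,
      maximalIdeal_height_eq_ringKrullDim, hc]
    exact (Nat.cast_add d c).symm
  have hfib : (c : ℕ∞) ≤ LocCoh.depth (Fib A B) (Fib A B) :=
    le_depth_of_isCM ((isCohenMacaulayLocalRing_iff_isCM _).1 hcm) hc.ge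
  rw [hd] at h
  have ha : ((min n d : ℕ) : ℕ∞) ≤ LocCoh.depth A A := by
    have e : min (n : WithBot ℕ∞) (d : WithBot ℕ∞) = (((min n d : ℕ) : ℕ∞) : WithBot ℕ∞) := by
      rcases le_total n d with h | h
      · rw [min_eq_left h, min_eq_left (Nat.cast_le.2 h)]; rfl
      · rw [min_eq_right h, min_eq_right (Nat.cast_le.2 h)]; rfl
    rw [e] at h
    exact WithBot.coe_le_coe.1 h
  rw [hB]
  refine le_trans ?_ (WithBot.coe_le_coe.2 (add_le_depth A B ha hfib))
  show _ ≤ (((min n d + c : ℕ) : ℕ∞) : WithBot ℕ∞)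
  rcases le_total n d with h' | h'
  · exact (min_le_left _ _).trans (Nat.cast_le.2 (by omega))
  · exact (min_le_right _ _).trans (Nat.cast_le.2 (by omega))

/-- The Serre inequality goes up along the base change of a finite type algebra by a field extension. -/
theorem serre_ineq_tensor_field (k K C : Type u) [Field k] [Field K] [Algebra k K] [CommRing C] [Algebra k C]
    [Algebra.FiniteType k C] (Q : Ideal (C ⊗[k] K)) [Q.IsPrime] (n : ℕ)
    (h : min (n : WithBot ℕ∞) (ringKrullDim (Localization.AtPrime (Q.comap (algebraMap C (C ⊗[k] K))))) ≤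
      ((LocCoh.depth (Localization.AtPrime (Q.comap (algebraMap C (C ⊗[k] K))))
        (Localization.AtPrime (Q.comap (algebraMap C (C ⊗[k] K)))) : ℕ∞) : WithBot ℕ∞)) :
    min (n : WithBot ℕ∞) (ringKrullDim (Localization.AtPrime Q)) ≤
      ((LocCoh.depth (Localization.AtPrime Q) (Localization.AtPrime Q) : ℕ∞) : WithBot ℕ∞) := by
  haveI : IsNoetherianRing C := Algebra.FiniteType.isNoetherianRing k C
  haveI : IsNoetherianRing (C ⊗[k] K) := by
    haveI : IsNoetherianRing (K ⊗[k] C) := Algebra.FiniteType.isNoetherianRing K _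
    exact isNoetherianRing_of_ringEquiv _ (Algebra.TensorProduct.comm k K C).toRingEquiv
  let p := Q.comap (algebraMap C (C ⊗[k] K))
  let A := Localization.AtPrime p
  let B := Localization.AtPrime Q
  letI : Algebra A B := (Localization.localRingHom p Q (algebraMap C (C ⊗[k] K)) rfl).toAlgebra
  haveI : IsScalarTower C A B := IsScalarTower.of_algebraMap_eq fun x => by
    show _ = Localization.localRingHom p Q (algebraMap C (C ⊗[k] K)) rfl (algebraMap C A x)
    rw [Localization.localRingHom_to_map, IsScalarTower.algebraMap_apply C (C ⊗[k] K) B]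
  haveI : IsLocalHom (algebraMap A B) :=
    Localization.isLocalHom_localRingHom p Q (algebraMap C (C ⊗[k] K)) rfl
  haveI : Module.Flat C B := Module.Flat.trans C (C ⊗[k] K) B
  haveI : Module.Flat A B := (Module.flat_iff_of_isLocalization A p.primeCompl B).2 inferInstance
  haveI : IsNoetherianRing A := IsLocalization.isNoetherianRing p.primeCompl _ inferInstance
  haveI : IsNoetherianRing B := IsLocalization.isNoetherianRing Q.primeCompl _ inferInstance
  have hG : LocCoh.IsGorensteinRing (p.Fiber (C ⊗[k] K)) := by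
    haveI : Algebra.EssFiniteType k p.ResidueField := Algebra.EssFiniteType.comp k C p.ResidueField
    obtain ⟨s, hs⟩ : ∃ s : Finset p.ResidueField, IntermediateField.adjoin k (s : Set p.ResidueField) = ⊤ :=
      IntermediateField.fg_top_iff.2 inferInstance
    exact GorLib.gorensteinRing_of_ringEquiv
      ((Algebra.TensorProduct.cancelBaseChange k C C p.ResidueField K).toRingEquiv.trans
        (Algebra.TensorProduct.comm k p.ResidueField K).toRingEquiv)
      (GorLib.gorensteinRing_tensor_field ⟨s, hs⟩ GorLib.gorensteinRing_of_field)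
  obtain ⟨q', hq'⟩ : ∃ q' : PrimeSpectrum (p.Fiber (C ⊗[k] K)),
      q'.asIdeal.comap Algebra.TensorProduct.includeRight = Q :=
    ⟨PrimeSpectrum.preimageEquivFiber C (C ⊗[k] K) ⟨p, inferInstance⟩ ⟨⟨Q, inferInstance⟩, PrimeSpectrum.ext rfl⟩,
      congrArg (fun x => PrimeSpectrum.asIdeal x.1) ((PrimeSpectrum.preimageEquivFiber C (C ⊗[k] K) ⟨p, inferInstance⟩).symm_apply_apply
        ⟨⟨Q, inferInstance⟩, PrimeSpectrum.ext rfl⟩)⟩
  have hloc := (cmRing_of_gorenstein hG).isCohenMacaulayLocalRing_localization q'.asIdeal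
  have hcm : LocCoh.IsCohenMacaulayLocalRing (Fib A B) := by
    refine isCohenMacaulayLocalRing_congr (Ideal.quotEquivOfEq ?_) |>.1
      ((cm_fibre_loc_iff (R := C) (S := C ⊗[k] K) p q'.asIdeal Q hq').1 hloc)
    rw [← Localization.AtPrime.map_eq_maximalIdeal, Ideal.map_map, ← IsScalarTower.algebraMap_eq]
  exact serre_ineq_of_flat A B hcm n h

theorem min_dim_le_depth_congr {R R' : Type u} [CommRing R] [IsLocalRing R] [IsNoetherianRing R]
    [CommRing R'] [IsLocalRing R'] [IsNoetherianRing R'] (e : R ≃+* R') (n : ℕ)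
    (h : min (n : WithBot ℕ∞) (ringKrullDim R) ≤ ((LocCoh.depth R R : ℕ∞) : WithBot ℕ∞)) :
    min (n : WithBot ℕ∞) (ringKrullDim R') ≤ ((LocCoh.depth R' R' : ℕ∞) : WithBot ℕ∞) := by
  rwa [← ringKrullDim_eq_of_ringEquiv e, ← depth_congr_ringEquiv e]

/-- `(S_n)` at a point passes to the points above it after a field extension. -/
theorem hasSk_stalk_baseChange {k : Type u} [Field k] {F : Scheme.{u}} (f : F ⟶ Spec (CommRingCat.of k))
    [LocallyOfFinitePresentation f] (K : Type u) [Field K] [Algebra k K] (y' : ↥(FBase.bc f K)) (n : ℕ)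
    (h : LocCoh.HasSk n (F.presheaf.stalk ((FBase.bcπ f K).base y')) (F.presheaf.stalk ((FBase.bcπ f K).base y'))) :
    LocCoh.HasSk n ((FBase.bc f K).presheaf.stalk y') ((FBase.bc f K).presheaf.stalk y') := by
  let g := Spec.map (CommRingCat.ofHom (algebraMap k K))
  let π : pullback f g ⟶ F := pullback.fst f g
  let str : pullback f g ⟶ Spec (CommRingCat.of K) := pullback.snd f g
  haveI : IsLocallyNoetherian F := LocallyOfFiniteType.isLocallyNoetherian f
  haveI : IsLocallyNoetherian (pullback f g) := LocallyOfFiniteType.isLocallyNoetherian str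
  refine (hasSk_stalk_iff (F := pullback f g) y' n).2 fun (z' : ↥(pullback f g)) hz' => ?_
  have hz := (hasSk_stalk_iff ((FBase.bcπ f K).base y') n).1 h (π z') (hz'.map π.continuous)
  obtain ⟨_, ⟨V, hV, rfl⟩, hzV, -⟩ :=
    F.isBasis_affineOpens.exists_subset_of_mem_open (Set.mem_univ (π z')) isOpen_univ
  obtain ⟨φ, hφ⟩ := Spec.map_surjective (hV.fromSpec ≫ f)
  let C := Γ(F, V)
  letI : Algebra k C := φ.hom.toAlgebra
  haveI : LocallyOfFiniteType (Spec.map (CommRingCat.ofHom (algebraMap k C))) := by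
    show LocallyOfFiniteType (Spec.map φ)
    rw [hφ]; infer_instance
  haveI : Algebra.FiniteType k C := RingHom.finiteType_algebraMap.1
    ((HasRingHomProperty.Spec_iff (P := @LocallyOfFiniteType)
      (φ := CommRingCat.ofHom (algebraMap k C))).1 inferInstance)
  let iL := CommRingCat.ofHom (algebraMap C (C ⊗[k] K))
  let iR := CommRingCat.ofHom (Algebra.TensorProduct.includeRight : K →ₐ[k] C ⊗[k] K).toRingHom
  have hsq : IsPullback (Spec.map iL) (Spec.map iR) (Spec.map φ) g :=
    isPullback_SpecMap_of_isPushout _ _ _ _ (CommRingCat.isPushout_tensorProduct k C K)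
  let m := pullback.map (Spec.map φ) g f g hV.fromSpec (𝟙 _) (𝟙 _)
    (by rw [Category.comp_id]; exact hφ) (by simp)
  let θ := hsq.isoPullback.hom ≫ m
  haveI : IsOpenImmersion m := inferInstance
  haveI : IsOpenImmersion θ := inferInstance
  obtain ⟨P, hP⟩ : z' ∈ Set.range θ := by
    have hm : z' ∈ Set.range m := by
      rw [Scheme.Pullback.range_map, hV.range_fromSpec]
      exact ⟨hzV, ⟨pullback.snd f g z', rfl⟩⟩
    obtain ⟨t, ht⟩ := hm
    refine ⟨hsq.isoPullback.inv t, ?_⟩
    show (hsq.isoPullback.inv ≫ θ) t = z'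
    rw [show hsq.isoPullback.inv ≫ θ = m by simp [θ], ht]
  have hθ : θ ≫ π = Spec.map iL ≫ hV.fromSpec := by
    simp only [θ, π, m, Category.assoc]
    erw [pullback.lift_fst]
    rw [← Category.assoc, hsq.isoPullback_hom_fst]
  let q := hV.primeIdealOf ⟨π z', hzV⟩
  have hq : q.asIdeal = P.asIdeal.comap (algebraMap C (C ⊗[k] K)) := by
    refine congrArg PrimeSpectrum.asIdeal
      (hV.fromSpec.isOpenEmbedding.injective ((hV.fromSpec_primeIdealOf ⟨π z', hzV⟩).trans ?_) :
        q = PrimeSpectrum.comap (algebraMap C (C ⊗[k] K)) P)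
    show π z' = hV.fromSpec (Spec.map iL P)
    rw [← hP, ← Scheme.Hom.comp_apply, hθ, Scheme.Hom.comp_apply]
  letI := F.presheaf.algebra_section_stalk ⟨π z', hzV⟩
  haveI : IsLocalization.AtPrime (F.presheaf.stalk (π z')) q.asIdeal := hV.isLocalization_stalk ⟨π z', hzV⟩
  haveI : IsLocalization.AtPrime (F.presheaf.stalk (π z')) (P.asIdeal.comap (algebraMap C (C ⊗[k] K))) := by
    simp only [← hq]; infer_instance
  haveI : IsNoetherianRing C := Algebra.FiniteType.isNoetherianRing k C
  haveI : IsNoetherianRing (Localization.AtPrime (P.asIdeal.comap (algebraMap C (C ⊗[k] K)))) :=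
    IsLocalization.isNoetherianRing (P.asIdeal.comap (algebraMap C (C ⊗[k] K))).primeCompl _ inferInstance
  haveI : IsNoetherianRing (C ⊗[k] K) := by
    haveI : IsNoetherianRing (K ⊗[k] C) := Algebra.FiniteType.isNoetherianRing K _
    exact isNoetherianRing_of_ringEquiv _ (Algebra.TensorProduct.comm k K C).toRingEquiv
  haveI : IsNoetherianRing (Localization.AtPrime P.asIdeal) :=
    IsLocalization.isNoetherianRing P.asIdeal.primeCompl _ inferInstance
  have h1 := serre_ineq_tensor_field k K C P.asIdeal n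
    (min_dim_le_depth_congr (IsLocalization.algEquiv (P.asIdeal.comap (algebraMap C (C ⊗[k] K))).primeCompl
      (F.presheaf.stalk (π z')) _).toRingEquiv n hz)
  let R' := CommRingCat.of (C ⊗[k] K)
  letI : Algebra R' ((Spec R').presheaf.stalk P) := StructureSheaf.stalkAlgebra R' P
  haveI : IsLocalization.AtPrime ((Spec R').presheaf.stalk P) P.asIdeal :=
    StructureSheaf.IsLocalization.to_stalk R' P
  subst hP
  exact min_dim_le_depth_congr
    ((IsLocalization.algEquiv (R := R') P.asIdeal.primeCompl (Localization.AtPrime P.asIdeal)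
      ((Spec R').presheaf.stalk P)).toRingEquiv.trans (asIso (θ.stalkMap P)).symm.commRingCatIsoToRingEquiv) n h1

end DepthLib
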