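import Groth.Agent.DepthLib.GeomRkOpen
import Groth.Agent.DepthLib.SkFieldExt
import Mathlib

/-! # Geometrically normal points of fibres -/

set_option autoImplicit false
universe u

open CategoryTheory CategoryTheory.Limits AlgebraicGeometry Topology IsLocalRing

namespace DepthLib

theorem locNormal_iff_of_isLocalRing (R : Type u) [CommRing R] [IsLocalRing R] :
    NormalLib.LocNormal R ↔ IsDomain R ∧ IsIntegrallyClosed R := by
  constructor
  · intro h
    obtain ⟨h1, h2⟩ := h (maximalIdeal R)
    let e := (IsLocalization.atUnits R (maximalIdeal R).primeCompl (S := Localization.AtPrime (maximalIdeal R))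
      (fun x hx => notMem_maximalIdeal.1 hx)).toRingEquiv
    haveI : IsDomain R := e.toMulEquiv.isDomain _
    exact ⟨inferInstance, IsIntegrallyClosed.of_equiv e.symm⟩
  · rintro ⟨h1, h2⟩ p hp
    have hM : p.primeCompl ≤ nonZeroDivisors R := fun x hx =>
      mem_nonZeroDivisors_of_ne_zero fun h0 => hx (h0 ▸ p.zero_mem)
    exact ⟨IsLocalization.isDomain_of_le_nonZeroDivisors (Localization.AtPrime p) hM,
      isIntegrallyClosed_of_isLocalization (Localization.AtPrime p) p.primeCompl hM⟩

theorem normal_iff_r1_s2 (R : Type u) [CommRing R] [IsLocalRing R] [IsNoetherianRing R] :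
    (IsDomain R ∧ IsIntegrallyClosed R) ↔ LocCoh.HasRk 1 R ∧ LocCoh.HasSk 2 R R := by
  rw [← locNormal_iff_of_isLocalRing, NormalLib.serre_normal_iff]

theorem hasSk_self_congr {R R' : Type u} [CommRing R] [IsNoetherianRing R] [IsLocalRing R]
    [CommRing R'] [IsNoetherianRing R'] [IsLocalRing R'] (e : R ≃+* R')
    (h : IsDomain R ∧ IsIntegrallyClosed R) : IsDomain R' ∧ IsIntegrallyClosed R' := by
  haveI := h.1
  haveI := h.2
  haveI : IsDomain R' := e.symm.toMulEquiv.isDomain _
  exact ⟨inferInstance, IsIntegrallyClosed.of_equiv e⟩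

variable {k : Type u} [Field k] {F : Scheme.{u}} (f : F ⟶ Spec (CommRingCat.of k)) [LocallyOfFinitePresentation f]

/-- Geometric normality over a field is geometric `(R_1)` with `(S_2)`. -/
theorem geomNormal_iff (y : F) (Pr : ∀ (K : Type u) [Field K] [Algebra k K], Prop)
    (hPr : Pr k) :
    (∀ (K : Type u) [Field K] [Algebra k K], Pr K → ∀ (y' : ↥(FBase.bc f K)), (FBase.bcπ f K).base y' = y →
        (IsDomain ((FBase.bc f K).presheaf.stalk y') ∧ IsIntegrallyClosed ((FBase.bc f K).presheaf.stalk y'))) ↔
      (∀ (K : Type u) [Field K] [Algebra k K], Pr K → ∀ (y' : ↥(FBase.bc f K)), (FBase.bcπ f K).base y' = y →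
          LocCoh.HasRk 1 ((FBase.bc f K).presheaf.stalk y')) ∧
        LocCoh.HasSk 2 (F.presheaf.stalk y) (F.presheaf.stalk y) := by
  have hnoe : ∀ (K : Type u) [Field K] [Algebra k K], IsLocallyNoetherian (FBase.bc f K) := fun K _ _ => by
    let str : FBase.bc f K ⟶ Spec (CommRingCat.of K) := pullback.snd f _
    haveI : LocallyOfFiniteType str := MorphismProperty.pullback_snd _ _ inferInstance
    exact LocallyOfFiniteType.isLocallyNoetherian str
  haveI : IsLocallyNoetherian F := LocallyOfFiniteType.isLocallyNoetherian f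
  constructor
  · intro h
    refine ⟨fun K _ _ hK y' hy' => ?_, ?_⟩
    · haveI := hnoe K
      exact ((normal_iff_r1_s2 _).1 (h K hK y' hy')).1
    · haveI := hnoe k
      let g := Spec.map (CommRingCat.ofHom (algebraMap k k))
      let π : FBase.bc f k ⟶ F := FBase.bcπ f k
      have hgid : g = 𝟙 _ := by
        show Spec.map (CommRingCat.ofHom (algebraMap k k)) = _
        rw [Algebra.algebraMap_self, CommRingCat.ofHom_id, Spec.map_id]
      haveI : IsIso g := hgid ▸ inferInstance
      haveI : IsIso π := inferInstanceAs (IsIso (pullback.fst f g))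
      obtain ⟨y', hy'⟩ := π.surjective y
      have h1 := h k hPr y' hy'
      have h2 := hasSk_self_congr ((asIso (π.stalkMap y')).symm.commRingCatIsoToRingEquiv) h1
      subst hy'
      exact ((normal_iff_r1_s2 _).1 h2).2
  · rintro ⟨h1, h2⟩ K _ _ hK y' hy'
    haveI := hnoe K
    refine (normal_iff_r1_s2 _).2 ⟨h1 K hK y' hy', hasSk_stalk_baseChange f K y' 2 ?_⟩
    rw [hy']
    exact h2

end DepthLib
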