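import Groth.Agent.DepthLib.PDCons
import Groth.Agent.DepthLib.FibDepth
import Groth.Agent.ConsLib.General
import Mathlib

/-! # Vanishing of the fibres -/

set_option autoImplicit false
universe u

open TensorProduct CategoryTheory AlgebraicGeometry Topology IsLocalRing CommAlgDim

attribute [local instance] MvPolynomial.algebraMvPolynomial

namespace DepthLib

theorem mem_fibPD_zero_iff (R : Type u) {P : Type u} [CommRing R] [CommRing P] [Algebra R P]
    (M : Type u) [AddCommGroup M] [Module P M] [Module.Finite P M] (q : PrimeSpectrum P) :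
    q ∈ fibPD R (P := P) M 0 ↔ q ∉ Module.support P M := by
  show PDLT (FibRing R q) (FibRing R q ⊗[P] M) 0 ↔ _
  rw [pdlt_zero_iff, Module.notMem_support_iff]
  let L := Localization.AtPrime q.asIdeal
  let Mq := LocalizedModule q.asIdeal.primeCompl M
  let I : Ideal L := (q.asIdeal.comap (algebraMap R P)).map (algebraMap R L)
  let e : Mq ≃ₗ[L] L ⊗[P] M := LocalizedModule.equivTensorProduct _ M
  let e₁ : (L ⧸ I) ⊗[L] Mq ≃ₗ[L] (L ⧸ I) ⊗[P] M :=
    (AlgebraTensorModule.congr (LinearEquiv.refl L (L ⧸ I)) e).trans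
      ((AlgebraTensorModule.cancelBaseChange P L L (L ⧸ I) M))
  let e₂ : (L ⧸ I) ⊗[L] Mq ≃ₗ[L] Mq ⧸ (I • (⊤ : Submodule L Mq)) := TensorProduct.quotTensorEquivQuotSMul Mq I
  rw [(e₁.symm.trans e₂).toEquiv.subsingleton_congr]
  refine ⟨fun h => ?_, fun h => inferInstance⟩
  have htop : I • (⊤ : Submodule L Mq) = ⊤ := Submodule.Quotient.subsingleton_iff.1 h
  have := Submodule.eq_bot_of_le_smul_of_le_jacobson_bot I (⊤ : Submodule L Mq) Module.Finite.fg_top htop.ge
    ((fib_le_maximalIdeal R q).trans (jacobson_eq_maximalIdeal (⊥ : Ideal L) bot_ne_top).ge)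
  exact subsingleton_of_forall_eq 0 fun x => by
    have : x ∈ (⊤ : Submodule L Mq) := Submodule.mem_top
    simpa [‹(⊤ : Submodule L Mq) = ⊥›] using this

theorem mem_support_baseChange {P₀ P : Type u} [CommRing P₀] [CommRing P] [Algebra P₀ P] (M₀ : Type u)
    [AddCommGroup M₀] [Module P₀ M₀] [Module.Finite P₀ M₀] (q : PrimeSpectrum P) :
    q ∈ Module.support P (P ⊗[P₀] M₀) ↔ PrimeSpectrum.comap (algebraMap P₀ P) q ∈ Module.support P₀ M₀ := by
  rw [Module.mem_support_iff_nontrivial_residueField_tensorProduct,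
    Module.mem_support_iff_nontrivial_residueField_tensorProduct]
  let k := (q.asIdeal.comap (algebraMap P₀ P)).ResidueField
  let K := q.asIdeal.ResidueField
  letI : Algebra k K := (Ideal.ResidueField.map _ q.asIdeal (algebraMap P₀ P) rfl).toAlgebra
  haveI : IsScalarTower P₀ k K := IsScalarTower.of_algebraMap_eq fun a => by
    show _ = Ideal.ResidueField.map _ q.asIdeal (algebraMap P₀ P) rfl (algebraMap P₀ k a)
    rw [Ideal.ResidueField.map_algebraMap, IsScalarTower.algebraMap_apply P₀ P K]
  rw [((AlgebraTensorModule.cancelBaseChange P₀ P K K M₀).trans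
    (AlgebraTensorModule.cancelBaseChange P₀ k K K M₀).symm).toEquiv.nontrivial_congr]
  refine ⟨fun h => ?_, fun h => ?_⟩
  · by_contra hc
    rw [not_nontrivial_iff_subsingleton] at hc
    haveI : Subsingleton (k ⊗[P₀] M₀) := hc
    haveI : Subsingleton (K ⊗[k] (k ⊗[P₀] M₀)) := inferInstance
    exact not_subsingleton (K ⊗[k] (k ⊗[P₀] M₀)) inferInstance
  · haveI : Nontrivial (k ⊗[P₀] M₀) := h
    exact Module.FaithfullyFlat.lTensor_nontrivial k K (k ⊗[P₀] M₀)

/-- The complement of the support of a module of finite presentation over a polynomial ring. -/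
theorem isLocallyConstructible_fibPD_zero {σ R : Type u} [Finite σ] [CommRing R] (M : Type u) [AddCommGroup M]
    [Module (MvPolynomial σ R) M] [Module.FinitePresentation (MvPolynomial σ R) M] :
    IsLocallyConstructible (fibPD R (P := MvPolynomial σ R) M 0) := by
  obtain ⟨A, M₀, _, _, _, _, hA, _, ⟨e⟩, -⟩ := FlatLib.exists_model (σ := σ) (R := R) (M := M) ∅ (by simp)
  haveI : Algebra.FiniteType ℤ A := (Subalgebra.fg_iff_finiteType _).1 hA
  haveI : IsNoetherianRing A := Algebra.FiniteType.isNoetherianRing ℤ A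
  haveI : IsNoetherianRing (MvPolynomial σ A) := inferInstance
  have hset : fibPD R (P := MvPolynomial σ R) M 0 =
      PrimeSpectrum.comap (algebraMap (MvPolynomial σ A) (MvPolynomial σ R)) ⁻¹'
        (Module.support (MvPolynomial σ A) M₀)ᶜ := by
    ext q
    rw [mem_fibPD_zero_iff, Set.mem_preimage, Set.mem_compl_iff, ← e.support_eq]
    exact not_congr (mem_support_baseChange M₀ q)
  rw [hset]
  refine ConsLib.isLocallyConstructible_preimage
    (Spec.map (CommRingCat.ofHom (algebraMap (MvPolynomial σ A) (MvPolynomial σ R)))) ?_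
  have hc : IsConstructible (Module.support (MvPolynomial σ A) M₀)ᶜ :=
    (TopologicalSpace.NoetherianSpace.isCompact _).isConstructible Module.isClosed_support.isOpen_compl
  exact hc.isLocallyConstructible

end DepthLib
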