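import Groth.Agent.DepthLib.SkCons
import Groth.Agent.EquidimLib.DimBetween
import Groth.Agent.QCohLib.Support
import Groth.Agent.InvLib.Depth
import Groth.Agent.QCohLib.AffineFinite
import Mathlib

/-! # The dimension of the support of a module on the fibres -/

set_option autoImplicit false
universe u

open CategoryTheory AlgebraicGeometry Topology TensorProduct UOpenLib IsLocalRing

namespace DepthLib

variable {X S : Scheme.{u}} (f : X ⟶ S)

/-- The stalks of the fibre module in a chart: support, dimension of the support, depth. -/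
theorem supportDim_fibre_stalk [LocallyOfFiniteType f] (F : X.Modules) [Coh.IsQCoh F] (hF : CohB1.IsFT F) (x : X) :
    Module.Finite ((f.fiber (f.base x)).presheaf.stalk (f.asFiber x))
        (((Scheme.Modules.pullback (f.fiberι (f.base x))).obj F).presheaf.stalk (f.asFiber x)) ∧
      Module.supportDim ((f.fiber (f.base x)).presheaf.stalk (f.asFiber x))
          (((Scheme.Modules.pullback (f.fiberι (f.base x))).obj F).presheaf.stalk (f.asFiber x)) =
        topologicalKrullDim ↥{z : X | z ⤳ x ∧ f.base z = f.base x ∧ z ∈ CohB1.support F} := by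
  let ι := f.fiberι (f.base x)
  let y := f.asFiber x
  obtain ⟨_, ⟨V, hV, rfl⟩, hxV, -⟩ :=
    X.isBasis_affineOpens.exists_subset_of_mem_open (Set.mem_univ x) isOpen_univ
  haveI := QCohLib.finite_of_isFT hF hV
  have hy : ι y ∈ V := by
    show f.fiberι (f.base x) (f.asFiber x) ∈ V
    rw [f.fiberι_asFiber]; exact hxV
  let z := ι y
  let O := X.presheaf.stalk z
  let O' := (f.fiber (f.base x)).presheaf.stalk y
  letI : Algebra O O' := (ι.stalkMap y).hom.toAlgebra
  letI : Algebra Γ(X, V) O := (X.presheaf.germ V z hy).hom.toAlgebra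
  letI : Algebra Γ(X, V) O' := (ι.stalkMap y).hom.comp (X.presheaf.germ V z hy).hom |>.toAlgebra
  haveI : IsScalarTower Γ(X, V) O O' := IsScalarTower.of_algebraMap_eq fun _ => rfl
  haveI : IsLocalization.AtPrime O (hV.primeIdealOf ⟨z, hy⟩).asIdeal := hV.isLocalization_stalk ⟨z, hy⟩
  letI := Module.compHom (F.presheaf.stalk z) (X.presheaf.germ V z hy).hom
  haveI : IsScalarTower Γ(X, V) O (F.presheaf.stalk z) := IsScalarTower.of_algebraMap_smul fun _ _ => rfl
  haveI := FlatLib.isLocalizedModule_germLin F hV hy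
  have hb : IsBaseChange O (FlatLib.germLin F hy) :=
    IsLocalizedModule.isBaseChange (hV.primeIdealOf ⟨z, hy⟩).asIdeal.primeCompl O _
  let e₁ : O' ⊗[O] F.presheaf.stalk z ≃ₗ[O'] ((Scheme.Modules.pullback ι).obj F).presheaf.stalk y :=
    ((KFlatLib.stalkPullIso ι y).symm.app F).toLinearEquiv
  let e₂ : O' ⊗[Γ(X, V)] Γ(F, V) ≃ₗ[O'] O' ⊗[O] F.presheaf.stalk z :=
    (AlgebraTensorModule.cancelBaseChange Γ(X, V) O O' O' Γ(F, V)).symm.trans
      (AlgebraTensorModule.congr (LinearEquiv.refl O' O') hb.equiv)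
  let N := O' ⊗[Γ(X, V)] Γ(F, V)
  refine ⟨Module.Finite.equiv (e₂.trans e₁), ?_⟩
  rw [← Module.supportDim_eq_of_equiv (e₂.trans e₁), Module.supportDim_eq_ringKrullDim_quotient_annihilator]
  let J := Module.annihilator O' N
  let i : PrimeSpectrum (O' ⧸ J) → X :=
    (ι ∘ EquidimLib.stalkPt y) ∘ PrimeSpectrum.comap (Ideal.Quotient.mk J)
  refine EquidimLib.dim_eq_of_range (i := i) ((ι.isEmbedding.isInducing.comp
    (EquidimLib.isInducing_stalkPt y)).comp
      (PrimeSpectrum.isClosedEmbedding_comap_of_surjective _ _ Ideal.Quotient.mk_surjective).isInducing) ?_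
  have hpt : ∀ p : PrimeSpectrum O', ι (EquidimLib.stalkPt y p) =
      hV.fromSpec (PrimeSpectrum.comap (algebraMap Γ(X, V) O') p) := by
    intro p
    have h1 : (f.fiber (f.base x)).fromSpecStalk y ≫ ι = Spec.map (X.presheaf.germ V z hy ≫ ι.stalkMap y) ≫ hV.fromSpec := by
      rw [← Scheme.SpecMap_stalkMap_fromSpecStalk, Spec.map_comp, Category.assoc,
        ← hV.fromSpecStalk_eq_fromSpecStalk hy]
      rfl
    exact congrArg (fun φ => φ.base p) h1
  have hmemV : ∀ Q, hV.fromSpec Q ∈ V := fun Q => by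
    have h1 : hV.fromSpec Q ∈ Set.range hV.fromSpec := ⟨Q, rfl⟩
    rwa [hV.range_fromSpec] at h1
  have hsupp : ∀ p : PrimeSpectrum O', p ∈ Module.support O' N ↔ ι (EquidimLib.stalkPt y p) ∈ CohB1.support F := by
    intro p
    rw [mem_support_baseChange, hpt p]
    set Q := PrimeSpectrum.comap (algebraMap Γ(X, V) O') p
    rw [← QCohLib.mem_support_iff hV (hmemV Q), show hV.primeIdealOf ⟨hV.fromSpec Q, hmemV Q⟩ = Q from
      hV.fromSpec.isOpenEmbedding.injective (hV.fromSpec_primeIdealOf ⟨_, hmemV Q⟩)]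
  rw [Set.range_comp, EquidimLib.comap_mk_range]
  have hzero : ∀ p : PrimeSpectrum O', J ≤ p.asIdeal ↔ p ∈ Module.support O' N := fun p => by
    rw [Module.support_eq_zeroLocus, PrimeSpectrum.mem_zeroLocus, SetLike.coe_subset_coe]
  ext v
  constructor
  · rintro ⟨p, hp, rfl⟩
    refine ⟨?_, (f.range_fiberι _).le ⟨_, rfl⟩, (hsupp p).1 ((hzero p).1 hp)⟩
    have := (EquidimLib.stalkPt_specializes y p).map ι.continuous
    rwa [f.fiberι_asFiber] at this
  · rintro ⟨hvx, hfv, hv⟩
    obtain ⟨w, rfl⟩ : v ∈ Set.range ι := by rw [f.range_fiberι]; exact hfv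
    obtain ⟨p, rfl⟩ := EquidimLib.exists_stalkPt (show w ⤳ y from ι.isEmbedding.isInducing.specializes_iff.1 (by
        show ι w ⤳ f.fiberι (f.base x) (f.asFiber x)
        rwa [f.fiberι_asFiber]))
    exact ⟨p, (hzero p).2 ((hsupp p).2 hv), rfl⟩

theorem supportDim_fibre_stalk_eq_of_closed [LocallyOfFiniteType f] (F : X.Modules) [Coh.IsQCoh F]
    (hF : CohB1.IsFT F) {Z : Scheme.{u}} (j : Z ⟶ X) [IsClosedImmersion j] (hj : Set.range j = CohB1.support F)
    (w : Z) :
    Module.supportDim ((f.fiber (f.base (j w))).presheaf.stalk (f.asFiber (j w)))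
        (((Scheme.Modules.pullback (f.fiberι (f.base (j w)))).obj F).presheaf.stalk (f.asFiber (j w))) =
      ringKrullDim (((j ≫ f).fiber ((j ≫ f).base w)).presheaf.stalk ((j ≫ f).asFiber w)) := by
  rw [(supportDim_fibre_stalk f F hF (j w)).2]
  symm
  let g := j ≫ f
  let y := g.asFiber w
  let ι := g.fiberι (g.base w)
  refine EquidimLib.dim_eq_of_range (i := (j ∘ ι) ∘ EquidimLib.stalkPt y)
    ((j.isEmbedding.isInducing.comp ι.isEmbedding.isInducing).comp (EquidimLib.isInducing_stalkPt y)) ?_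
  rw [Set.range_comp, EquidimLib.range_stalkPt]
  ext v
  constructor
  · rintro ⟨a, ha, rfl⟩
    have h1 := (ha.map ι.continuous).map j.continuous
    rw [g.fiberι_asFiber] at h1
    exact ⟨h1, (g.range_fiberι _).le ⟨a, rfl⟩, hj ▸ ⟨_, rfl⟩⟩
  · rintro ⟨hvx, hfv, hv⟩
    rw [← hj] at hv
    obtain ⟨b, rfl⟩ := hv
    obtain ⟨a, rfl⟩ : b ∈ Set.range ι := by rw [g.range_fiberι]; exact hfv
    refine ⟨a, ι.isEmbedding.isInducing.specializes_iff.1 ?_, rfl⟩
    rw [g.fiberι_asFiber]
    exact j.isEmbedding.isInducing.specializes_iff.1 hvx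

theorem exists_supp_numbers [LocallyOfFiniteType f] (F : X.Modules) [Coh.IsQCoh F] (hF : CohB1.IsFT F)
    {Z : Scheme.{u}} (j : Z ⟶ X) [IsClosedImmersion j] (hj : Set.range j = CohB1.support F) (w : Z) :
    ∃ d r : ℕ, Module.supportDim ((f.fiber (f.base (j w))).presheaf.stalk (f.asFiber (j w)))
          (((Scheme.Modules.pullback (f.fiberι (f.base (j w)))).obj F).presheaf.stalk (f.asFiber (j w))) =
          (d : WithBot ℕ∞) ∧
      topologicalKrullDim ↥(closure ({f.asFiber (j w)} : Set ↥(f.fiber (f.base (j w))))) = (r : WithBot ℕ∞) ∧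
      FlatMor.fibreDimAt (j ≫ f) w = ((d + r : ℕ) : WithBot ℕ∞) := by
  obtain ⟨d, r, hd, hr, he⟩ := exists_fibre_numbers (j ≫ f) w
  refine ⟨d, r, (supportDim_fibre_stalk_eq_of_closed f F hF j hj w).trans hd, ?_, he⟩
  exact (show UOpenLib.fibreClosureDim f (j w) = UOpenLib.fibreClosureDim (j ≫ f) w from
    (fibreClosureDim_comp_closed f j w).symm).trans hr

theorem depth_le_supportDim_fibre [LocallyOfFiniteType f] (F : X.Modules) [Coh.IsQCoh F] (hF : CohB1.IsFT F) (x : X)
    [Nontrivial (((Scheme.Modules.pullback (f.fiberι (f.base x))).obj F).presheaf.stalk (f.asFiber x))] :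
    ((LocCoh.depth ((f.fiber (f.base x)).presheaf.stalk (f.asFiber x))
        (((Scheme.Modules.pullback (f.fiberι (f.base x))).obj F).presheaf.stalk (f.asFiber x)) : ℕ∞) : WithBot ℕ∞) ≤
      Module.supportDim ((f.fiber (f.base x)).presheaf.stalk (f.asFiber x))
        (((Scheme.Modules.pullback (f.fiberι (f.base x))).obj F).presheaf.stalk (f.asFiber x)) := by
  haveI := UOpenLib.lft_fiberToSpec f (f.base x)
  haveI : IsLocallyNoetherian (f.fiber (f.base x)) :=
    LocallyOfFiniteType.isLocallyNoetherian (f.fiberToSpecResidueField (f.base x))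
  haveI := (supportDim_fibre_stalk f F hF x).1
  exact InvLib.depth_le_supportDim

end DepthLib
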