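import Groth.Agent.DepthLib.OpenRect
import Groth.Agent.FibDimLib.Retro
import Groth.Agent.QCohLib.QCoh
import Groth.Agent.RichLib.IsFPAffine
import Mathlib

/-! # Codepth of the fibres -/

set_option autoImplicit false
universe u

open TensorProduct CategoryTheory AlgebraicGeometry Topology CommAlgDim

namespace DepthLib

variable {X S : Scheme.{u}} (f : X ⟶ S)

/-- The sections of the structure module. -/
noncomputable def unitSectionsEquiv (U : X.Opens) : Γ(Coh.structureModule X, U) ≃ₗ[Γ(X, U)] Γ(X, U) :=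
  { AddEquiv.refl _ with map_smul' := fun _ _ => rfl }

theorem isFP_structureModule : CohB1.IsFP (Coh.structureModule X) := by
  haveI : Coh.IsQCoh (Coh.structureModule X) := QCohLib.isQCoh_unit
  refine RichLib.IsFPAffine.isFP_of_finitePresentation _ fun p => ?_
  obtain ⟨_, ⟨U, hU, rfl⟩, hpU, -⟩ := X.isBasis_affineOpens.exists_subset_of_mem_open (Set.mem_univ p) isOpen_univ
  exact ⟨U, hU, hpU, Module.FinitePresentation.of_equiv (unitSectionsEquiv U).symm⟩

theorem fiberDepth_structureModule [LocallyOfFiniteType f] (x : X) :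
    CInt.fiberDepth f (Coh.structureModule X) x =
      LocCoh.depth ((f.fiber (f.base x)).presheaf.stalk (f.asFiber x)) ((f.fiber (f.base x)).presheaf.stalk (f.asFiber x)) := by
  haveI : Coh.IsQCoh (Coh.structureModule X) := QCohLib.isQCoh_unit
  obtain ⟨_, ⟨U, hU, rfl⟩, hxU, -⟩ :=
    S.isBasis_affineOpens.exists_subset_of_mem_open (Set.mem_univ (f x)) isOpen_univ
  obtain ⟨_, ⟨V, hV, rfl⟩, hxV, hVsub⟩ := X.isBasis_affineOpens.exists_subset_of_mem_open
    (show x ∈ (f ⁻¹ᵁ U : X.Opens) from hxU) (f ⁻¹ᵁ U).2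
  have hVU : V ≤ f ⁻¹ᵁ U := fun z hz ↦ hVsub hz
  letI := (f.appLE U V hVU).hom.toAlgebra
  haveI : Algebra.FiniteType Γ(S, U) Γ(X, V) := f.finiteType_appLE hU hV hVU
  haveI : Module.Finite Γ(X, V) Γ(Coh.structureModule X, V) := Module.Finite.self Γ(X, V)
  rw [fiberDepth_eq f hU hV hVU rfl (Coh.structureModule X) x hxV]
  have hxeq : f.fiberι (f x) (f.asFiber x) = x := f.fiberι_asFiber x
  have hy : f.fiberι (f x) (f.asFiber x) ∈ V := by rw [hxeq]; exact hxV
  rw [show hV.primeIdealOf ⟨x, hxV⟩ = hV.primeIdealOf ⟨f.fiberι (f x) (f.asFiber x), hy⟩ from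
    congrArg hV.primeIdealOf (Subtype.ext hxeq.symm)]
  letI : Algebra Γ(X, V) ((f.fiber (f x)).presheaf.stalk (f.asFiber x)) :=
    ((f.fiberι (f x)).stalkMap (f.asFiber x)).hom.comp (X.presheaf.germ V _ hy).hom |>.toAlgebra
  obtain ⟨e⟩ := exists_fibRing_equiv f hU hV hVU rfl (f x) (f.asFiber x) hy
  rw [← fibDep_eq_of_equiv Γ(S, U) Γ(Coh.structureModule X, V) _ _ e]
  exact CommAlgDim.depth_congr
    ((AlgebraTensorModule.congr (LinearEquiv.refl _ _) (unitSectionsEquiv V)).trans
      (AlgebraTensorModule.rid Γ(X, V) ((f.fiber (f x)).presheaf.stalk (f.asFiber x))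
        ((f.fiber (f x)).presheaf.stalk (f.asFiber x))))

theorem isLocallyConstructible_fibreDimAt_le [LocallyOfFinitePresentation f] (e : WithBot ℕ∞) :
    IsLocallyConstructible {x : X | FlatMor.fibreDimAt f x ≤ e} :=
  ((FibDimLib.isRetrocompact_fibreDimAt_le f e).isConstructible (FibDimLib.isOpen_fibreDimAt_le f e)).isLocallyConstructible

theorem isLocallyConstructible_fibreDimAt_eq [LocallyOfFinitePresentation f] (e : ℕ) :
    IsLocallyConstructible {x : X | FlatMor.fibreDimAt f x = (e : WithBot ℕ∞)} := by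
  rcases e with _ | e
  · have h : {x : X | FlatMor.fibreDimAt f x = ((0 : ℕ) : WithBot ℕ∞)} = {x : X | FlatMor.fibreDimAt f x ≤ ((0 : ℕ) : WithBot ℕ∞)} :=
      Set.ext fun x => ⟨fun h => h.le, fun h => le_antisymm h (by exact_mod_cast FibDimLib.localDim_nonneg _)⟩
    rw [h]
    exact isLocallyConstructible_fibreDimAt_le f _
  · have h : {x : X | FlatMor.fibreDimAt f x = ((e + 1 : ℕ) : WithBot ℕ∞)} =
        {x : X | FlatMor.fibreDimAt f x ≤ ((e + 1 : ℕ) : WithBot ℕ∞)} ∩ {x : X | FlatMor.fibreDimAt f x ≤ (e : WithBot ℕ∞)}ᶜ := by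
      ext x
      obtain ⟨d, hd⟩ := @FibDimLib.exists_localDim_eq_nat (S.residueField (f.base x)) _ _
        (f.fiberToSpecResidueField (f.base x)) (UOpenLib.lft_fiberToSpec f (f.base x)) (f.asFiber x)
      have hd' : FlatMor.fibreDimAt f x = (d : WithBot ℕ∞) := hd
      simp only [Set.mem_setOf_eq, Set.mem_inter_iff, Set.mem_compl_iff, hd', Nat.cast_le, Nat.cast_inj]
      omega
    rw [h]
    exact (isLocallyConstructible_fibreDimAt_le f _).inter
      (isLocallyConstructible_compl (isLocallyConstructible_fibreDimAt_le f _))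

/-- In a fibre: local dimension and rectified depth against dimension and depth of the local ring. -/
theorem exists_fibre_numbers [LocallyOfFiniteType f] (x : X) :
    ∃ d r : ℕ, ringKrullDim ((f.fiber (f.base x)).presheaf.stalk (f.asFiber x)) = (d : WithBot ℕ∞) ∧
      topologicalKrullDim ↥(closure ({f.asFiber x} : Set ↥(f.fiber (f.base x)))) = (r : WithBot ℕ∞) ∧
      FlatMor.fibreDimAt f x = ((d + r : ℕ) : WithBot ℕ∞) := by
  haveI := UOpenLib.lft_fiberToSpec f (f.base x)
  haveI : IsLocallyNoetherian (f.fiber (f.base x)) :=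
    @LocallyOfFiniteType.isLocallyNoetherian _ _ (f.fiberToSpecResidueField (f.base x))
      (UOpenLib.lft_fiberToSpec f (f.base x)) _
  obtain ⟨d, hd⟩ := CommAlgDim.exists_ringKrullDim_eq (R := (f.fiber (f.base x)).presheaf.stalk (f.asFiber x))
  have h := @FibDimLib.localDim_eq_closure_add_stalk (S.residueField (f.base x)) _ _
    (f.fiberToSpecResidueField (f.base x)) (UOpenLib.lft_fiberToSpec f (f.base x)) (f.asFiber x)
  obtain ⟨e, he⟩ := @FibDimLib.exists_localDim_eq_nat (S.residueField (f.base x)) _ _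
    (f.fiberToSpecResidueField (f.base x)) (UOpenLib.lft_fiberToSpec f (f.base x)) (f.asFiber x)
  rw [hd, he] at h
  generalize hc : topologicalKrullDim ↥(closure ({f.asFiber x} : Set ↥(f.fiber (f.base x)))) = c at h
  induction c using WithBot.recBotCoe with
  | bot => rw [WithBot.bot_add] at h; exact absurd h (WithBot.natCast_ne_bot e)
  | coe c =>
    induction c using ENat.recTopCoe with
    | top =>
      have h' : (e : ℕ∞) = ⊤ + (d : ℕ∞) := WithBot.coe_injective h
      rw [top_add] at h'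
      exact absurd h' (ENat.coe_ne_top e)
    | coe r =>
      refine ⟨d, r, hd, rfl, he.trans ?_⟩
      have h' : e = r + d := by exact_mod_cast h
      exact_mod_cast (show e = d + r by omega)

/-- The level sets of the codepth of the fibres are locally constructible. -/
theorem isLocallyConstructible_codepth_eq [LocallyOfFinitePresentation f] (n : ℕ) :
    IsLocallyConstructible {x : X |
      ringKrullDim ((f.fiber (f.base x)).presheaf.stalk (f.asFiber x)) =
        ((LocCoh.depth ((f.fiber (f.base x)).presheaf.stalk (f.asFiber x))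
          ((f.fiber (f.base x)).presheaf.stalk (f.asFiber x)) : ℕ∞) : WithBot ℕ∞) + n} := by
  haveI : Coh.IsQCoh (Coh.structureModule X) := QCohLib.isQCoh_unit
  refine isLocallyConstructible_of_chart fun x => ?_
  obtain ⟨_, ⟨V, hV, rfl⟩, hxV, -⟩ :=
    X.isBasis_affineOpens.exists_subset_of_mem_open (Set.mem_univ x) isOpen_univ
  refine ⟨V, hV, hxV, ?_⟩
  -- the fibre dimension is bounded on the affine open
  let O : ℕ → Set X := fun e => {y : X | FlatMor.fibreDimAt f y ≤ (e : WithBot ℕ∞)}
  have hcov : (V : Set X) ⊆ ⋃ e : ℕ, O e := fun y _ => by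
    obtain ⟨d, r, -, -, he⟩ := exists_fibre_numbers f y
    exact Set.mem_iUnion.2 ⟨d + r, he.le⟩
  obtain ⟨t, ht⟩ := hV.isCompact.elim_finite_subcover O (fun e => FibDimLib.isOpen_fibreDimAt_le f _) hcov
  obtain ⟨N, hN⟩ : ∃ N, ∀ e ∈ t, e ≤ N := ⟨t.sup id, fun e he => Finset.le_sup (f := id) he⟩
  let E : ℕ → Set X := fun e => {y : X | FlatMor.fibreDimAt f y = (e : WithBot ℕ∞)} ∩
    {y : X | rectDepth f (Coh.structureModule X) y = (((e - n : ℕ) : ℕ∞) : WithBot ℕ∞)}
  have hE : IsLocallyConstructible (⋃ e ∈ Finset.Icc n N, E e) := by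
    induction Finset.Icc n N using Finset.induction_on with
    | empty => simpa using IsLocallyConstructible.empty
    | insert a s has ih =>
      rw [Finset.set_biUnion_insert]
      exact ((isLocallyConstructible_fibreDimAt_eq f a).inter
        (isLocallyConstructible_rectDepth_eq f _ isFP_structureModule _)).union ih
  refine ⟨hV.fromSpec ⁻¹' (⋃ e ∈ Finset.Icc n N, E e), ConsLib.isLocallyConstructible_preimage hV.fromSpec hE,
    fun Q => ?_⟩
  set y := hV.fromSpec Q
  have hyV : y ∈ V := by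
    have h1 : hV.fromSpec Q ∈ Set.range hV.fromSpec := ⟨Q, rfl⟩
    rwa [hV.range_fromSpec] at h1
  obtain ⟨d, r, hd, hr, he⟩ := exists_fibre_numbers f y
  have hle : d + r ≤ N := by
    obtain ⟨e', he', hye⟩ := Set.mem_iUnion₂.1 (ht hyV)
    have : FlatMor.fibreDimAt f y ≤ (e' : WithBot ℕ∞) := hye
    rw [he, Nat.cast_le] at this
    exact this.trans (hN e' he')
  show ringKrullDim _ = _ ↔ y ∈ ⋃ e ∈ Finset.Icc n N, E e
  simp only [Set.mem_iUnion, exists_prop, Finset.mem_Icc, E, Set.mem_inter_iff, Set.mem_setOf_eq, rectDepth,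
    fiberDepth_structureModule f y, hd, hr, he, Nat.cast_inj]
  generalize LocCoh.depth ((f.fiber (f.base y)).presheaf.stalk (f.asFiber y))
    ((f.fiber (f.base y)).presheaf.stalk (f.asFiber y)) = a
  induction a using ENat.recTopCoe with
  | top =>
    refine iff_of_false (fun h => ?_) fun ⟨e, _, _, h⟩ => ?_
    · have h' : (d : ℕ∞) = ⊤ + (n : ℕ∞) := WithBot.coe_injective h
      rw [top_add] at h'
      exact ENat.coe_ne_top d h'
    · have h' : (⊤ : ℕ∞) + (r : ℕ∞) = ((e - n : ℕ) : ℕ∞) := WithBot.coe_injective h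
      rw [top_add] at h'
      exact ENat.coe_ne_top _ h'.symm
  | coe a =>
    constructor
    · intro h
      have h' : d = a + n := by exact_mod_cast h
      refine ⟨d + r, ⟨by omega, hle⟩, rfl, ?_⟩
      exact_mod_cast (show a + r = d + r - n by omega)
    · rintro ⟨e, ⟨hne, -⟩, rfl, h⟩
      have h' : a + r = d + r - n := by exact_mod_cast h
      exact_mod_cast (show d = a + n by omega)

end DepthLib
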