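import Groth.Agent.PDLib.Fibre
import Groth.Agent.CommAlgDim.GlobalDim
import Mathlib

/-! # Projective dimension over a flat local algebra is read on the fibre -/

set_option autoImplicit false
universe u

open IsLocalRing TensorProduct CommAlgDim

namespace DepthLib

variable (A : Type u) [CommRing A] {L : Type u} [CommRing L] [Algebra A L] [IsLocalRing L] [IsNoetherianRing L]
  [Module.Flat A L] (p : Ideal A)

omit [IsLocalRing L] [IsNoetherianRing L] in
theorem baseChange_fibre_injective {K F Q : Type u} [AddCommGroup K] [Module L K] [Module A K] [IsScalarTower A L K]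
    [AddCommGroup F] [Module L F] [Module A F] [IsScalarTower A L F] [AddCommGroup Q] [Module L Q] [Module A Q]
    [IsScalarTower A L Q] [Module.Flat A Q] (i : K →ₗ[L] F) (g : F →ₗ[L] Q) (hi : Function.Injective i)
    (hex : Function.Exact i g) (hg : Function.Surjective g) :
    Function.Injective (i.baseChange (L ⧸ p.map (algebraMap A L))) := by
  refine (injective_iff_map_eq_zero _).2 fun z hz => ?_
  obtain ⟨x, rfl⟩ := TensorProduct.mk_surjective L K (L ⧸ p.map (algebraMap A L)) Ideal.Quotient.mk_surjective z
  rw [TensorProduct.mk_apply] at hz ⊢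
  rw [LinearMap.baseChange_tmul] at hz
  have hz' := congrArg (quotTensorEquivQuotSMul F (p.map (algebraMap A L))) hz
  rw [map_zero, quotTensorEquivQuotSMul_mk_one_tmul, Submodule.Quotient.mk_eq_zero] at hz'
  refine (quotTensorEquivQuotSMul K (p.map (algebraMap A L))).injective ?_
  rw [map_zero, quotTensorEquivQuotSMul_mk_one_tmul, Submodule.Quotient.mk_eq_zero]
  have hA : (i x : F) ∈ p • (⊤ : Submodule A F) := by
    rw [← Submodule.restrictScalars_mem A, Ideal.smul_restrictScalars, Submodule.restrictScalars_top] at hz'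
    exact hz'
  have h1 : (1 : A ⧸ p) ⊗ₜ[A] x = 0 := by
    refine PDLib.lTensor_injective_of_flat (A ⧸ p) (i.restrictScalars A) (g.restrictScalars A) hi hex hg ?_
    rw [map_zero, LinearMap.lTensor_tmul]
    refine (quotTensorEquivQuotSMul F p).injective ?_
    rw [map_zero, quotTensorEquivQuotSMul_mk_one_tmul, Submodule.Quotient.mk_eq_zero]
    exact hA
  have h2 := congrArg (quotTensorEquivQuotSMul K p) h1
  rw [map_zero, quotTensorEquivQuotSMul_mk_one_tmul, Submodule.Quotient.mk_eq_zero] at h2
  rw [← Submodule.restrictScalars_mem A, Ideal.smul_restrictScalars, Submodule.restrictScalars_top]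
  exact h2

theorem projective_of_fibre (hp : p.map (algebraMap A L) ≤ maximalIdeal L) (M : Type u) [AddCommGroup M]
    [Module L M] [Module.Finite L M] [Module A M] [IsScalarTower A L M] [Module.Flat A M]
    (h : Module.Projective (L ⧸ p.map (algebraMap A L)) ((L ⧸ p.map (algebraMap A L)) ⊗[L] M)) :
    Module.Projective L M := by
  let I := p.map (algebraMap A L)
  obtain ⟨k, g, hg⟩ := Module.Finite.exists_fin' L M
  haveI : Module.FinitePresentation L M := Module.finitePresentation_of_finite L M
  have hex := LinearMap.exact_subtype_ker_map g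
  let f' := (LinearMap.ker g).subtype.baseChange (L ⧸ I)
  let g' := g.baseChange (L ⧸ I)
  have hg' : Function.Surjective g' := LinearMap.lTensor_surjective _ hg
  have hf' : Function.Injective f' :=
    baseChange_fibre_injective A p (LinearMap.ker g).subtype g Subtype.val_injective hex hg
  have hex' : Function.Exact f' g' := lTensor_exact (L ⧸ I) hex hg
  obtain ⟨r, hr⟩ : ∃ r : ((L ⧸ I) ⊗[L] (Fin k → L)) →ₗ[L ⧸ I] ((L ⧸ I) ⊗[L] LinearMap.ker g), r ∘ₗ f' = LinearMap.id := by
    obtain ⟨s, hs⟩ := Module.projective_lifting_property g' LinearMap.id hg'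
    have hmem : ∀ y, y - s (g' y) ∈ LinearMap.range f' := fun y => by
      refine (hex' _).1 ?_
      rw [map_sub, show g' (s (g' y)) = g' y from LinearMap.congr_fun hs (g' y), sub_self]
    let e := LinearEquiv.ofInjective f' hf'
    let t : ((L ⧸ I) ⊗[L] (Fin k → L)) →ₗ[L ⧸ I] LinearMap.range f' :=
      LinearMap.codRestrict (LinearMap.range f') (LinearMap.id - s.comp g') hmem
    refine ⟨e.symm.toLinearMap.comp t, LinearMap.ext fun x => ?_⟩
    show e.symm (t (f' x)) = x
    refine (LinearEquiv.symm_apply_eq e).2 (Subtype.ext ?_)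
    show f' x - s (g' (f' x)) = f' x
    rw [hex'.apply_apply_eq_zero, map_zero, sub_zero]
  haveI : Module.Free L M := by
    refine Module.free_of_lTensor_residueField_injective (LinearMap.ker g).subtype g hg hex ?_
    refine (injective_iff_map_eq_zero _).2 fun z hz => ?_
    obtain ⟨x, rfl⟩ := TensorProduct.mk_surjective L (LinearMap.ker g) (ResidueField L) Ideal.Quotient.mk_surjective z
    rw [TensorProduct.mk_apply] at hz ⊢
    rw [LinearMap.lTensor_tmul] at hz
    have hz' := congrArg (quotTensorEquivQuotSMul (Fin k → L) (maximalIdeal L)) hz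
    erw [map_zero, quotTensorEquivQuotSMul_mk_one_tmul, Submodule.Quotient.mk_eq_zero] at hz'
    refine (quotTensorEquivQuotSMul (LinearMap.ker g) (maximalIdeal L)).injective ?_
    erw [map_zero, quotTensorEquivQuotSMul_mk_one_tmul, Submodule.Quotient.mk_eq_zero]
    have h1 : f' (1 ⊗ₜ x) ∈ maximalIdeal L • (⊤ : Submodule L ((L ⧸ I) ⊗[L] (Fin k → L))) := by
      rw [LinearMap.baseChange_tmul]
      have := Submodule.mem_map_of_mem (f := TensorProduct.mk L (L ⧸ I) (Fin k → L) 1) hz'
      rw [Submodule.map_smul''] at this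
      exact Submodule.smul_mono le_rfl le_top this
    have h2 := Submodule.mem_map_of_mem (f := (r.restrictScalars L)) h1
    rw [Submodule.map_smul'', show (r.restrictScalars L) (f' (1 ⊗ₜ x)) = 1 ⊗ₜ x from LinearMap.congr_fun hr _] at h2
    have h3 := Submodule.mem_map_of_mem (f := (quotTensorEquivQuotSMul (LinearMap.ker g) I).toLinearMap)
      (Submodule.smul_mono le_rfl le_top h2)
    rw [Submodule.map_smul'', LinearEquiv.coe_coe, quotTensorEquivQuotSMul_mk_one_tmul] at h3
    have h4 : (x : LinearMap.ker g) ∈ Submodule.comap (I • (⊤ : Submodule L (LinearMap.ker g))).mkQ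
        (maximalIdeal L • ⊤) := Submodule.smul_mono le_rfl le_top h3
    rw [show (⊤ : Submodule L (LinearMap.ker g ⧸ I • (⊤ : Submodule L (LinearMap.ker g)))) =
      Submodule.map (I • (⊤ : Submodule L (LinearMap.ker g))).mkQ ⊤ by rw [Submodule.map_top, Submodule.range_mkQ],
      ← Submodule.map_smul'', Submodule.comap_map_mkQ] at h4
    refine (sup_le ?_ le_rfl : _ ≤ maximalIdeal L • (⊤ : Submodule L (LinearMap.ker g))) h4
    exact Submodule.smul_mono_left hp
  exact Module.Projective.of_free

theorem pdlt_fibre_iff (hp : p.map (algebraMap A L) ≤ maximalIdeal L) : ∀ (n : ℕ) (M : Type u) [AddCommGroup M]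
    [Module L M] [Module.Finite L M] [Module A M] [IsScalarTower A L M] [Module.Flat A M],
    PDLT (L ⧸ p.map (algebraMap A L)) ((L ⧸ p.map (algebraMap A L)) ⊗[L] M) (n + 1) ↔ PDLT L M (n + 1)
  | 0, M, _, _, _, _, _, _ => by
    rw [pdlt_one_iff, pdlt_one_iff]
    exact ⟨projective_of_fibre A p hp M, fun h => inferInstance⟩
  | n + 1, M, _, _, _, _, _, _ => by
    obtain ⟨k, g, hg⟩ := Module.Finite.exists_fin' L M
    haveI : Module.Flat A (Fin k → L) := Module.Flat.trans A L _
    haveI : Module.Flat A (LinearMap.ker g) := PDLib.flat_ker (g.restrictScalars A) hg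
    have hex := LinearMap.exact_subtype_ker_map g
    let g' := g.baseChange (L ⧸ p.map (algebraMap A L))
    have hg' : Function.Surjective g' := LinearMap.lTensor_surjective _ hg
    have hf' := baseChange_fibre_injective A p (LinearMap.ker g).subtype g Subtype.val_injective hex hg
    have hex' : Function.Exact ((LinearMap.ker g).subtype.baseChange (L ⧸ p.map (algebraMap A L))) g' :=
      lTensor_exact _ hex hg
    rw [pdlt_ker_iff g' hg' n, pdlt_ker_iff g hg n, ← pdlt_fibre_iff hp n (LinearMap.ker g)]
    exact PDLT.congr ((LinearEquiv.ofInjective _ hf').trans (LinearEquiv.ofEq _ _ (LinearMap.exact_iff.1 hex').symm)).symm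

end DepthLib
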