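import Groth.Agent.DepthLib.GeomRkCons
import Groth.Agent.JacFSLib.GeomReg
import Groth.Agent.EquidimLib.DimBetween
import Mathlib

/-! # Geometric `(R_k)` tested on finite extensions -/

set_option autoImplicit false
universe u

open CategoryTheory CategoryTheory.Limits AlgebraicGeometry Topology TensorProduct IsLocalRing

namespace DepthLib

/-- A non-smooth prime becomes non-regular over some generization after a finite extension. -/
theorem exists_finite_not_regular {k C : Type u} [Field k] [CommRing C] [Algebra k C] [Algebra.FiniteType k C]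
    (q : PrimeSpectrum C) (hq : q ∉ Algebra.smoothLocus k C) :
    ∃ (K : Type u) (_ : Field K) (_ : Algebra k K) (_ : Module.Finite k K) (P : PrimeSpectrum (K ⊗[k] C)),
      (P.asIdeal.comap (Algebra.TensorProduct.includeRight : C →ₐ[k] K ⊗[k] C).toRingHom) ≤ q.asIdeal ∧
        ¬ IsRegularLocalRing (Localization.AtPrime P.asIdeal) := by
  haveI : IsNoetherianRing C := Algebra.FiniteType.isNoetherianRing k C
  let A := Localization.AtPrime q.asIdeal
  haveI : IsNoetherianRing A := IsLocalization.isNoetherianRing q.asIdeal.primeCompl _ inferInstance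
  haveI : Algebra.EssFiniteType C A := Algebra.EssFiniteType.of_isLocalization _ q.asIdeal.primeCompl
  haveI : Algebra.EssFiniteType k A := Algebra.EssFiniteType.comp k C A
  have hgr : ¬ CAlg.IsGeometricallyRegular k A := fun h =>
    hq (CohenLib.formallySmooth_of_liftsAdic (JacFSLib.adic_of_isGeometricallyRegular h) :
      Algebra.FormallySmooth k A)
  rw [CAlg.IsGeometricallyRegular] at hgr
  simp only [not_forall] at hgr
  obtain ⟨K, _, _, hK, hreg⟩ := hgr
  haveI := hK
  haveI : IsNoetherianRing (A ⊗[k] K) := IsNoetherianRing.of_finite A (A ⊗[k] K)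
  haveI : IsNoetherianRing (K ⊗[k] A) :=
    isNoetherianRing_of_ringEquiv _ (Algebra.TensorProduct.comm k A K).toRingEquiv
  rw [isRegularRing_iff] at hreg
  simp only [not_forall] at hreg
  obtain ⟨Q, hQ, hnr⟩ := hreg
  letI : Algebra (K ⊗[k] C) (K ⊗[k] A) :=
    (Algebra.TensorProduct.map (AlgHom.id k K) (IsScalarTower.toAlgHom k C A)).toAlgebra
  haveI : IsScalarTower K (K ⊗[k] C) (K ⊗[k] A) :=
    .of_algebraMap_eq <| by intro; simp [RingHom.algebraMap_toAlgebra]
  haveI : IsLocalization (q.asIdeal.primeCompl.map (Algebra.TensorProduct.includeRight (R := k) (A := K))) (K ⊗[k] A) :=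
    IsLocalization.tensorProduct_tensorProduct_right k K q.asIdeal.primeCompl A
      (by ext; simp [RingHom.algebraMap_toAlgebra])
  let T := q.asIdeal.primeCompl.map (Algebra.TensorProduct.includeRight (R := k) (A := K) (B := C))
  let P : Ideal (K ⊗[k] C) := Q.comap (algebraMap (K ⊗[k] C) (K ⊗[k] A))
  refine ⟨K, inferInstance, inferInstance, hK, ⟨P, inferInstance⟩, fun c hc => ?_, fun h => hnr ?_⟩
  · by_contra hcq
    exact hQ.ne_top (Ideal.eq_top_of_isUnit_mem _ (show algebraMap (K ⊗[k] C) (K ⊗[k] A)
      ((1 : K) ⊗ₜ c) ∈ Q from hc) (IsLocalization.map_units (M := T) (K ⊗[k] A) ⟨(1 : K) ⊗ₜ c, c, hcq, rfl⟩))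
  · haveI : IsLocalization.AtPrime (Localization.AtPrime Q) P :=
      IsLocalization.isLocalization_isLocalization_atPrime_isLocalization T (Localization.AtPrime Q) Q
    haveI : IsRegularLocalRing (Localization.AtPrime P) := h
    exact IsRegularLocalRing.of_ringEquiv
      (IsLocalization.algEquiv P.primeCompl (Localization.AtPrime P) (Localization.AtPrime Q)).toRingEquiv

/-- Geometric `(R_k)` may be tested on finite extensions. -/
theorem geomRk_fin_iff {k : Type u} [Field k] {F : Scheme.{u}} (f : F ⟶ Spec (CommRingCat.of k))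
    [LocallyOfFinitePresentation f] (y : F) (n : ℕ) :
    (∀ (K : Type u) [Field K] [Algebra k K], Module.Finite k K → ∀ (y' : ↥(FBase.bc f K)),
        (FBase.bcπ f K).base y' = y → LocCoh.HasRk n ((FBase.bc f K).presheaf.stalk y')) ↔
      ∀ z : F, z ⤳ y → z ∉ f.smoothLocus →
        ¬ ringKrullDim (F.presheaf.stalk z) ≤ ((n : ℕ∞) : WithBot ℕ∞) := by
  constructor
  · intro h z hzy hz hdim
    obtain ⟨_, ⟨V, hV, rfl⟩, hzV, -⟩ :=
      F.isBasis_affineOpens.exists_subset_of_mem_open (Set.mem_univ z) isOpen_univ
    obtain ⟨φ, hφ⟩ := Spec.map_surjective (hV.fromSpec ≫ f)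
    let C := Γ(F, V)
    letI : Algebra k C := φ.hom.toAlgebra
    haveI : LocallyOfFinitePresentation (Spec.map (CommRingCat.ofHom (algebraMap k C))) := by
      show LocallyOfFinitePresentation (Spec.map φ)
      rw [hφ]; infer_instance
    have hfp : Algebra.FinitePresentation k C := RingHom.finitePresentation_algebraMap.1
      ((HasRingHomProperty.Spec_iff (P := @LocallyOfFinitePresentation)
        (φ := CommRingCat.ofHom (algebraMap k C))).1 inferInstance)
    haveI : Algebra.FiniteType k C := inferInstance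
    let q := hV.primeIdealOf ⟨z, hzV⟩
    have hq : q ∉ Algebra.smoothLocus k C := fun hq => hz (by
      have h1 := (mem_smoothLocus_spec_iff (K := k) (C := C) q).2 hq
      have h2 : q ∈ hV.fromSpec ⁻¹ᵁ f.smoothLocus := by
        rw [Scheme.Hom.preimage_smoothLocus_eq]
        simp only [← hφ]
        exact h1
      exact (congrArg (fun v => v ∈ f.smoothLocus) (hV.fromSpec_primeIdealOf ⟨z, hzV⟩)).mp h2)
    obtain ⟨K, _, _, hK, P, hP, hnr⟩ := exists_finite_not_regular q hq
    haveI := hK
    let g := Spec.map (CommRingCat.ofHom (algebraMap k K))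
    let π : pullback f g ⟶ F := pullback.fst f g
    haveI : IsIntegralHom g := IsIntegralHom.SpecMap_iff.2 (algebraMap_isIntegral_iff.2 inferInstance)
    haveI : IsIntegralHom π := MorphismProperty.pullback_fst _ _ inferInstance
    let iR := CommRingCat.ofHom (Algebra.TensorProduct.includeRight : C →ₐ[k] K ⊗[k] C).toRingHom
    let iL := CommRingCat.ofHom (algebraMap K (K ⊗[k] C))
    have hsq : IsPullback (Spec.map iR) (Spec.map iL) (Spec.map φ) g :=
      (isPullback_SpecMap_of_isPushout _ _ _ _ (CommRingCat.isPushout_tensorProduct k K C)).flip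
    let m := pullback.map (Spec.map φ) g f g hV.fromSpec (𝟙 _) (𝟙 _)
      (by rw [Category.comp_id]; exact hφ) (by simp)
    let θ := hsq.isoPullback.hom ≫ m
    haveI : IsOpenImmersion m := inferInstance
    haveI : IsOpenImmersion θ := inferInstance
    have hθ : θ ≫ π = Spec.map iR ≫ hV.fromSpec := by
      simp only [θ, π, m, Category.assoc]
      erw [pullback.lift_fst]
      rw [← Category.assoc, hsq.isoPullback_hom_fst]
    let v := θ P
    have hvz : π v ⤳ z := by
      show π (θ P) ⤳ z
      rw [← Scheme.Hom.comp_apply, hθ, Scheme.Hom.comp_apply]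
      exact (((PrimeSpectrum.le_iff_specializes (PrimeSpectrum.comap iR.hom P) q).1 hP).map
        hV.fromSpec.continuous).trans (specializes_of_eq (hV.fromSpec_primeIdealOf ⟨z, hzV⟩))
    obtain ⟨y', hy', hvy'⟩ : ∃ y', π y' = y ∧ v ⤳ y' := by
      have hclosed := π.isClosedMap (closure {v}) isClosed_closure
      obtain ⟨y', hy', h2⟩ := (hvz.trans hzy).mem_closed hclosed ⟨v, subset_closure rfl, rfl⟩
      exact ⟨y', h2, specializes_iff_mem_closure.2 hy'⟩
    have hdz : ringKrullDim (F.presheaf.stalk (π v)) ≤ ringKrullDim (F.presheaf.stalk z) := by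
      rw [EquidimLib.stalk_dim_eq, EquidimLib.stalk_dim_eq]
      exact (Topology.IsEmbedding.inclusion (fun u (hu : u ⤳ π v) => (hu.trans hvz : u ⤳ z))).isInducing.topologicalKrullDim_le
    have hreg := (hasRk_stalk_iff y' n).1 (h K hK y' hy') v hvy'
      (((ringKrullDim_stalk_le_of_integral π v).trans hdz).trans hdim)
    haveI : IsRegularLocalRing ((pullback f g).presheaf.stalk (θ P)) := hreg
    refine hnr ?_
    haveI := IsRegularLocalRing.of_ringEquiv (asIso (θ.stalkMap P)).commRingCatIsoToRingEquiv
    let R' := CommRingCat.of (K ⊗[k] C)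
    letI : Algebra R' ((Spec R').presheaf.stalk P) := StructureSheaf.stalkAlgebra R' P
    haveI : IsLocalization.AtPrime ((Spec R').presheaf.stalk P) P.asIdeal :=
      StructureSheaf.IsLocalization.to_stalk R' P
    exact IsRegularLocalRing.of_ringEquiv (IsLocalization.algEquiv (R := R') P.asIdeal.primeCompl
      ((Spec R').presheaf.stalk P) (Localization.AtPrime P.asIdeal)).toRingEquiv
  · intro h K _ _ _ y' hy'
    exact (geomRk_iff f y n).2 h K y' hy'

end DepthLib
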