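import Groth.Agent.DepthLib.SuppDim
import Groth.Agent.DepthLib.SkOpen
import Groth.Agent.QCohLib.Support
import Mathlib

/-! # Openness of the points where a flat module is Cohen-Macaulay on the fibres -/

set_option autoImplicit false
universe u

open CategoryTheory AlgebraicGeometry Topology UOpenLib IsLocalRing

namespace DepthLib

theorem isOpen_isCohenMacaulayModule_fibre {X Y : Scheme.{u}} (f : X ⟶ Y) [LocallyOfFinitePresentation f]
    (F : X.Modules) (hF : CohB1.IsFP F) (hflat : FlatMod.IsFlatOver f F) :
    IsOpen {x : X |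
      Subsingleton (((Scheme.Modules.pullback (f.fiberι (f.base x))).obj F).presheaf.stalk (f.asFiber x)) ∨
      LocCoh.IsCohenMacaulayModule ((f.fiber (f.base x)).presheaf.stalk (f.asFiber x))
        (((Scheme.Modules.pullback (f.fiberι (f.base x))).obj F).presheaf.stalk (f.asFiber x))} := by
  haveI := hF
  haveI : Coh.IsQCoh F := inferInstance
  have hFT : CohB1.IsFT F := inferInstance
  have hsc : IsClosed (CohB1.support F) := QCohLib.isClosed_support F hFT
  let Zi := Scheme.IdealSheafData.vanishingIdeal (⟨CohB1.support F, hsc⟩ : TopologicalSpace.Closeds X)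
  let j := Zi.subschemeι
  have hj : Set.range j = CohB1.support F := by
    rw [Zi.range_subschemeι, Scheme.IdealSheafData.coe_support_vanishingIdeal]; rfl
  have hzero : ∀ y : X, y ∉ CohB1.support F →
      Subsingleton (((Scheme.Modules.pullback (f.fiberι (f.base y))).obj F).presheaf.stalk (f.asFiber y)) := by
    intro y hy
    rw [← Module.supportDim_eq_bot_iff_subsingleton ((f.fiber (f.base y)).presheaf.stalk (f.asFiber y)),
      (supportDim_fibre_stalk f F hFT y).2]
    have : IsEmpty ↥{z : X | z ⤳ y ∧ f.base z = f.base y ∧ z ∈ CohB1.support F} :=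
      ⟨fun z => hy (z.2.1.mem_closed hsc z.2.2.2)⟩
    exact Order.krullDim_eq_bot_iff.2 ⟨fun C => isEmptyElim C.isIrreducible.1.choose⟩
  rw [isOpen_iff_forall_mem_open]
  intro x hx
  by_cases hxs : x ∈ CohB1.support F
  · rw [← hj] at hxs
    obtain ⟨w, rfl⟩ := hxs
    obtain ⟨d, r, hd, hr, he⟩ := exists_supp_numbers f F hFT j hj w
    have hCM : LocCoh.IsCohenMacaulayModule ((f.fiber (f.base (j w))).presheaf.stalk (f.asFiber (j w)))
        (((Scheme.Modules.pullback (f.fiberι (f.base (j w)))).obj F).presheaf.stalk (f.asFiber (j w))) := by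
      rcases hx with h | h
      · rw [← Module.supportDim_eq_bot_iff_subsingleton ((f.fiber (f.base (j w))).presheaf.stalk (f.asFiber (j w))),
          hd] at h
        exact absurd h (WithBot.coe_ne_bot)
      · exact h
    have hρ : ((d + r : ℕ) : WithBot ℕ∞) ≤ rectDepth f F (j w) := by
      show _ ≤ ((LocCoh.depth _ _ : ℕ∞) : WithBot ℕ∞) + topologicalKrullDim _
      rw [← (hCM : Module.supportDim _ _ = _), hd, hr]
      exact le_of_eq (Nat.cast_add d r)
    let O₂ : Set X := (j '' {v | FlatMor.fibreDimAt (j ≫ f) v ≤ ((d + r : ℕ) : WithBot ℕ∞)}ᶜ)ᶜ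
    have hO₂ : IsOpen O₂ :=
      (j.isClosedEmbedding.isClosedMap _ (FibDimLib.isOpen_fibreDimAt_le (j ≫ f) _).isClosed_compl).isOpen_compl
    refine ⟨{y | ((d + r : ℕ) : WithBot ℕ∞) ≤ rectDepth f F y} ∩ O₂, ?_,
      (isOpen_le_rectDepth f F hF hflat _).inter hO₂, hρ, ?_⟩
    · rintro y ⟨hy1, hy2⟩
      by_cases hys : y ∈ CohB1.support F
      · rw [← hj] at hys
        obtain ⟨v, rfl⟩ := hys
        obtain ⟨d', r', hd', hr', he'⟩ := exists_supp_numbers f F hFT j hj v
        have hle : d' + r' ≤ d + r := by
          have h1 : FlatMor.fibreDimAt (j ≫ f) v ≤ ((d + r : ℕ) : WithBot ℕ∞) :=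
            not_not.1 fun h => hy2 ⟨v, h, rfl⟩
          rw [he', Nat.cast_le] at h1
          exact h1
        haveI : Nontrivial (((Scheme.Modules.pullback (f.fiberι (f.base (j v)))).obj F).presheaf.stalk (f.asFiber (j v))) :=
          (Module.supportDim_ne_bot_iff_nontrivial ((f.fiber (f.base (j v))).presheaf.stalk (f.asFiber (j v))) _).1
            (by rw [hd']; exact WithBot.coe_ne_bot)
        have h2 := depth_le_supportDim_fibre f F hFT (j v)
        refine Or.inr (?_ : Module.supportDim _ _ = _)
        rw [hd'] at h2 ⊢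
        replace hy1 : ((d + r : ℕ) : WithBot ℕ∞) ≤ ((LocCoh.depth ((f.fiber (f.base (j v))).presheaf.stalk (f.asFiber (j v)))
            (((Scheme.Modules.pullback (f.fiberι (f.base (j v)))).obj F).presheaf.stalk (f.asFiber (j v))) : ℕ∞) : WithBot ℕ∞) +
            topologicalKrullDim ↥(closure ({f.asFiber (j v)} : Set ↥(f.fiber (f.base (j v))))) := hy1
        rw [hr'] at hy1
        generalize LocCoh.depth ((f.fiber (f.base (j v))).presheaf.stalk (f.asFiber (j v)))
            (((Scheme.Modules.pullback (f.fiberι (f.base (j v)))).obj F).presheaf.stalk (f.asFiber (j v))) = a at hy1 h2 ⊢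
        induction a using ENat.recTopCoe with
        | top => exact absurd h2 (by
            rw [not_le]; exact WithBot.coe_lt_coe.2 (ENat.coe_lt_top _))
        | coe b =>
          have h3 : b ≤ d' := by exact_mod_cast h2
          have h4 : d + r ≤ b + r' := by exact_mod_cast hy1
          exact_mod_cast (show d' = b by omega)
      · exact Or.inl (hzero y hys)
    · rintro ⟨v, hv, hvw⟩
      obtain rfl : v = w := j.isEmbedding.injective hvw
      exact hv (le_of_eq he)
  · exact ⟨(CohB1.support F)ᶜ, fun y hy => Or.inl (hzero y hy), hsc.isOpen_compl, hxs⟩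

end DepthLib
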