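import Groth.Agent.DepthLib.RegAB
import Mathlib

/-! # Generizations lift to the support of a flat module -/

set_option autoImplicit false
universe u

open CategoryTheory AlgebraicGeometry Topology IsLocalRing TensorProduct

namespace DepthLib

/-- Over every prime of a local ring there is a point of the support of a nonzero flat finite module
over a local extension. -/
theorem exists_prime_over_of_flat {A B M : Type u} [CommRing A] [CommRing B] [IsLocalRing A] [IsLocalRing B]
    (φ : A →+* B) [IsLocalHom φ] [AddCommGroup M] [Module B M] [Module.Finite B M] [Nontrivial M]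
    (hflat : letI := Module.compHom M φ; Module.Flat A M) (p : Ideal A) [p.IsPrime] :
    ∃ q : Ideal B, q.IsPrime ∧ Module.annihilator B M ≤ q ∧ q.comap φ = p := by
  letI := φ.toAlgebra
  letI := Module.compHom M φ
  haveI : IsScalarTower A B M := IsScalarTower.of_algebraMap_smul fun _ _ => rfl
  haveI : Module.Flat A M := hflat
  set J := Module.annihilator B M
  let ψ : A →+* B ⧸ J := (Ideal.Quotient.mk J).comp φ
  have hne : p • (⊤ : Submodule A M) ≠ ⊤ := by
    intro h
    have h1 : (p.map φ) • (⊤ : Submodule B M) = ⊤ := by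
      rw [eq_top_iff]
      rintro m -
      have hm : m ∈ p • (⊤ : Submodule A M) := h.ge trivial
      refine Submodule.smul_induction_on hm (fun a ha n _ => ?_) fun _ _ => add_mem
      exact Submodule.smul_mem_smul (Ideal.mem_map_of_mem φ ha) trivial
    refine absurd (Submodule.top_ne_ideal_smul_of_le_jacobson_annihilator ?_) (not_not_intro h1.symm)
    refine le_trans ?_ (maximalIdeal_le_jacobson _)
    exact (Ideal.map_mono (le_maximalIdeal (Ideal.IsPrime.ne_top ‹_›))).trans
      (((local_hom_TFAE φ).out 0 2).1 (by infer_instance))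
  have hkey : (p.map ψ).comap ψ = p := by
    refine le_antisymm (fun a ha => ?_) Ideal.le_comap_map
    by_contra hap
    refine hne (eq_top_iff.2 fun m _ => ?_)
    -- `a` kills `M ⧸ p M`
    have hzero : ∀ n : M, a • n ∈ p • (⊤ : Submodule A M) := by
      intro n
      have h1 : φ a ∈ p.map φ ⊔ J := by
        have h2 : Ideal.Quotient.mk J (φ a) ∈ (p.map φ).map (Ideal.Quotient.mk J) := by
          rw [Ideal.map_map]; exact ha
        have h3 : φ a ∈ ((p.map φ).map (Ideal.Quotient.mk J)).comap (Ideal.Quotient.mk J) := h2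
        rwa [Ideal.comap_map_of_surjective _ Ideal.Quotient.mk_surjective, ← RingHom.ker_eq_comap_bot,
          Ideal.mk_ker] at h3
      obtain ⟨b, hb, c, hc, hbc⟩ := Submodule.mem_sup.1 h1
      show φ a • n ∈ _
      rw [← hbc, add_smul, Module.mem_annihilator.1 hc n, add_zero]
      rw [Ideal.map, ← Ideal.submodule_span_eq] at hb
      clear hbc
      induction hb using Submodule.span_induction generalizing n with
      | mem b hb =>
        obtain ⟨a', ha', rfl⟩ := hb
        exact Submodule.smul_mem_smul (show a' ∈ p from ha') (show n ∈ (⊤ : Submodule A M) from trivial)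
      | zero => rw [zero_smul]; exact Submodule.zero_mem _
      | add b₁ b₂ _ _ h₁ h₂ => rw [add_smul]; exact add_mem (h₁ n) (h₂ n)
      | smul s b _ hb => rw [smul_eq_mul, mul_comm, mul_smul]; exact hb _
    -- multiplication by `a` is injective on `M ⧸ p M`
    have hinj : Function.Injective (LinearMap.lsmul A (A ⧸ p) a) := by
      intro x y hxy
      obtain ⟨x, rfl⟩ := Ideal.Quotient.mk_surjective x
      obtain ⟨y, rfl⟩ := Ideal.Quotient.mk_surjective y
      have h1 : Ideal.Quotient.mk p (a * x) = Ideal.Quotient.mk p (a * y) := hxy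
      rw [Ideal.Quotient.eq, ← mul_sub] at h1
      exact Ideal.Quotient.eq.2 ((Ideal.IsPrime.mem_or_mem ‹_› h1).resolve_left hap)
    have hM := Module.Flat.rTensor_preserves_injective_linearMap (M := M) _ hinj
    let e := TensorProduct.quotTensorEquivQuotSMul M p
    have h0 : (1 : A ⧸ p) ⊗ₜ[A] m = 0 := by
      refine hM ?_
      rw [map_zero, LinearMap.rTensor_tmul, LinearMap.lsmul_apply, TensorProduct.smul_tmul, ← e.injective.eq_iff,
        map_zero]
      show e (Ideal.Quotient.mk p 1 ⊗ₜ[A] (a • m)) = 0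
      rw [TensorProduct.quotTensorEquivQuotSMul_mk_tmul, one_smul]
      exact (Submodule.Quotient.mk_eq_zero _).2 (hzero m)
    have h2 : e (Ideal.Quotient.mk p 1 ⊗ₜ[A] m) = 0 := by rw [map_one, h0, map_zero]
    rw [TensorProduct.quotTensorEquivQuotSMul_mk_tmul, one_smul] at h2
    exact (Submodule.Quotient.mk_eq_zero _).1 h2
  obtain ⟨P, hP, hPp⟩ := (Ideal.comap_map_eq_self_iff_of_isPrime p).1 hkey
  exact ⟨P.comap (Ideal.Quotient.mk J), inferInstance,
    fun b hb => by rw [Ideal.mem_comap, Ideal.Quotient.eq_zero_iff_mem.2 hb]; exact P.zero_mem,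
    by rw [Ideal.comap_comap]; exact hPp⟩

variable {X S : Scheme.{u}} (f : X ⟶ S) (F : X.Modules)

/-- A generization of the image of a point of the support where the module is flat lifts to a
generization in the support. -/
theorem exists_support_generization [Coh.IsQCoh F] (hFT : CohB1.IsFT F) {x : X} (hx : x ∈ CohB1.support F)
    (hflat : FlatMod.IsFlatOverAt f F x) {t : S} (ht : t ⤳ f.base x) :
    ∃ x' : X, x' ∈ CohB1.support F ∧ f.base x' = t ∧ x' ⤳ x := by
  haveI := finite_stalk F hFT x
  haveI : Nontrivial (F.presheaf.stalk x) := not_subsingleton_iff_nontrivial.1 hx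
  obtain ⟨p, hp⟩ : t ∈ Set.range (S.fromSpecStalk (f.base x)) := by rw [Scheme.range_fromSpecStalk]; exact ht
  obtain ⟨q, hq, hann, hqp⟩ := exists_prime_over_of_flat (f.stalkMap x).hom (M := F.presheaf.stalk x) hflat p.asIdeal
  let x' := X.fromSpecStalk x ⟨q, hq⟩
  have hx'x : x' ⤳ x := (Scheme.range_fromSpecStalk (x := x)).le ⟨_, rfl⟩
  refine ⟨x', ?_, ?_, hx'x⟩
  · obtain ⟨_, ⟨V, hV, rfl⟩, hxV, -⟩ :=
      X.isBasis_affineOpens.exists_subset_of_mem_open (Set.mem_univ x) isOpen_univ
    haveI := QCohLib.finite_of_isFT hFT hV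
    have hx'V : x' ∈ V := hx'x.mem_open V.2 hxV
    let Q := hV.primeIdealOf ⟨x', hx'V⟩
    have hQ : Q = PrimeSpectrum.comap (X.presheaf.germ V x hxV).hom ⟨q, hq⟩ := by
      refine hV.fromSpec.isOpenEmbedding.injective ((hV.fromSpec_primeIdealOf ⟨x', hx'V⟩).trans ?_)
      show X.fromSpecStalk x ⟨q, hq⟩ = _
      rw [← hV.fromSpecStalk_eq_fromSpecStalk hxV, IsAffineOpen.fromSpecStalk, Scheme.Hom.comp_apply]
      rfl
    letI := Module.compHom (F.presheaf.stalk x') (X.presheaf.germ V x' hx'V).hom
    haveI := FlatLib.isLocalizedModule_germLin F hV hx'V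
    have hmem : Q ∈ Module.support Γ(X, V) Γ(F, V) := by
      rw [Module.mem_support_iff_of_finite, hQ]
      intro b hb
      refine hann (Module.mem_annihilator.2 fun n => ?_)
      letI := Module.compHom (F.presheaf.stalk x) (X.presheaf.germ V x hxV).hom
      haveI := FlatLib.isLocalizedModule_germLin F hV hxV
      obtain ⟨⟨m, s⟩, hms⟩ := IsLocalizedModule.surj (hV.primeIdealOf ⟨x, hxV⟩).asIdeal.primeCompl
        (FlatLib.germLin F hxV) n
      refine ((Module.End.isUnit_iff _).1 (IsLocalizedModule.map_units (FlatLib.germLin F hxV) s)).1 ?_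
      · show ((s : Γ(X, V)) • ((X.presheaf.germ V x hxV).hom b • n) : F.presheaf.stalk x) = (s : Γ(X, V)) • (0 : F.presheaf.stalk x)
        rw [smul_zero]
        show (s : Γ(X, V)) • (b • n) = 0
        rw [smul_comm, show (s : Γ(X, V)) • n = FlatLib.germLin F hxV m from hms, ← map_smul,
          Module.mem_annihilator.1 hb m, map_zero]
    rw [Module.mem_support_iff] at hmem
    exact not_subsingleton_iff_nontrivial.2
      (IsLocalizedModule.iso Q.asIdeal.primeCompl (FlatLib.germLin F hx'V)).symm.toEquiv.nontrivial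
  · show (X.fromSpecStalk x ≫ f) ⟨q, hq⟩ = t
    rw [← Scheme.SpecMap_stalkMap_fromSpecStalk, Scheme.Hom.comp_apply, ← hp]
    exact congrArg _ (PrimeSpectrum.ext hqp)

end DepthLib
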