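import Groth.Agent.DepthLib.ModOpen
import Groth.Agent.DepthLib.FlatGenerization
import Mathlib

/-! # Dimensions of the components of the supports of fibre modules -/

set_option autoImplicit false
universe u

open CategoryTheory AlgebraicGeometry Topology IsLocalRing CommAlgDim UOpenLib

namespace DepthLib

variable {X S : Scheme.{u}} (f : X ⟶ S) (F : X.Modules)

/-- The irreducible components of a closed set of dimension `n` are the closures of its maximal points
with closure of dimension `n`. -/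
theorem exists_component_dim_iff {T : Type u} [TopologicalSpace T] [QuasiSober T] [T0Space T] (C : Set T)
    (hC : IsClosed C) (n : WithBot ℕ∞) :
    (∃ Z ∈ irreducibleComponents C, topologicalKrullDim Z = n) ↔
      ∃ w ∈ C, (∀ v ∈ C, v ⤳ w → v = w) ∧ topologicalKrullDim (closure ({w} : Set T)) = n := by
  have hdim : ∀ (Z : Set C), topologicalKrullDim Z = topologicalKrullDim (Subtype.val '' Z : Set T) := fun Z =>
    (IsHomeomorph.topologicalKrullDim_eq _ (IsEmbedding.subtypeVal.homeomorphImage Z).isHomeomorph)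
  have hcl : ∀ w : C, (Subtype.val '' closure ({w} : Set C) : Set T) = closure ({(w : T)} : Set T) := fun w => by
    rw [← hC.isClosedEmbedding_subtypeVal.closure_image_eq, Set.image_singleton]
  constructor
  · rintro ⟨Z, hZ, hd⟩
    obtain ⟨w, hw⟩ : ∃ w : C, Z = closure {w} := by
      haveI : QuasiSober C := hC.isClosedEmbedding_subtypeVal.quasiSober
      exact ⟨IsIrreducible.genericPoint hZ.1, by
        rw [(IsIrreducible.isGenericPoint_genericPoint_closure hZ.1).def, (isClosed_of_mem_irreducibleComponents Z hZ).closure_eq]⟩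
    refine ⟨w, w.2, fun v hv hvw => ?_, ?_⟩
    · have h1 : (⟨v, hv⟩ : C) ⤳ w := (subtype_specializes_iff _ _).2 hvw
      have h2 : closure ({⟨v, hv⟩} : Set C) ⊆ Z :=
        hZ.2 isIrreducible_singleton.closure (hw ▸ h1.closure_subset)
      have h3 : w ⤳ (⟨v, hv⟩ : C) := specializes_iff_mem_closure.2 (hw ▸ h2 (subset_closure rfl))
      exact congrArg Subtype.val (h1.antisymm h3).eq
    · rw [← hd, hdim, hw, hcl]
  · rintro ⟨w, hw, hmax, hd⟩
    refine ⟨closure {⟨w, hw⟩}, ⟨isIrreducible_singleton.closure, fun Z hZ hle => ?_⟩, ?_⟩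
    · intro v hv
      haveI : QuasiSober C := hC.isClosedEmbedding_subtypeVal.quasiSober
      have hgen := IsIrreducible.isGenericPoint_genericPoint_closure hZ
      have h1 : (IsIrreducible.genericPoint hZ) ⤳ (⟨w, hw⟩ : C) :=
        hgen.specializes (subset_closure (hle (subset_closure rfl)))
      have h2 : ((IsIrreducible.genericPoint hZ) : C) = ⟨w, hw⟩ := Subtype.ext (hmax _ ((IsIrreducible.genericPoint hZ)).2 ((subtype_specializes_iff _ _).1 h1))
      rw [← h2, hgen.def]
      exact subset_closure hv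
    · rw [hdim, hcl]
      exact hd

theorem supportDim_fibre_ne_bot_iff [LocallyOfFinitePresentation f] [Coh.IsQCoh F] (hFT : CohB1.IsFT F) (s : S)
    (w : f.fiber s) :
    Nontrivial (((Scheme.Modules.pullback (f.fiberι s)).obj F).presheaf.stalk w) ↔
      f.fiberι s w ∈ CohB1.support F := by
  have hs : f (f.fiberι s w) = s := (f.range_fiberι s).le ⟨w, rfl⟩
  generalize hx : f.fiberι s w = z at hs ⊢
  subst hs
  obtain rfl : w = f.asFiber z := (f.fiberι (f z)).isEmbedding.injective (by rw [hx, f.fiberι_asFiber])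
  haveI : Module.Finite ((f.fiber (f z)).presheaf.stalk (f.asFiber z))
      (((Scheme.Modules.pullback (f.fiberι (f z))).obj F).presheaf.stalk (f.asFiber z)) :=
    (supportDim_fibre_stalk f F hFT z).1
  rw [← Module.supportDim_ne_bot_iff_nontrivial ((f.fiber (f z)).presheaf.stalk (f.asFiber z))]
  refine ⟨fun h => by_contra fun hz => h (supportDim_fibre_eq_bot f F hFT hz), fun hz => ?_⟩
  obtain ⟨d, r, a, hd, -⟩ := exists_mod_numbers f F hFT hz
  exact fun h => WithBot.coe_ne_bot (hd.symm.trans h)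

/-- A component of dimension `n` of the support of the fibre module is met by a point where the support
has dimension `n`. -/
theorem exists_component_dim_fibre_iff [LocallyOfFinitePresentation f] [Coh.IsQCoh F] (hFT : CohB1.IsFT F) (s : S)
    (n : ℕ) :
    (∃ Z ∈ irreducibleComponents ↥{z : ↥(f.fiber s) | Nontrivial (((Scheme.Modules.pullback (f.fiberι s)).obj F).presheaf.stalk z)},
      topologicalKrullDim ↥Z = (n : WithBot ℕ∞)) ↔
    ∃ x : X, f.base x = s ∧ x ∈ CohB1.support F ∧ suppDimAt f F x = (n : WithBot ℕ∞) := by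
  have hC : {z : ↥(f.fiber s) | Nontrivial (((Scheme.Modules.pullback (f.fiberι s)).obj F).presheaf.stalk z)} =
      (f.fiberι s).base ⁻¹' CohB1.support F := Set.ext fun w => supportDim_fibre_ne_bot_iff f F hFT s w
  rw [exists_component_dim_iff _ (hC ▸ (QCohLib.isClosed_support F hFT).preimage (f.fiberι s).continuous)]
  constructor
  · rintro ⟨w, hw, hmax, hd⟩
    obtain ⟨z, hz⟩ : ∃ z, f.fiberι s w = z := ⟨_, rfl⟩
    obtain rfl : f z = s := hz ▸ (f.range_fiberι s).le ⟨w, rfl⟩
    obtain rfl : w = f.asFiber z := (f.fiberι (f z)).isEmbedding.injective (by rw [hz, f.fiberι_asFiber])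
    have hzs : z ∈ CohB1.support F := hz ▸ hC.le hw
    obtain ⟨ζ, hfζ, hζz, hζs, -, -, hζd⟩ := exists_max_supp f F hFT hzs
    obtain ⟨v, rfl⟩ : ζ ∈ Set.range (f.fiberι (f z)) := (f.range_fiberι _).ge hfζ
    have h1 := hmax v (hC.ge hζs) ((f.fiberι _).isEmbedding.isInducing.specializes_iff.1
      (hζz.trans (specializes_of_eq hz.symm)))
    rw [h1, hz] at hζd
    exact ⟨z, rfl, hzs, hζd.symm.trans hd⟩
  · rintro ⟨x, rfl, hxs, hxd⟩
    obtain ⟨ζ, hfζ, hζx, hζs, hζe, -, hζd⟩ := exists_max_supp f F hFT hxs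
    obtain ⟨w, rfl⟩ : ζ ∈ Set.range (f.fiberι (f.base x)) := (f.range_fiberι _).ge hfζ
    refine ⟨w, hC.ge hζs, fun v hv hvw => ?_, ?_⟩
    · by_contra hne
      have hne' : f.fiberι _ v ≠ f.fiberι _ w := fun h => hne ((f.fiberι _).isEmbedding.injective h)
      have hfv : f.base (f.fiberι (f.base x) v) = f.base x := (f.range_fiberι _).le ⟨v, rfl⟩
      obtain ⟨c, r, -, hr, hcr, hc⟩ := closureDim_formula f (hfv.trans hfζ.symm) (hvw.map (f.fiberι _).continuous)
      obtain ⟨d', r', a', -, -, hr', -, he', -⟩ := exists_mod_numbers f F hFT (hC.le hv)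
      have h1 := suppDimAt_le_of_specializes f F hFT (hvw.map (f.fiberι _).continuous)
      rw [hcr] at hr'
      rw [he', hζe, hr, Nat.cast_le] at h1
      have h2 : c + r = r' := Nat.cast_injective hr'
      have := hc hne'
      omega
    · rw [← hxd, ← hζd, fibreClosureDim]
      have key : ∀ (s : S) (w : f.fiber s), topologicalKrullDim (closure ({w} : Set (f.fiber s))) =
          topologicalKrullDim (closure ({f.asFiber (f.fiberι s w)} : Set (f.fiber (f.base (f.fiberι s w))))) := by
        intro s w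
        have hs : f (f.fiberι s w) = s := (f.range_fiberι s).le ⟨w, rfl⟩
        generalize hx : f.fiberι s w = z at hs ⊢
        subst hs
        obtain rfl : w = f.asFiber z := (f.fiberι (f z)).isEmbedding.injective (by rw [hx, f.fiberι_asFiber])
        rfl
      exact key _ w

/-- For a flat module the points of the base over which the support has a component of dimension `n`
form an open set. -/
theorem isOpen_exists_component_dim [LocallyOfFinitePresentation f] [QuasiCompact f] [Coh.IsQCoh F]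
    (hF : CohB1.IsFP F) (hFT : CohB1.IsFT F) (hflat : FlatMod.IsFlatOver f F) (n : ℕ) :
    IsOpen {s : S | ∃ Z ∈ irreducibleComponents ↥{z : ↥(f.fiber s) | Nontrivial (((Scheme.Modules.pullback (f.fiberι s)).obj F).presheaf.stalk z)},
      topologicalKrullDim ↥Z = (n : WithBot ℕ∞)} := by
  have heq : {s : S | ∃ Z ∈ irreducibleComponents ↥{z : ↥(f.fiber s) | Nontrivial (((Scheme.Modules.pullback (f.fiberι s)).obj F).presheaf.stalk z)},
      topologicalKrullDim ↥Z = (n : WithBot ℕ∞)} =
      f '' (CohB1.support F ∩ {x | suppDimAt f F x = (n : WithBot ℕ∞)}) := by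
    ext s
    simp only [Set.mem_setOf_eq, exists_component_dim_fibre_iff f F hFT s n, Set.mem_image, Set.mem_inter_iff]
    exact ⟨fun ⟨x, h1, h2, h3⟩ => ⟨x, ⟨h2, h3⟩, h1⟩, fun ⟨x, ⟨h2, h3⟩, h1⟩ => ⟨x, h1, h2, h3⟩⟩
  rw [heq]
  refine isOpen_of_generization (f.isLocallyConstructible_image
    ((isLocallyConstructible_support f F hF hFT).inter (isLocallyConstructible_suppDimAt_eq f F hF hFT n))) ?_
  rintro t s hts ⟨x, ⟨hxs, hxd⟩, rfl⟩
  obtain ⟨ζ, hfζ, hζx, hζs, hζe, hζρ, hζd⟩ := exists_max_supp f F hFT hxs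
  have hζn : fibreClosureDim f ζ = (n : WithBot ℕ∞) := hζd.trans hxd
  obtain ⟨x', hx's, hfx', hx'ζ⟩ :=
    exists_support_generization f F hFT hζs (hflat ζ) (t := t) (hfζ.symm ▸ hts)
  obtain ⟨ζ', hfζ', hζ'x, hζ's, hζ'e, hζ'ρ, hζ'd⟩ := exists_max_supp f F hFT hx's
  obtain ⟨r', hr'⟩ := exists_fibreClosureDim_eq_nat f ζ'
  obtain ⟨h1, h2⟩ := spread_numbers f F hF hFT hflat hζ's (hζ'x.trans hx'ζ) (hζ'e.trans hr') (hζ'ρ.trans hr')
    (hζe.trans hζn) (hζρ.trans hζn)
  refine ⟨x', ⟨hx's, ?_⟩, hfx'⟩
  show suppDimAt f F x' = _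
  rw [← hζ'd, hr', show r' = n by omega]

end DepthLib
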