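import Groth.Agent.DepthLib.CompDims
import Groth.Agent.DepthLib.NoEmbLoci
import Mathlib

/-! # Exact sets of dimensions of components -/

set_option autoImplicit false
universe u

open CategoryTheory AlgebraicGeometry Topology IsLocalRing CommAlgDim UOpenLib

namespace DepthLib

variable {X S : Scheme.{u}} (f : X ⟶ S) (F : X.Modules)

/-- In a fibre module without embedded associated points the component dimensions and the dimensions
of the closures of the associated points agree. -/
theorem componentDims_iff_assDims [LocallyOfFinitePresentation f] [Coh.IsQCoh F] (hFT : CohB1.IsFT F) (s : S)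
    (hS1 : ∀ x : X, f.base x = s → LocCoh.HasSk 1 ((f.fiber (f.base x)).presheaf.stalk (f.asFiber x))
        (((Scheme.Modules.pullback (f.fiberι (f.base x))).obj F).presheaf.stalk (f.asFiber x))) (n : ℕ) :
    (∃ x : X, f.base x = s ∧ x ∈ CohB1.support F ∧ suppDimAt f F x = (n : WithBot ℕ∞)) ↔
      ∃ z ∈ AssSch.Ass ((Scheme.Modules.pullback (f.fiberι s)).obj F),
        topologicalKrullDim ↥(closure ({z} : Set ↥(f.fiber s))) = (n : WithBot ℕ∞) := by
  constructor
  · rintro ⟨x, rfl, hxs, hxd⟩
    obtain ⟨ζ, hfζ, -, hζs, -, hζρ, hζd⟩ := exists_max_supp f F hFT hxs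
    have h : ∀ t : S, f.base ζ = t → ∃ z ∈ AssSch.Ass ((Scheme.Modules.pullback (f.fiberι t)).obj F),
        topologicalKrullDim ↥(closure ({z} : Set ↥(f.fiber t))) = (n : WithBot ℕ∞) := by
      rintro t rfl
      exact ⟨f.asFiber ζ, (mem_ass_fibre_iff f F hFT ζ).2 ⟨hζs, hζρ⟩, hζd.trans hxd⟩
    exact h _ hfζ
  · rintro ⟨z, hzA, hzd⟩
    have hfz : f (f.fiberι s z) = s := (f.range_fiberι s).le ⟨z, rfl⟩
    revert hzA hzd
    generalize hx : f.fiberι s z = w at hfz
    subst hfz
    obtain rfl : z = f.asFiber w := (f.fiberι (f w)).isEmbedding.injective (by rw [hx, f.fiberι_asFiber])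
    intro hzA hzd
    obtain ⟨hws, hwρ⟩ := (mem_ass_fibre_iff f F hFT w).1 hzA
    obtain ⟨d, r, a, -, -, hr, -, he, hρ⟩ := exists_mod_numbers f F hFT hws
    rw [hρ, hr] at hwρ
    have ha : a + r = r := Nat.cast_injective hwρ
    have hd : d = 0 := by
      by_contra hne
      exact (not_hasSk_mod_iff f F hFT 1 w).2
        ⟨w, rfl, specializes_rfl, hws, d + r, a + r, r, he, hρ, hr, by omega, by omega⟩ (hS1 w rfl)
    refine ⟨w, rfl, hws, ?_⟩
    rw [he, hd, zero_add, ← hr]
    exact hzd

end DepthLib
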