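import Groth.Agent.DepthLib.Codepth
import Groth.Agent.EquidimLib.Points
import Groth.Agent.RichLib.FibreLociScheme
import Mathlib

/-! # Points with a large fibrewise generization in a constructible set -/

set_option autoImplicit false
universe u

open CategoryTheory CategoryTheory.Limits AlgebraicGeometry Topology UOpenLib Groth.Agent

namespace DepthLib

variable {X S : Scheme.{u}} (f : X ⟶ S)

/-- The points having in their fibre a generization in `L` whose closure has dimension at least `m`. -/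
def fibWit (L : Set X) (m : ℕ) : Set X :=
  {x | ∃ z ∈ L, f.base z = f.base x ∧ z ⤳ x ∧ (m : WithBot ℕ∞) ≤ fibreClosureDim f z}

theorem fibreClosureDim_comp_mono {T : Scheme.{u}} (g : X ⟶ T) (i : T ⟶ S) [LocallyOfFiniteType g]
    [LocallyOfFiniteType (g ≫ i)] (hi : Function.Injective i.base) (z : X) :
    fibreClosureDim (g ≫ i) z = fibreClosureDim g z := by
  rw [fibreClosureDim_eq_inter, fibreClosureDim_eq_inter,
    show (g ≫ i).base ⁻¹' {(g ≫ i).base z} = g.base ⁻¹' {g.base z} from
      Set.ext fun w => ⟨fun h => hi h, fun h => congrArg i.base h⟩]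

theorem fibreClosureDim_comp_closed {Z : Scheme.{u}} (j : Z ⟶ X) [IsClosedImmersion j] [LocallyOfFiniteType f]
    (z : Z) : fibreClosureDim (j ≫ f) z = fibreClosureDim f (j.base z) := by
  rw [fibreClosureDim_eq_inter, fibreClosureDim_eq_inter]
  have himg : j.base '' (closure {z} ∩ (j ≫ f).base ⁻¹' {(j ≫ f).base z}) =
      closure {j.base z} ∩ f.base ⁻¹' {f.base (j.base z)} := by
    rw [show (j ≫ f).base ⁻¹' {(j ≫ f).base z} = j.base ⁻¹' (f.base ⁻¹' {f.base (j.base z)}) from rfl,
      Set.image_inter_preimage, ← Set.image_singleton (f := j.base),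
      j.isClosedEmbedding.closure_image_eq]
  let e := (j.isEmbedding.homeomorphImage (closure {z} ∩ (j ≫ f).base ⁻¹' {(j ≫ f).base z})).trans
    (Homeomorph.setCongr himg)
  exact IsHomeomorph.topologicalKrullDim_eq e e.isHomeomorph

theorem mem_fibWit_univ_iff [LocallyOfFiniteType f] (x : X) (m : ℕ) :
    x ∈ fibWit f Set.univ m ↔ (m : WithBot ℕ∞) ≤ FlatMor.fibreDimAt f x := by
  refine ⟨fun ⟨z, _, _, hzx, hm⟩ => hm.trans (fibreClosureDim_le_fibreDimAt f hzx), fun h => ?_⟩
  obtain ⟨z, hfz, hzx, -, hd⟩ := exists_max_fibreDimAt f x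
  exact ⟨z, trivial, hfz, hzx, hd ▸ h⟩

/-- For a closed subscheme. -/
theorem fibWit_range [LocallyOfFiniteType f] {Z : Scheme.{u}} (j : Z ⟶ X) [IsClosedImmersion j] (m : ℕ) :
    fibWit f (Set.range j.base) m = j.base '' {w | (m : WithBot ℕ∞) ≤ FlatMor.fibreDimAt (j ≫ f) w} := by
  ext x
  constructor
  · rintro ⟨_, ⟨v, rfl⟩, hfz, hzx, hm⟩
    obtain ⟨w, rfl⟩ : x ∈ Set.range j.base := hzx.mem_closed j.isClosedEmbedding.isClosed_range ⟨v, rfl⟩
    refine ⟨w, (mem_fibWit_univ_iff (j ≫ f) w m).1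
      ⟨v, trivial, hfz, j.isEmbedding.isInducing.specializes_iff.1 hzx, ?_⟩, rfl⟩
    rwa [fibreClosureDim_comp_closed]
  · rintro ⟨w, hw, rfl⟩
    obtain ⟨v, -, hfv, hvw, hm⟩ := (mem_fibWit_univ_iff (j ≫ f) w m).2 hw
    refine ⟨j.base v, ⟨v, rfl⟩, hfv, hvw.map j.continuous, ?_⟩
    rwa [← fibreClosureDim_comp_closed f j v]

/-- A closed constructible subset of an affine scheme. -/
theorem isConstructible_fibWit_closed [IsAffine X] [IsAffine S] [LocallyOfFinitePresentation f] {K : Set X}
    (hK : IsClosed K) (hKc : IsCompact Kᶜ) (m : ℕ) : IsConstructible (fibWit f K m) := by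
  let e := X.isoSpec
  have hK' : IsCompact ((e.inv.base ⁻¹' K)ᶜ) := by
    rw [← Set.preimage_compl]
    exact QuasiCompact.isCompact_preimage (f := e.inv) _ hK.isOpen_compl hKc
  obtain ⟨J, hJ, hJK⟩ := PrimeSpectrum.isCompact_isOpen_iff_ideal.mp
    ⟨hK', (hK.preimage e.inv.continuous).isOpen_compl⟩
  replace hJK := compl_injective hJK
  let q := CommRingCat.ofHom (Ideal.Quotient.mk J)
  haveI : IsClosedImmersion (Spec.map q) := IsClosedImmersion.spec_of_surjective _ Ideal.Quotient.mk_surjective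
  haveI : LocallyOfFinitePresentation (Spec.map q) := by
    rw [HasRingHomProperty.Spec_iff (P := @LocallyOfFinitePresentation)]
    exact RingHom.FinitePresentation.of_surjective _ Ideal.Quotient.mk_surjective (by
      show (RingHom.ker (Ideal.Quotient.mk J)).FG
      rwa [Ideal.mk_ker])
  let j := Spec.map q ≫ e.inv
  have hr : Set.range j.base = K := by
    have h1 : Set.range (PrimeSpectrum.comap (Ideal.Quotient.mk J)) = e.inv.base ⁻¹' K := by
      rw [range_comap_of_surjective _ _ Ideal.Quotient.mk_surjective, Ideal.mk_ker]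
      exact hJK
    calc Set.range j.base = e.inv.base '' Set.range (PrimeSpectrum.comap (Ideal.Quotient.mk J)) := by
          show Set.range (e.inv.base ∘ (Spec.map q).base) = _
          rw [Set.range_comp]
          rfl
      _ = K := (congrArg (fun A => e.inv.base '' A) h1).trans (Set.image_preimage_eq _ e.inv.homeomorph.surjective)
  rw [← hr, fibWit_range]
  have h : IsLocallyConstructible {w | (m : WithBot ℕ∞) ≤ FlatMor.fibreDimAt (j ≫ f) w} := by
    rcases m with _ | m
    · have h0 : {w | ((0 : ℕ) : WithBot ℕ∞) ≤ FlatMor.fibreDimAt (j ≫ f) w} = Set.univ :=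
        Set.eq_univ_of_forall fun w => by
          obtain ⟨d, hd⟩ := exists_fibreDimAt_eq_nat (j ≫ f) w
          show ((0 : ℕ) : WithBot ℕ∞) ≤ _
          rw [hd]; exact Nat.cast_le.2 (Nat.zero_le d)
      rw [h0]; exact IsLocallyConstructible.univ
    · have h0 : {w | ((m + 1 : ℕ) : WithBot ℕ∞) ≤ FlatMor.fibreDimAt (j ≫ f) w} =
          {w | FlatMor.fibreDimAt (j ≫ f) w ≤ (m : WithBot ℕ∞)}ᶜ := by
        ext w
        obtain ⟨d, hd⟩ := exists_fibreDimAt_eq_nat (j ≫ f) w
        simp only [Set.mem_setOf_eq, Set.mem_compl_iff, hd, Nat.cast_le]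
        omega
      rw [h0]; exact isLocallyConstructible_compl (isLocallyConstructible_fibreDimAt_le (j ≫ f) _)
  exact (j.isLocallyConstructible_image h).isConstructible

theorem isConstructible_fibWit [IsAffine X] [IsAffine S] [LocallyOfFinitePresentation f] {L : Set X}
    (hL : IsConstructible L) (m : ℕ) : IsConstructible (fibWit f L m) := by
  refine RichLib.FibreLoci.isConstructible_of_forall_nhd _ fun x => ?_
  obtain ⟨C, K, hC, hxC, hK, hKc, h⟩ := RichLib.FibreLoci.exists_closure_spread f hL (f.base x)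
  have hW := isConstructible_fibWit_closed f hK hKc m
  have key : ∀ y, f.base y ∈ C → (y ∈ fibWit f L m ↔ y ∈ fibWit f K m) := by
    intro y hy
    constructor
    · rintro ⟨z, hz, hfz, hzy, hm⟩
      have : z ∈ K ∩ f.base ⁻¹' {f.base y} := by
        rw [← h _ hy]
        exact ⟨subset_closure ⟨hz, hfz⟩, hfz⟩
      exact ⟨z, this.1, hfz, hzy, hm⟩
    · rintro ⟨z, hz, hfz, hzy, hm⟩
      have hz' : z ∈ closure (L ∩ f.base ⁻¹' {f.base y}) := by
        have : z ∈ closure (L ∩ f.base ⁻¹' {f.base y}) ∩ f.base ⁻¹' {f.base y} := by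
          rw [h _ hy]; exact ⟨hz, hfz⟩
        exact this.1
      have hpro : ProCons.IsProConstructible (L ∩ f.base ⁻¹' {f.base y}) := by
        rw [ProConsLib.isProConstructible_iff_isClosed_cons]
        refine @IsClosed.inter X _ _ (constructibleTopology X)
          (ProConsLib.isClopen_cons_of_isConstructible hL).1 ?_
        refine ProConsLib.isProConstructible_iff_isClosed_cons.1 (ProConsLib.isProConstructible_preimage f ?_)
        rw [ProConsLib.isProConstructible_iff_isClosed_cons]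
        haveI := ProConsLib.t2Space_cons (X := S)
        exact @isClosed_singleton S (constructibleTopology S) inferInstance (f.base y)
      obtain ⟨w, hw, hwz⟩ := ProConsLib.exists_specializes_of_mem_closure
        (ProConsLib.isProConstructible_iff_isClosed_cons.1 hpro) hz'
      exact ⟨w, hw.1, hw.2, hwz.trans hzy,
        hm.trans (fibreClosureDim_mono f hwz (hw.2.trans hfz.symm))⟩
  have hfC : IsConstructible (f.base ⁻¹' C) :=
    (ConsLib.isLocallyConstructible_preimage f hC.isLocallyConstructible).isConstructible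
  by_cases hx : x ∈ fibWit f K m
  · exact ⟨_, hfC.inter hW, ⟨hxC, hx⟩, Or.inl fun y hy => (key y hy.1).2 hy.2⟩
  · exact ⟨_, hfC.inter hW.compl, ⟨hxC, hx⟩, Or.inr (Set.disjoint_left.2 fun y hy hy' => hy.2 ((key y hy.1).1 hy'))⟩

/-- The points with a large fibrewise generization in a constructible set form a locally constructible set. -/
theorem isLocallyConstructible_fibWit [LocallyOfFinitePresentation f] {L : Set X} (hL : IsLocallyConstructible L)
    (m : ℕ) : IsLocallyConstructible (fibWit f L m) := by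
  refine isLocallyConstructible_of_chart fun x => ?_
  obtain ⟨_, ⟨U, hU, rfl⟩, hxU, -⟩ :=
    S.isBasis_affineOpens.exists_subset_of_mem_open (Set.mem_univ (f.base x)) isOpen_univ
  obtain ⟨_, ⟨V, hV, rfl⟩, hxV, hVsub⟩ := X.isBasis_affineOpens.exists_subset_of_mem_open
    (show x ∈ (f ⁻¹ᵁ U : X.Opens) from hxU) (f ⁻¹ᵁ U).2
  have hVU : V ≤ f ⁻¹ᵁ U := fun z hz ↦ hVsub hz
  refine ⟨V, hV, hxV, ?_⟩
  haveI : IsAffine (U : Scheme.{u}) := hU
  let g := hV.fromSpec
  haveI : LocallyOfFinitePresentation (g ≫ f) := inferInstance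
  have hrange : ∀ z, z ∈ Set.range g.base ↔ z ∈ (V : Set X) := fun z => by rw [hV.range_fromSpec]
  let f₀ : Spec Γ(X, V) ⟶ (U : Scheme.{u}) :=
    IsOpenImmersion.lift (Scheme.Opens.ι U) (g ≫ f) (by
      rw [Scheme.Opens.range_ι U]
      rintro _ ⟨w, rfl⟩
      exact hVU ((hrange _).1 ⟨w, rfl⟩))
  have hf₀ : f₀ ≫ (Scheme.Opens.ι U) = g ≫ f := IsOpenImmersion.lift_fac _ _ _
  haveI : LocallyOfFinitePresentation (f₀ ≫ (Scheme.Opens.ι U)) := by rw [hf₀]; infer_instance
  haveI : LocallyOfFinitePresentation f₀ := Groth.Agent.S12442.lfp_of_comp_lft f₀ (Scheme.Opens.ι U)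
  have hbase : ∀ w, (Scheme.Opens.ι U).base (f₀.base w) = f.base (g.base w) := fun w => by
    rw [← Scheme.Hom.comp_apply, hf₀, Scheme.Hom.comp_apply]
  have hdim : ∀ w, fibreClosureDim f₀ w = fibreClosureDim f (g.base w) := fun w => by
    rw [← fibreClosureDim_comp_mono f₀ (Scheme.Opens.ι U) (Scheme.Opens.ι U).isOpenEmbedding.injective w,
      show fibreClosureDim (f₀ ≫ (Scheme.Opens.ι U)) w = fibreClosureDim (g ≫ f) w by simp only [hf₀]]
    haveI : IsOpenImmersion g := hV.isOpenImmersion_fromSpec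
    have h := EquidimLib.fibreClosureDim_opens f V (⟨g.base w, (hrange _).1 ⟨w, rfl⟩⟩ : (V : Scheme.{u}))
    refine Eq.trans ?_ h
    have hiso : g = (IsAffineOpen.isoSpec hV).inv ≫ (Scheme.Opens.ι V) := rfl
    have hw : (Scheme.Opens.ι V).base ((IsAffineOpen.isoSpec hV).inv.base w) = g.base w := by rw [hiso, Scheme.Hom.comp_apply]
    rw [show (⟨g.base w, (hrange _).1 ⟨w, rfl⟩⟩ : (V : Scheme.{u})) = (IsAffineOpen.isoSpec hV).inv.base w from
      Subtype.ext hw.symm, ← fibreClosureDim_comp_closed ((Scheme.Opens.ι V) ≫ f) (IsAffineOpen.isoSpec hV).inv w]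
    simp only [hiso, Category.assoc]
  refine ⟨fibWit f₀ (g.base ⁻¹' L) m, (isConstructible_fibWit f₀
    (ConsLib.isLocallyConstructible_preimage g hL).isConstructible m).isLocallyConstructible, fun Q => ?_⟩
  constructor
  · rintro ⟨z, hz, hfz, hzQ, hm⟩
    obtain ⟨w, rfl⟩ := (hrange z).2 (hzQ.mem_open V.2 ((hrange _).1 ⟨Q, rfl⟩))
    refine ⟨w, hz, (Scheme.Opens.ι U).isOpenEmbedding.injective ?_, g.isOpenEmbedding.isInducing.specializes_iff.1 hzQ, ?_⟩
    · rw [hbase, hbase]; exact hfz
    · rwa [hdim]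
  · rintro ⟨w, hw, hfw, hwQ, hm⟩
    refine ⟨g.base w, hw, ?_, hwQ.map g.continuous, ?_⟩
    · rw [← hbase, ← hbase, hfw]
    · rwa [← hdim]

end DepthLib
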