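import Groth.Agent.DepthLib.ModOpen
import Groth.Agent.DepthLib.SkOpen
import Mathlib

/-! # Spreading of associated points along the flat locus -/

set_option autoImplicit false
universe u

open CategoryTheory AlgebraicGeometry Topology IsLocalRing CommAlgDim UOpenLib

namespace DepthLib

variable {X S : Scheme.{u}} (f : X ⟶ S) (F : X.Modules)

/-- Flatness at a point of the support passes to generizations in the support. -/
theorem isFlatOverAt_of_specializes [LocallyOfFinitePresentation f] [Coh.IsQCoh F] (hF : CohB1.IsFP F)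
    (hFT : CohB1.IsFT F) {z x : X} (h : z ⤳ x) (hzs : z ∈ CohB1.support F)
    (hx : FlatMod.IsFlatOverAt f F x) : FlatMod.IsFlatOverAt f F z := by
  obtain ⟨d, r, a, -, -, -, -, -, hρ⟩ := exists_mod_numbers f F hFT
    (h.mem_closed (QCohLib.isClosed_support F hFT) hzs)
  exact (h.mem_open (isOpen_le_rectDepth_inter_flat f F hF 0)
    ⟨by rw [hρ]; exact Nat.cast_le.2 (Nat.zero_le _), hx⟩).2

/-- What the spread of a point of the support keeps, at a flat point. -/
theorem spread_numbers_at [LocallyOfFinitePresentation f] [Coh.IsQCoh F] (hF : CohB1.IsFP F) (hFT : CohB1.IsFT F)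
    {z' z : X} (hz : FlatMod.IsFlatOverAt f F z) (hsp : z' ⤳ z) :
    ∀ {e' ρ' e ρ : ℕ}, suppDimAt f F z' = (e' : WithBot ℕ∞) → rectDepth f F z' = (ρ' : WithBot ℕ∞) →
      suppDimAt f F z = (e : WithBot ℕ∞) → rectDepth f F z = (ρ : WithBot ℕ∞) → e' ≤ e ∧ ρ ≤ ρ' := by
  intro e' ρ' e ρ he' hρ' he hρ
  refine ⟨?_, ?_⟩
  · have := suppDimAt_le_of_specializes f F hFT hsp
    rw [he', he, Nat.cast_le] at this
    exact this
  · have h := (hsp.mem_open (isOpen_le_rectDepth_inter_flat f F hF ρ) ⟨hρ.ge, hz⟩).1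
    rw [hρ', Nat.cast_le] at h
    exact h

/-- Generizations of flat points with `(S_k)` fibre module have `(S_k)` fibre module. -/
theorem hasSk_mod_of_specializes_at [LocallyOfFinitePresentation f] [Coh.IsQCoh F] (hF : CohB1.IsFP F)
    (hFT : CohB1.IsFT F) (k : ℕ) {x' x : X} (h : x' ⤳ x) (hflat : FlatMod.IsFlatOverAt f F x)
    (hx : LocCoh.HasSk k ((f.fiber (f.base x)).presheaf.stalk (f.asFiber x))
      (((Scheme.Modules.pullback (f.fiberι (f.base x))).obj F).presheaf.stalk (f.asFiber x))) :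
    LocCoh.HasSk k ((f.fiber (f.base x')).presheaf.stalk (f.asFiber x'))
      (((Scheme.Modules.pullback (f.fiberι (f.base x'))).obj F).presheaf.stalk (f.asFiber x')) := by
  by_contra hbad
  obtain ⟨z', -, hz'x', hz's, e', ρ', r', he', hρ', hr', h1, h2⟩ := (not_hasSk_mod_iff f F hFT k x').1 hbad
  obtain ⟨z, hfz, hzx, hz'z, hrz⟩ := exists_spread f (hz'x'.trans h) hr'
  have hzs : z ∈ CohB1.support F := hz'z.mem_closed (QCohLib.isClosed_support F hFT) hz's
  obtain ⟨d, r, a, -, -, hr, -, he, hρ⟩ := exists_mod_numbers f F hFT hzs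
  rw [hr, Nat.cast_le] at hrz
  obtain ⟨h3, h4⟩ := spread_numbers_at f F hF hFT (isFlatOverAt_of_specializes f F hF hFT hzx hzs hflat) hz'z
    he' hρ' he hρ
  exact (not_hasSk_mod_iff f F hFT k x).2 ⟨z, hfz, hzx, hzs, d + r, a + r, r, he, hρ, hr, by omega, by omega⟩ hx

/-- Associated points of the fibre modules spread at flat points. -/
theorem exists_spread_ass_at [LocallyOfFinitePresentation f] [Coh.IsQCoh F] (hF : CohB1.IsFP F)
    (hFT : CohB1.IsFT F) {ζ x : X} (h : ζ ⤳ x) (hflat : FlatMod.IsFlatOverAt f F x) (hζs : ζ ∈ CohB1.support F)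
    (hζ : rectDepth f F ζ = fibreClosureDim f ζ) :
    ∃ z : X, f.base z = f.base x ∧ z ⤳ x ∧ ζ ⤳ z ∧ z ∈ CohB1.support F ∧
      rectDepth f F z = fibreClosureDim f z ∧ fibreClosureDim f z = fibreClosureDim f ζ := by
  obtain ⟨d', r', a', -, -, hr', -, he', hρ'⟩ := exists_mod_numbers f F hFT hζs
  obtain ⟨z, hfz, hzx, hζz, hrz⟩ := exists_spread f h hr'
  have hzs : z ∈ CohB1.support F := hζz.mem_closed (QCohLib.isClosed_support F hFT) hζs
  obtain ⟨d, r, a, -, -, hr, -, he, hρ⟩ := exists_mod_numbers f F hFT hzs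
  rw [hr, Nat.cast_le] at hrz
  obtain ⟨-, h4⟩ := spread_numbers_at f F hF hFT (isFlatOverAt_of_specializes f F hF hFT hzx hzs hflat) hζz
    he' hρ' he hρ
  rw [hρ', hr'] at hζ
  have : a' + r' = r' := Nat.cast_injective hζ
  exact ⟨z, hfz, hzx, hζz, hzs, by rw [hρ, hr, show a = 0 by omega, zero_add],
    by rw [hr, hr', show r = r' by omega]⟩

/-- At a flat point where the fibre module is equidimensional without embedded components the dimension of
the support in the fibre does not jump at generizations. -/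
theorem suppDimAt_eq_of_specializes_at [LocallyOfFinitePresentation f] [Coh.IsQCoh F] (hF : CohB1.IsFP F)
    (hFT : CohB1.IsFT F) {z' x : X} (h : z' ⤳ x) (hz's : z' ∈ CohB1.support F)
    (hflat : FlatMod.IsFlatOverAt f F x)
    (heq : EGA4.IsEquidimModule ((f.fiber (f.base x)).presheaf.stalk (f.asFiber x))
        (((Scheme.Modules.pullback (f.fiberι (f.base x))).obj F).presheaf.stalk (f.asFiber x)))
    (hsk : LocCoh.HasSk 1 ((f.fiber (f.base x)).presheaf.stalk (f.asFiber x))
      (((Scheme.Modules.pullback (f.fiberι (f.base x))).obj F).presheaf.stalk (f.asFiber x))) :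
    suppDimAt f F z' = suppDimAt f F x := by
  rw [isEquidimModule_fibre_iff f F hFT] at heq
  obtain ⟨ζ, hfζ, hζz, hζs, -, hζρ, hζd⟩ := exists_max_supp f F hFT hz's
  obtain ⟨z, hfz, hzx, -, hzs, hzρ, hzd⟩ := exists_spread_ass_at f F hF hFT (hζz.trans h) hflat hζs hζρ
  obtain ⟨d, r, a, -, -, hr, -, he, hρ⟩ := exists_mod_numbers f F hFT hzs
  rw [hρ, hr] at hzρ
  have h0 : a + r = r := Nat.cast_injective hzρ
  have hd : d = 0 := by
    by_contra hne
    exact (not_hasSk_mod_iff f F hFT 1 x).2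
      ⟨z, hfz, hzx, hzs, d + r, a + r, r, he, hρ, hr, by omega, by omega⟩ hsk
  rw [← hζd, ← hzd, ← heq z hfz hzx hzs, he, hr, hd, zero_add]

end DepthLib
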