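import Groth.Agent.DepthLib.GeomNormal
import Groth.Agent.DepthLib.ModOpenAt
import Mathlib

/-! # Openness of geometric normality of the fibres -/

set_option autoImplicit false
universe u

open CategoryTheory AlgebraicGeometry Topology IsLocalRing CommAlgDim UOpenLib

namespace DepthLib

variable {X S : Scheme.{u}} (f : X ⟶ S)

/-- An open set meets a locally constructible set that is stable under generization inside it in an open set. -/
theorem isOpen_inter_of_generization {O G : Set X} (hO : IsOpen O) (hc : IsLocallyConstructible G)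
    (hgen : ∀ {x' x : X}, x' ⤳ x → x ∈ O → x ∈ G → x' ∈ G) : IsOpen (O ∩ G) := by
  rw [isOpen_iff_forall_mem_open]
  rintro x ⟨hxO, hx⟩
  obtain ⟨_, ⟨V, hV, rfl⟩, hxV, hVO⟩ :=
    X.isBasis_affineOpens.exists_subset_of_mem_open hxO hO
  have hc' : IsConstructible (hV.fromSpec.base ⁻¹' G) :=
    (ConsLib.isLocallyConstructible_preimage hV.fromSpec hc).isConstructible
  have hmem : ∀ Q, hV.fromSpec.base Q ∈ V := fun Q => by
    have h1 : hV.fromSpec.base Q ∈ Set.range hV.fromSpec := ⟨Q, rfl⟩
    rwa [hV.range_fromSpec] at h1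
  have ho : IsOpen (hV.fromSpec.base ⁻¹' G) := by
    rw [← isClosed_compl_iff]
    refine isClosed_of_closure_subset fun b hb hbG => ?_
    obtain ⟨a, ha, hab⟩ := Groth.Agent.ProConsLib.exists_specializes_of_mem_closure
      (Groth.Agent.ProConsLib.isClopen_cons_of_isConstructible hc'.compl).1 hb
    exact ha (hgen (hab.map hV.fromSpec.continuous) (hVO (hmem b)) hbG)
  refine ⟨hV.fromSpec '' (hV.fromSpec.base ⁻¹' G), ?_, hV.fromSpec.isOpenEmbedding.isOpenMap _ ho,
    hV.primeIdealOf ⟨x, hxV⟩, ?_, hV.fromSpec_primeIdealOf ⟨x, hxV⟩⟩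
  · rintro _ ⟨Q, hQ, rfl⟩
    exact ⟨hVO (hmem Q), hQ⟩
  · show hV.fromSpec (hV.primeIdealOf ⟨x, hxV⟩) ∈ G
    rw [hV.fromSpec_primeIdealOf]
    exact hx

/-- The trivial extension of the base field shows that a geometrically normal local ring is a domain. -/
theorem isDomain_stalk_of_bc_self {k : Type u} [Field k] {F : Scheme.{u}} (g : F ⟶ Spec (CommRingCat.of k))
    (y : F) (h : ∀ y' : ↥(FBase.bc g k), (FBase.bcπ g k).base y' = y → IsDomain ((FBase.bc g k).presheaf.stalk y')) :
    IsDomain (F.presheaf.stalk y) := by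
  let i := Spec.map (CommRingCat.ofHom (algebraMap k k))
  let π : FBase.bc g k ⟶ F := FBase.bcπ g k
  have hgid : i = 𝟙 _ := by
    show Spec.map (CommRingCat.ofHom (algebraMap k k)) = _
    rw [Algebra.algebraMap_self, CommRingCat.ofHom_id, Spec.map_id]
  haveI : IsIso i := hgid ▸ inferInstance
  haveI : IsIso π := inferInstanceAs (IsIso (Limits.pullback.fst g i))
  obtain ⟨y', hy'⟩ := π.surjective y
  haveI := h y' hy'
  subst hy'
  exact ((asIso (π.stalkMap y')).commRingCatIsoToRingEquiv).toMulEquiv.isDomain _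

/-- Geometric `(R_k)` passes to generizations of flat points with equidimensional fibres without
embedded components. -/
theorem geomRk_fibre_of_specializes [LocallyOfFinitePresentation f] (k : ℕ) {x' x : X} (hsp : x' ⤳ x)
    (hfl : (f.stalkMap x).hom.Flat)
    (h1 : ∀ (K : Type u) [Field K] [Algebra (IsLocalRing.ResidueField (S.presheaf.stalk (f.base x))) K]
        (y : ↥(FBase.bc (f.fiberToSpecResidueField (f.base x)) K)),
        (FBase.bcπ (f.fiberToSpecResidueField (f.base x)) K).base y = f.asFiber x →
          LocCoh.HasRk k ((FBase.bc (f.fiberToSpecResidueField (f.base x)) K).presheaf.stalk y))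
    (h2 : EGA4.IsEquidim ↑((f.fiber (f.base x)).presheaf.stalk (f.asFiber x)) ∧
      ∀ p ∈ associatedPrimes ↑((f.fiber (f.base x)).presheaf.stalk (f.asFiber x)) ↑((f.fiber (f.base x)).presheaf.stalk (f.asFiber x)),
        p ∈ minimalPrimes ↑((f.fiber (f.base x)).presheaf.stalk (f.asFiber x))) :
    ∀ (K : Type u) [Field K] [Algebra (IsLocalRing.ResidueField (S.presheaf.stalk (f.base x'))) K]
        (y : ↥(FBase.bc (f.fiberToSpecResidueField (f.base x')) K)),
        (FBase.bcπ (f.fiberToSpecResidueField (f.base x')) K).base y = f.asFiber x' →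
          LocCoh.HasRk k ((FBase.bc (f.fiberToSpecResidueField (f.base x')) K).presheaf.stalk y) := by
  haveI : ∀ s : S, LocallyOfFinitePresentation (f.fiberToSpecResidueField s) := fun s =>
    MorphismProperty.pullback_snd _ _ inferInstance
  haveI : Coh.IsQCoh (Coh.structureModule X) := QCohLib.isQCoh_unit
  haveI := isFP_structureModule (X := X)
  have hFT : CohB1.IsFT (Coh.structureModule X) := inferInstance
  obtain ⟨h3, h4⟩ := (equidim_noEmbedded_iff f x).1 h2
  have hflat := (isFlatOverAt_structureModule_iff f x).2 hfl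
  by_contra hbad
  obtain ⟨z', hfz', hz'x', hns', e', r', he', hr', hle'⟩ := (not_geomRk_fibre_iff f k x').1 hbad
  obtain ⟨z, hfz, hzx, hz'z, hrz⟩ := exists_spread f (hz'x'.trans hsp) hr'
  obtain ⟨r, hr⟩ := exists_fibreClosureDim_eq_nat f z
  rw [hr, Nat.cast_le] at hrz
  have hflz : (f.stalkMap z).hom.Flat := hzx.mem_open (FlatLib.isOpen_setOf_flat_stalkMap f) hfl
  have hns : f.asFiber z ∉ (f.fiberToSpecResidueField (f.base z)).smoothLocus := fun h => hns'
    ((mem_smoothLocus_iff f z').1 (hz'z.mem_open f.smoothLocus.2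
      ((mem_smoothLocus_iff f z).2 ⟨hflz, h⟩))).2
  obtain ⟨e, he⟩ := exists_fibreDimAt_eq_nat f z
  have e1 := suppDimAt_eq_of_specializes_at f (Coh.structureModule X) isFP_structureModule hFT
    (hz'x'.trans hsp) (mem_support_structureModule f z') hflat h3 h4
  have e2 := suppDimAt_eq_of_specializes_at f (Coh.structureModule X) isFP_structureModule hFT
    hzx (mem_support_structureModule f z) hflat h3 h4
  rw [← e2, suppDimAt_structureModule, suppDimAt_structureModule, he, he'] at e1
  have e3 : e' = e := Nat.cast_injective e1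
  exact (not_geomRk_fibre_iff f k x).2 ⟨z, hfz, hzx, hns, e, r, he, hr, by omega⟩ h1

/-- A local domain is equidimensional without embedded components. -/
theorem equidim_noEmbedded_of_isDomain (R : Type u) [CommRing R] [IsDomain R] :
    EGA4.IsEquidim R ∧ ∀ p ∈ associatedPrimes R R, p ∈ minimalPrimes R := by
  have hm : minimalPrimes R = {⊥} := IsDomain.minimalPrimes_eq_singleton_bot R
  refine ⟨fun p hp => ?_, fun p hp => ?_⟩
  · rw [hm, Set.mem_singleton_iff] at hp
    subst hp
    exact ringKrullDim_eq_of_ringEquiv (RingEquiv.quotientBot R)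
  · rw [hm, Set.mem_singleton_iff]
    rw [associatedPrimes, Set.mem_setOf_eq, IsAssociatedPrime] at hp
    obtain ⟨hp1, a, ha⟩ := hp
    by_cases ha0 : a = 0
    · subst ha0
      refine absurd ?_ hp1.ne_top
      rw [ha]
      simp
    · rw [ha]
      ext b
      simp only [Ideal.mem_radical_iff, Submodule.mem_colon_singleton, Submodule.mem_bot, smul_eq_mul, mul_eq_zero,
        ha0, or_false, Ideal.mem_bot]
      exact ⟨fun ⟨n, hn⟩ => eq_zero_of_pow_eq_zero hn, fun hb => ⟨1, by rw [hb, pow_one]⟩⟩

/-- For morphisms locally of finite presentation geometric normality of the fibres is open along the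
flat locus. -/
theorem isOpen_flat_geomNormal [LocallyOfFinitePresentation f] :
    IsOpen {x : X | (f.stalkMap x).hom.Flat ∧
      ∀ (K : Type u) [Field K] [Algebra (IsLocalRing.ResidueField (S.presheaf.stalk (f.base x))) K],
        Module.Finite (IsLocalRing.ResidueField (S.presheaf.stalk (f.base x))) K →
        ∀ x' : ↥(FBase.bc (f.fiberToSpecResidueField (f.base x)) K),
          (FBase.bcπ (f.fiberToSpecResidueField (f.base x)) K).base x' = f.asFiber x →
          IsDomain ((FBase.bc (f.fiberToSpecResidueField (f.base x)) K).presheaf.stalk x') ∧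
            IsIntegrallyClosed ((FBase.bc (f.fiberToSpecResidueField (f.base x)) K).presheaf.stalk x')} := by
  haveI : ∀ s : S, LocallyOfFinitePresentation (f.fiberToSpecResidueField s) := fun s =>
    MorphismProperty.pullback_snd _ _ inferInstance
  let G₁ : Set X := {x : X | ∀ (K : Type u) [Field K] [Algebra (IsLocalRing.ResidueField (S.presheaf.stalk (f.base x))) K]
        (y : ↥(FBase.bc (f.fiberToSpecResidueField (f.base x)) K)),
        (FBase.bcπ (f.fiberToSpecResidueField (f.base x)) K).base y = f.asFiber x →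
          LocCoh.HasRk 1 ((FBase.bc (f.fiberToSpecResidueField (f.base x)) K).presheaf.stalk y)}
  let G₂ : Set X := {x : X | LocCoh.HasSk 2 ((f.fiber (f.base x)).presheaf.stalk (f.asFiber x))
      ((f.fiber (f.base x)).presheaf.stalk (f.asFiber x))}
  have key : ∀ x, (∀ (K : Type u) [Field K] [Algebra (IsLocalRing.ResidueField (S.presheaf.stalk (f.base x))) K],
        Module.Finite (IsLocalRing.ResidueField (S.presheaf.stalk (f.base x))) K →
        ∀ x' : ↥(FBase.bc (f.fiberToSpecResidueField (f.base x)) K),
          (FBase.bcπ (f.fiberToSpecResidueField (f.base x)) K).base x' = f.asFiber x →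
          IsDomain ((FBase.bc (f.fiberToSpecResidueField (f.base x)) K).presheaf.stalk x') ∧
            IsIntegrallyClosed ((FBase.bc (f.fiberToSpecResidueField (f.base x)) K).presheaf.stalk x')) ↔
      x ∈ G₁ ∩ G₂ := fun x => by
    refine (@geomNormal_iff _ _ _ (f.fiberToSpecResidueField (f.base x))
      (‹∀ s : S, LocallyOfFinitePresentation (f.fiberToSpecResidueField s)› (f.base x)) (f.asFiber x)
      (fun K _ _ => Module.Finite (IsLocalRing.ResidueField (S.presheaf.stalk (f.base x))) K)
      (Module.Finite.self _)).trans (and_congr ?_ Iff.rfl)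
    exact (@geomRk_fin_iff _ _ _ (f.fiberToSpecResidueField (f.base x))
      (‹∀ s : S, LocallyOfFinitePresentation (f.fiberToSpecResidueField s)› (f.base x)) (f.asFiber x) 1).trans
      (@geomRk_iff _ _ _ (f.fiberToSpecResidueField (f.base x))
      (‹∀ s : S, LocallyOfFinitePresentation (f.fiberToSpecResidueField s)› (f.base x)) (f.asFiber x) 1).symm
  simp only [key]
  refine isOpen_inter_of_generization (O := {x : X | (f.stalkMap x).hom.Flat})
    (FlatLib.isOpen_setOf_flat_stalkMap f)
    ((isLocallyConstructible_geomRk_fibre f 1).inter (isLocallyConstructible_hasSk_fibre f 2)) ?_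
  rintro x' x hsp hfl ⟨h1, h2⟩
  refine ⟨?_, hasSk_fibre_of_specializes f 2 hsp hfl h2⟩
  haveI := isDomain_stalk_of_bc_self (f.fiberToSpecResidueField (f.base x)) (f.asFiber x)
    fun y' hy' => ((key x).2 ⟨h1, h2⟩ _ (Module.Finite.self _) y' hy').1
  exact geomRk_fibre_of_specializes f 1 hsp hfl h1 (equidim_noEmbedded_of_isDomain _)

end DepthLib
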