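import Groth.Agent.DepthLib.GeomRk
import Mathlib

/-! # Constructibility of the points with geometrically `(R_k)` fibre -/

set_option autoImplicit false
universe u

open CategoryTheory AlgebraicGeometry Topology UOpenLib

namespace DepthLib

variable {X S : Scheme.{u}} (f : X ⟶ S)

/-- The points whose fibre fails geometric `(R_k)`, in terms of witnesses. -/
theorem not_geomRk_fibre_iff [LocallyOfFinitePresentation f]
    [∀ s : S, LocallyOfFinitePresentation (f.fiberToSpecResidueField s)] (k : ℕ) (x : X) :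
    ¬ (∀ (K : Type u) [Field K] [Algebra (IsLocalRing.ResidueField (S.presheaf.stalk (f.base x))) K]
        (x' : ↥(FBase.bc (f.fiberToSpecResidueField (f.base x)) K)),
        (FBase.bcπ (f.fiberToSpecResidueField (f.base x)) K).base x' = f.asFiber x →
          LocCoh.HasRk k ((FBase.bc (f.fiberToSpecResidueField (f.base x)) K).presheaf.stalk x')) ↔
      ∃ z : X, f.base z = f.base x ∧ z ⤳ x ∧
        f.asFiber z ∉ (f.fiberToSpecResidueField (f.base z)).smoothLocus ∧ ∃ e r : ℕ,
          FlatMor.fibreDimAt f z = (e : WithBot ℕ∞) ∧ fibreClosureDim f z = (r : WithBot ℕ∞) ∧ e ≤ k + r := by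
  let B : X → Prop := fun z => f.asFiber z ∉ (f.fiberToSpecResidueField (f.base z)).smoothLocus ∧
    ringKrullDim ((f.fiber (f.base z)).presheaf.stalk (f.asFiber z)) ≤ ((k : ℕ∞) : WithBot ℕ∞)
  have key : ∀ (s : S) (w : f.fiber s), B (f.fiberι s w) ↔
      (w ∉ (f.fiberToSpecResidueField s).smoothLocus ∧
        ringKrullDim ((f.fiber s).presheaf.stalk w) ≤ ((k : ℕ∞) : WithBot ℕ∞)) := by
    intro s w
    have hs : f (f.fiberι s w) = s := (f.range_fiberι s).le ⟨w, rfl⟩
    generalize hx : f.fiberι s w = z at hs ⊢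
    subst hs
    obtain rfl : w = f.asFiber z := (f.fiberι (f z)).isEmbedding.injective (by rw [hx, f.fiberι_asFiber])
    exact Iff.rfl
  have h1 := @geomRk_iff _ _ _ (f.fiberToSpecResidueField (f.base x)) (‹∀ s : S, LocallyOfFinitePresentation (f.fiberToSpecResidueField s)› (f.base x)) (f.asFiber x) k
  refine Iff.trans (not_congr h1) ?_
  have num : ∀ z : X, ringKrullDim ((f.fiber (f.base z)).presheaf.stalk (f.asFiber z)) ≤ ((k : ℕ∞) : WithBot ℕ∞) ↔
      ∃ e r : ℕ, FlatMor.fibreDimAt f z = (e : WithBot ℕ∞) ∧ fibreClosureDim f z = (r : WithBot ℕ∞) ∧ e ≤ k + r := by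
    intro z
    obtain ⟨d, r, hd, hr, he⟩ := exists_fibre_numbers f z
    replace hr : fibreClosureDim f z = (r : WithBot ℕ∞) := hr
    rw [hd, he, hr]
    constructor
    · intro h
      exact ⟨d + r, r, rfl, rfl, Nat.add_le_add_right (Nat.cast_le.1 h) r⟩
    · rintro ⟨e, r', h1, h2, h3⟩
      have e1 : d + r = e := Nat.cast_injective h1
      have e2 : r = r' := Nat.cast_injective h2
      exact Nat.cast_le.2 (by omega)
  constructor
  · intro h
    push_neg at h
    obtain ⟨w, hw, hns, hd⟩ := h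
    obtain ⟨hB1, hB2⟩ := (key _ w).2 ⟨hns, hd⟩
    refine ⟨f.fiberι _ w, (f.range_fiberι _).le ⟨w, rfl⟩, ?_, hB1, (num _).1 hB2⟩
    have := hw.map (f.fiberι (f.base x)).continuous
    rwa [f.fiberι_asFiber] at this
  · rintro ⟨z, hfz, hzx, hns, hnum⟩
    obtain ⟨w, rfl⟩ : z ∈ Set.range (f.fiberι (f.base x)) := by rw [f.range_fiberι]; exact hfz
    obtain ⟨h2, h3⟩ := (key _ w).1 ⟨hns, (num _).2 hnum⟩
    exact fun h => h w ((f.fiberι _).isEmbedding.isInducing.specializes_iff.1 (by rwa [f.fiberι_asFiber])) h2 h3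

/-- The points with geometrically `(R_k)` fibre form a locally constructible set. -/
theorem isLocallyConstructible_geomRk_fibre [LocallyOfFinitePresentation f] (k : ℕ) :
    IsLocallyConstructible {x : X |
      ∀ (K : Type u) [Field K] [Algebra (IsLocalRing.ResidueField (S.presheaf.stalk (f.base x))) K]
        (x' : ↥(FBase.bc (f.fiberToSpecResidueField (f.base x)) K)),
        (FBase.bcπ (f.fiberToSpecResidueField (f.base x)) K).base x' = f.asFiber x →
          LocCoh.HasRk k ((FBase.bc (f.fiberToSpecResidueField (f.base x)) K).presheaf.stalk x')} := by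
  haveI : ∀ s : S, LocallyOfFinitePresentation (f.fiberToSpecResidueField s) := fun s =>
    MorphismProperty.pullback_snd _ _ inferInstance
  refine isLocallyConstructible_of_chart fun x => ?_
  obtain ⟨_, ⟨V, hV, rfl⟩, hxV, -⟩ :=
    X.isBasis_affineOpens.exists_subset_of_mem_open (Set.mem_univ x) isOpen_univ
  refine ⟨V, hV, hxV, ?_⟩
  let O : ℕ → Set X := fun e => {y : X | FlatMor.fibreDimAt f y ≤ (e : WithBot ℕ∞)}
  have hcov : (V : Set X) ⊆ ⋃ e : ℕ, O e := fun y _ => by
    obtain ⟨e, he⟩ := exists_fibreDimAt_eq_nat f y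
    exact Set.mem_iUnion.2 ⟨e, he.le⟩
  obtain ⟨t, ht⟩ := hV.isCompact.elim_finite_subcover O (fun e => FibDimLib.isOpen_fibreDimAt_le f _) hcov
  obtain ⟨N, hN⟩ : ∃ N, ∀ e ∈ t, e ≤ N := ⟨t.sup id, fun e he => Finset.le_sup (f := id) he⟩
  let E : ℕ → Set X := fun e => fibWit f
    ({z : X | FlatMor.fibreDimAt f z = (e : WithBot ℕ∞)} ∩
      {z : X | f.asFiber z ∈ (f.fiberToSpecResidueField (f.base z)).smoothLocus}ᶜ) (e - k)
  have hE : IsLocallyConstructible (⋃ e ∈ Finset.range (N + 1), E e) :=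
    isLocallyConstructible_biUnion _ E fun e _ => isLocallyConstructible_fibWit f
      ((isLocallyConstructible_fibreDimAt_eq f e).inter
        (isLocallyConstructible_compl (isLocallyConstructible_smooth_fibre f))) _
  refine ⟨hV.fromSpec ⁻¹' (⋃ e ∈ Finset.range (N + 1), E e)ᶜ,
    ConsLib.isLocallyConstructible_preimage hV.fromSpec (isLocallyConstructible_compl hE), fun Q => ?_⟩
  set y := hV.fromSpec Q with hy
  have hyV : y ∈ V := by
    have h1 : hV.fromSpec Q ∈ Set.range hV.fromSpec := ⟨Q, rfl⟩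
    rwa [hV.range_fromSpec] at h1
  show _ ↔ y ∉ ⋃ e ∈ Finset.range (N + 1), E e
  rw [Set.mem_setOf_eq, ← not_iff_not, not_not]
  refine (not_geomRk_fibre_iff f k y).trans ?_
  constructor
  · rintro ⟨z, hfz, hzy, hns, e, r, he, hr, h1⟩
    obtain ⟨e', he', hze⟩ := Set.mem_iUnion₂.1 (ht (hzy.mem_open V.2 hyV))
    have hze' : FlatMor.fibreDimAt f z ≤ (e' : WithBot ℕ∞) := hze
    rw [he, Nat.cast_le] at hze'
    have := hN e' he'
    refine Set.mem_iUnion₂.2 ⟨e, Finset.mem_range.2 (by omega), z, ⟨he, hns⟩, hfz, hzy, ?_⟩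
    rw [hr, Nat.cast_le]
    omega
  · intro h
    obtain ⟨e, -, z, ⟨he, hns⟩, hfz, hzy, hm⟩ := Set.mem_iUnion₂.1 h
    obtain ⟨r, hr⟩ := exists_fibreClosureDim_eq_nat f z
    rw [hr, Nat.cast_le] at hm
    exact ⟨z, hfz, hzy, hns, e, r, he, hr, by omega⟩

end DepthLib
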