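import Groth.Agent.DepthLib.ModOpen
import Groth.Agent.DepthLib.GeomRkFin
import Groth.Agent.NormalLib.Serre
import Mathlib

/-! # Openness of geometric `(R_k)` with equidimensional fibres without embedded components -/

set_option autoImplicit false
universe u

open CategoryTheory AlgebraicGeometry Topology TensorProduct UOpenLib IsLocalRing

namespace DepthLib

/-- The stalks of the inverse image of the structure module. -/
theorem nonempty_pullback_unit_stalk {P X : Scheme.{u}} (g : P ⟶ X) (y : P) :
    Nonempty (((Scheme.Modules.pullback g).obj (Coh.structureModule X)).presheaf.stalk y ≃ₗ[P.presheaf.stalk y]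
      P.presheaf.stalk y) := by
  haveI : Coh.IsQCoh (Coh.structureModule X) := QCohLib.isQCoh_unit
  obtain ⟨_, ⟨V, hV, rfl⟩, hz, -⟩ :=
    X.isBasis_affineOpens.exists_subset_of_mem_open (Set.mem_univ (g y)) isOpen_univ
  let O := X.presheaf.stalk (g y)
  let O' := P.presheaf.stalk y
  letI : Algebra O O' := (g.stalkMap y).hom.toAlgebra
  letI : Algebra Γ(X, V) O := (X.presheaf.germ V (g y) hz).hom.toAlgebra
  letI : Algebra Γ(X, V) O' := (g.stalkMap y).hom.comp (X.presheaf.germ V (g y) hz).hom |>.toAlgebra
  haveI : IsScalarTower Γ(X, V) O O' := IsScalarTower.of_algebraMap_eq fun _ => rfl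
  haveI : IsLocalization.AtPrime O (hV.primeIdealOf ⟨g y, hz⟩).asIdeal := hV.isLocalization_stalk ⟨g y, hz⟩
  letI := Module.compHom ((Coh.structureModule X).presheaf.stalk (g y)) (X.presheaf.germ V (g y) hz).hom
  haveI : IsScalarTower Γ(X, V) O ((Coh.structureModule X).presheaf.stalk (g y)) :=
    IsScalarTower.of_algebraMap_smul fun _ _ => rfl
  haveI := FlatLib.isLocalizedModule_germLin (Coh.structureModule X) hV hz
  have hb : IsBaseChange O (FlatLib.germLin (Coh.structureModule X) hz) :=
    IsLocalizedModule.isBaseChange (hV.primeIdealOf ⟨g y, hz⟩).asIdeal.primeCompl O _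
  let e₁ : O' ⊗[O] (Coh.structureModule X).presheaf.stalk (g y) ≃ₗ[O']
      ((Scheme.Modules.pullback g).obj (Coh.structureModule X)).presheaf.stalk y :=
    ((KFlatLib.stalkPullIso g y).symm.app (Coh.structureModule X)).toLinearEquiv
  let e₂ : O' ⊗[Γ(X, V)] Γ(Coh.structureModule X, V) ≃ₗ[O'] O' ⊗[O] (Coh.structureModule X).presheaf.stalk (g y) :=
    (AlgebraTensorModule.cancelBaseChange Γ(X, V) O O' O' Γ(Coh.structureModule X, V)).symm.trans
      (AlgebraTensorModule.congr (LinearEquiv.refl O' O') hb.equiv)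
  exact ⟨((e₂.trans e₁).symm.trans (AlgebraTensorModule.congr (LinearEquiv.refl O' O') (unitSectionsEquiv V))).trans
    (AlgebraTensorModule.rid Γ(X, V) O' O')⟩

theorem hasSk_congr {R : Type u} [CommRing R] {M N : Type u} [AddCommGroup M] [Module R M] [AddCommGroup N]
    [Module R N] (e : M ≃ₗ[R] N) (k : ℕ) (h : LocCoh.HasSk k R M) : LocCoh.HasSk k R N := by
  intro p hp
  let e' : LocalizedModule p.primeCompl M ≃ₗ[Localization.AtPrime p] LocalizedModule p.primeCompl N :=
    (IsLocalizedModule.mapEquiv p.primeCompl (LocalizedModule.mkLinearMap p.primeCompl M)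
      (LocalizedModule.mkLinearMap p.primeCompl N) (Localization.AtPrime p) e)
  rw [← Module.supportDim_eq_of_equiv e', ← CommAlgDim.depth_congr e']
  exact h p

theorem isEquidim_iff_isEquidimModule (R : Type u) [CommRing R] {M : Type u} [AddCommGroup M] [Module R M]
    (e : M ≃ₗ[R] R) : EGA4.IsEquidim R ↔ EGA4.IsEquidimModule R M := by
  have h1 : Module.annihilator R M = ⊥ := by
    rw [e.annihilator_eq]
    exact Module.annihilator_eq_bot.2 inferInstance
  rw [EGA4.IsEquidim, EGA4.IsEquidimModule, h1, Module.supportDim_eq_of_equiv e,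
    Module.supportDim_self_eq_ringKrullDim]

theorem hasS1_iff_associatedPrimes_minimal (R : Type u) [CommRing R] [IsNoetherianRing R] :
    LocCoh.HasSk 1 R R ↔ ∀ p ∈ associatedPrimes R R, p ∈ minimalPrimes R := by
  constructor
  · intro h1 P hP
    haveI := hP.isPrime
    have hht : P.height = 0 := by
      by_contra hne
      have h := h1 P
      rw [SMTLib.supportDim_localized_self, ← WithBot.coe_natCast, ← WithBot.coe_min, WithBot.coe_le_coe,
        min_eq_left (by rw [Nat.cast_one]; exact Order.one_le_iff_pos.2 (pos_iff_ne_zero.2 hne)),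
        CommAlgDim.le_depth_iff] at h
      exact CommAlgDim.maximalIdeal_notMem_of_hasSeqIn_one h hP
    exact Ideal.height_eq_zero_iff.mp hht
  · intro h p hp
    rw [SMTLib.supportDim_localized_self]
    by_cases h0 : p.height = 0
    · refine (min_le_right _ _).trans ?_
      rw [h0]
      exact WithBot.coe_le_coe.2 zero_le
    refine (min_le_left _ _).trans ?_
    rw [← WithBot.coe_natCast, WithBot.coe_le_coe, CommAlgDim.le_depth_iff]
    refine CommAlgDim.HasSeqIn.localization le_rfl ((CommAlgDim.hasSeqIn_one_iff p).2 fun Q hQ hle => h0 ?_)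
    have hmin := h Q hQ
    rw [show p = Q from le_antisymm hle (hmin.2 ⟨hp, bot_le⟩ hle)]
    haveI := hQ.isPrime
    exact Ideal.height_eq_zero_iff.mpr hmin

variable {X S : Scheme.{u}} (f : X ⟶ S)

theorem suppDimAt_structureModule [LocallyOfFinitePresentation f] (x : X) :
    suppDimAt f (Coh.structureModule X) x = FlatMor.fibreDimAt f x := by
  obtain ⟨e⟩ := nonempty_pullback_unit_stalk (f.fiberι (f.base x)) (f.asFiber x)
  obtain ⟨d, r, hd, hr, he⟩ := exists_fibre_numbers f x
  rw [suppDimAt, Module.supportDim_eq_of_equiv e, Module.supportDim_self_eq_ringKrullDim, hd, hr, he, Nat.cast_add]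

theorem mem_support_structureModule [LocallyOfFinitePresentation f] (x : X) :
    x ∈ CohB1.support (Coh.structureModule X) := by
  haveI : Coh.IsQCoh (Coh.structureModule X) := QCohLib.isQCoh_unit
  haveI := isFP_structureModule (X := X)
  by_contra hx
  have h := supportDim_fibre_eq_bot f (Coh.structureModule X) inferInstance hx
  obtain ⟨e⟩ := nonempty_pullback_unit_stalk (f.fiberι (f.base x)) (f.asFiber x)
  rw [Module.supportDim_eq_of_equiv e, Module.supportDim_self_eq_ringKrullDim] at h
  exact (ringKrullDim_nonneg_of_nontrivial.trans_eq h).not_gt (WithBot.bot_lt_coe 0)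

/-- Equidimensional `(S_1)` fibre local rings, in terms of the structure module. -/
theorem equidim_noEmbedded_iff [LocallyOfFinitePresentation f] (x : X) :
    (EGA4.IsEquidim ↑((f.fiber (f.base x)).presheaf.stalk (f.asFiber x)) ∧
      ∀ p ∈ associatedPrimes ↑((f.fiber (f.base x)).presheaf.stalk (f.asFiber x)) ↑((f.fiber (f.base x)).presheaf.stalk (f.asFiber x)),
        p ∈ minimalPrimes ↑((f.fiber (f.base x)).presheaf.stalk (f.asFiber x))) ↔
    EGA4.IsEquidimModule ((f.fiber (f.base x)).presheaf.stalk (f.asFiber x))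
        (((Scheme.Modules.pullback (f.fiberι (f.base x))).obj (Coh.structureModule X)).presheaf.stalk (f.asFiber x)) ∧
      LocCoh.HasSk 1 ((f.fiber (f.base x)).presheaf.stalk (f.asFiber x))
        (((Scheme.Modules.pullback (f.fiberι (f.base x))).obj (Coh.structureModule X)).presheaf.stalk (f.asFiber x)) := by
  haveI := lft_fiberToSpec f (f.base x)
  haveI : IsLocallyNoetherian (f.fiber (f.base x)) :=
    LocallyOfFiniteType.isLocallyNoetherian (f.fiberToSpecResidueField (f.base x))
  obtain ⟨e⟩ := nonempty_pullback_unit_stalk (f.fiberι (f.base x)) (f.asFiber x)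
  haveI : IsNoetherianRing ((f.fiber (f.base x)).presheaf.stalk (f.asFiber x)) := inferInstance
  rw [← hasS1_iff_associatedPrimes_minimal, isEquidim_iff_isEquidimModule _ e]
  exact and_congr_right fun _ => ⟨hasSk_congr e.symm 1, hasSk_congr e 1⟩

/-- For flat morphisms, geometric `(R_k)` with equidimensional fibres without embedded components is open. -/
theorem isOpen_geomRk_equidim_noEmbedded [Flat f] [LocallyOfFinitePresentation f] (k : ℕ) :
    IsOpen {x : X | (∀ (K : Type u) [Field K] [Algebra (IsLocalRing.ResidueField (S.presheaf.stalk (f.base x))) K],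
        Module.Finite (IsLocalRing.ResidueField (S.presheaf.stalk (f.base x))) K →
        ∀ x' : ↥(FBase.bc (f.fiberToSpecResidueField (f.base x)) K),
          (FBase.bcπ (f.fiberToSpecResidueField (f.base x)) K).base x' = f.asFiber x →
          LocCoh.HasRk k ((FBase.bc (f.fiberToSpecResidueField (f.base x)) K).presheaf.stalk x')) ∧
      EGA4.IsEquidim ↑((f.fiber (f.base x)).presheaf.stalk (f.asFiber x)) ∧ (∀ p ∈ associatedPrimes ↑((f.fiber (f.base x)).presheaf.stalk (f.asFiber x)) ↑((f.fiber (f.base x)).presheaf.stalk (f.asFiber x)), p ∈ minimalPrimes ↑((f.fiber (f.base x)).presheaf.stalk (f.asFiber x)))} := by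
  haveI : ∀ s : S, LocallyOfFinitePresentation (f.fiberToSpecResidueField s) := fun s =>
    MorphismProperty.pullback_snd _ _ inferInstance
  haveI : Coh.IsQCoh (Coh.structureModule X) := QCohLib.isQCoh_unit
  haveI := isFP_structureModule (X := X)
  have hFT : CohB1.IsFT (Coh.structureModule X) := inferInstance
  have hflat : FlatMod.IsFlatOver f (Coh.structureModule X) := fun x =>
    (isFlatOverAt_structureModule_iff f x).2 (Flat.stalkMap f x)
  let G₁ : Set X := {x : X | ∀ (K : Type u) [Field K] [Algebra (IsLocalRing.ResidueField (S.presheaf.stalk (f.base x))) K]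
        (x' : ↥(FBase.bc (f.fiberToSpecResidueField (f.base x)) K)),
        (FBase.bcπ (f.fiberToSpecResidueField (f.base x)) K).base x' = f.asFiber x →
          LocCoh.HasRk k ((FBase.bc (f.fiberToSpecResidueField (f.base x)) K).presheaf.stalk x')}
  let G₂ : Set X := {x : X | EGA4.IsEquidimModule ((f.fiber (f.base x)).presheaf.stalk (f.asFiber x))
        (((Scheme.Modules.pullback (f.fiberι (f.base x))).obj (Coh.structureModule X)).presheaf.stalk (f.asFiber x)) ∧
      LocCoh.HasSk 1 ((f.fiber (f.base x)).presheaf.stalk (f.asFiber x))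
        (((Scheme.Modules.pullback (f.fiberι (f.base x))).obj (Coh.structureModule X)).presheaf.stalk (f.asFiber x))}
  have hG₂ : IsOpen G₂ := isOpen_equidim_hasSk_mod f _ isFP_structureModule hFT hflat 1 le_rfl
  have heq : {x : X | (∀ (K : Type u) [Field K] [Algebra (IsLocalRing.ResidueField (S.presheaf.stalk (f.base x))) K],
        Module.Finite (IsLocalRing.ResidueField (S.presheaf.stalk (f.base x))) K →
        ∀ x' : ↥(FBase.bc (f.fiberToSpecResidueField (f.base x)) K),
          (FBase.bcπ (f.fiberToSpecResidueField (f.base x)) K).base x' = f.asFiber x →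
          LocCoh.HasRk k ((FBase.bc (f.fiberToSpecResidueField (f.base x)) K).presheaf.stalk x')) ∧
      EGA4.IsEquidim ↑((f.fiber (f.base x)).presheaf.stalk (f.asFiber x)) ∧ (∀ p ∈ associatedPrimes ↑((f.fiber (f.base x)).presheaf.stalk (f.asFiber x)) ↑((f.fiber (f.base x)).presheaf.stalk (f.asFiber x)), p ∈ minimalPrimes ↑((f.fiber (f.base x)).presheaf.stalk (f.asFiber x)))} =
      G₁ ∩ G₂ := by
    ext x
    refine and_congr ?_ (equidim_noEmbedded_iff f x)
    exact (@geomRk_fin_iff _ _ _ (f.fiberToSpecResidueField (f.base x))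
        (‹∀ s : S, LocallyOfFinitePresentation (f.fiberToSpecResidueField s)› (f.base x)) (f.asFiber x) k).trans
      (@geomRk_iff _ _ _ (f.fiberToSpecResidueField (f.base x))
        (‹∀ s : S, LocallyOfFinitePresentation (f.fiberToSpecResidueField s)› (f.base x)) (f.asFiber x) k).symm
  rw [heq]
  refine isOpen_of_generization ((isLocallyConstructible_geomRk_fibre f k).inter
    ((isLocallyConstructible_equidimModule f _ isFP_structureModule hFT).inter
      (isLocallyConstructible_hasSk_mod f _ isFP_structureModule hFT 1))) ?_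
  rintro x' x hsp ⟨h1, h2⟩
  refine ⟨?_, hsp.mem_open hG₂ h2⟩
  by_contra hbad
  obtain ⟨z', hfz', hz'x', hns', e', r', he', hr', hle'⟩ := (not_geomRk_fibre_iff f k x').1 hbad
  obtain ⟨z, hfz, hzx, hz'z, hrz⟩ := exists_spread f (hz'x'.trans hsp) hr'
  obtain ⟨r, hr⟩ := exists_fibreClosureDim_eq_nat f z
  rw [hr, Nat.cast_le] at hrz
  have hns : f.asFiber z ∉ (f.fiberToSpecResidueField (f.base z)).smoothLocus := fun h => hns'
    ((mem_smoothLocus_iff f z').1 (hz'z.mem_open f.smoothLocus.2
      ((mem_smoothLocus_iff f z).2 ⟨Flat.stalkMap f z, h⟩))).2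
  obtain ⟨e, he⟩ := exists_fibreDimAt_eq_nat f z
  have hz'G : z' ∈ G₂ := hz'x'.mem_open hG₂ (hsp.mem_open hG₂ h2)
  have hee : e ≤ e' := by
    obtain ⟨v, -, hvz, hvs, -, hvρ, hvd⟩ := exists_max_supp f _ hFT (mem_support_structureModule f z')
    obtain ⟨w, hfw, hwx, -, hws, hwρ, hwd⟩ :=
      exists_spread_ass f _ isFP_structureModule hFT hflat (hvz.trans (hz'x'.trans hsp)) hvs hvρ
    have heq2 := (isEquidimModule_fibre_iff f _ hFT x).1 h2.1
    obtain ⟨d, rw', a, -, -, hrw, -, hew, hρw⟩ := exists_mod_numbers f _ hFT hws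
    rw [hρw, hrw] at hwρ
    have ha : a + rw' = rw' := Nat.cast_injective hwρ
    have hd0 : d = 0 := by
      by_contra hne
      exact (not_hasSk_mod_iff f _ hFT 1 x).2
        ⟨w, hfw, hwx, hws, d + rw', a + rw', rw', hew, hρw, hrw, by omega, by omega⟩ h2.2
    have e1 := heq2 w hfw hwx hws
    rw [hew, hd0, zero_add, ← heq2 z hfz hzx (mem_support_structureModule f z), suppDimAt_structureModule, he] at e1
    rw [hvd, suppDimAt_structureModule, he', hrw] at hwd
    have e2 : rw' = e := Nat.cast_injective e1
    have e3 : rw' = e' := Nat.cast_injective hwd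
    omega
  exact (not_geomRk_fibre_iff f k x).2 ⟨z, hfz, hzx, hns, e, r, he, hr, by omega⟩ h1

end DepthLib
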