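import Groth.Agent.DepthLib.ModStalk
import Groth.Agent.DepthLib.CMModOpen
import Groth.Prelude.Def_FDesc
import Mathlib

/-! # The fibres of a module: dimension, depth, associated points, `(S_k)` -/

set_option autoImplicit false
universe u

open CategoryTheory AlgebraicGeometry Topology UOpenLib IsLocalRing

namespace DepthLib

variable {X S : Scheme.{u}} (f : X ⟶ S) (F : X.Modules)

/-- The dimension of the support of the fibre module at a point. -/
noncomputable def suppDimAt (x : X) : WithBot ℕ∞ :=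
  Module.supportDim ((f.fiber (f.base x)).presheaf.stalk (f.asFiber x))
    (((Scheme.Modules.pullback (f.fiberι (f.base x))).obj F).presheaf.stalk (f.asFiber x)) +
  topologicalKrullDim ↥(closure ({f.asFiber x} : Set ↥(f.fiber (f.base x))))

theorem supportDim_fibre_eq_bot [LocallyOfFiniteType f] [Coh.IsQCoh F] (hF : CohB1.IsFT F) {x : X}
    (hx : x ∉ CohB1.support F) :
    Module.supportDim ((f.fiber (f.base x)).presheaf.stalk (f.asFiber x))
      (((Scheme.Modules.pullback (f.fiberι (f.base x))).obj F).presheaf.stalk (f.asFiber x)) = ⊥ := by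
  rw [(supportDim_fibre_stalk f F hF x).2]
  have : IsEmpty ↥{z : X | z ⤳ x ∧ f.base z = f.base x ∧ z ∈ CohB1.support F} :=
    ⟨fun z => hx (z.2.1.mem_closed (QCohLib.isClosed_support F hF) z.2.2.2)⟩
  exact Order.krullDim_eq_bot_iff.2 ⟨fun C => isEmptyElim C.isIrreducible.1.choose⟩

/-- A closed subscheme carrying the support. -/
theorem exists_support_subscheme [Coh.IsQCoh F] (hF : CohB1.IsFT F) :
    ∃ (Z : Scheme.{u}) (j : Z ⟶ X), IsClosedImmersion j ∧ Set.range j = CohB1.support F := by
  let Zi := Scheme.IdealSheafData.vanishingIdeal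
    (⟨CohB1.support F, QCohLib.isClosed_support F hF⟩ : TopologicalSpace.Closeds X)
  exact ⟨_, Zi.subschemeι, inferInstance, by
    rw [Zi.range_subschemeι, Scheme.IdealSheafData.coe_support_vanishingIdeal]; rfl⟩

/-- The numbers of the fibre module at a point of the support. -/
theorem exists_mod_numbers [LocallyOfFinitePresentation f] [Coh.IsQCoh F] (hF : CohB1.IsFT F) {x : X}
    (hx : x ∈ CohB1.support F) :
    ∃ d r a : ℕ, Module.supportDim ((f.fiber (f.base x)).presheaf.stalk (f.asFiber x))
        (((Scheme.Modules.pullback (f.fiberι (f.base x))).obj F).presheaf.stalk (f.asFiber x)) = (d : WithBot ℕ∞) ∧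
      LocCoh.depth ((f.fiber (f.base x)).presheaf.stalk (f.asFiber x))
        (((Scheme.Modules.pullback (f.fiberι (f.base x))).obj F).presheaf.stalk (f.asFiber x)) = (a : ℕ∞) ∧
      fibreClosureDim f x = (r : WithBot ℕ∞) ∧ a ≤ d ∧
      suppDimAt f F x = ((d + r : ℕ) : WithBot ℕ∞) ∧ rectDepth f F x = ((a + r : ℕ) : WithBot ℕ∞) := by
  obtain ⟨Z, j, hjc, hj⟩ := exists_support_subscheme F hF
  haveI := hjc
  rw [← hj] at hx
  obtain ⟨w, rfl⟩ := hx
  obtain ⟨d, r, hd, hr, -⟩ := exists_supp_numbers f F hF j hj w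
  haveI : Nontrivial (((Scheme.Modules.pullback (f.fiberι (f.base (j w)))).obj F).presheaf.stalk (f.asFiber (j w))) :=
    (Module.supportDim_ne_bot_iff_nontrivial ((f.fiber (f.base (j w))).presheaf.stalk (f.asFiber (j w))) _).1
      (by rw [hd]; exact WithBot.coe_ne_bot)
  have h := depth_le_supportDim_fibre f F hF (j w)
  rw [hd] at h
  obtain ⟨a, ha⟩ : ∃ a : ℕ, LocCoh.depth ((f.fiber (f.base (j w))).presheaf.stalk (f.asFiber (j w)))
      (((Scheme.Modules.pullback (f.fiberι (f.base (j w)))).obj F).presheaf.stalk (f.asFiber (j w))) = (a : ℕ∞) :=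
    WithTop.ne_top_iff_exists.1 (ne_top_of_le_ne_top (ENat.natCast_ne_top d) (WithBot.coe_le_coe.1 h)) |>.imp
      fun _ => Eq.symm
  rw [ha] at h
  refine ⟨d, r, a, hd, ha, hr, by exact_mod_cast h, ?_, ?_⟩
  · rw [suppDimAt, hd, hr]; exact (Nat.cast_add d r).symm
  · show ((LocCoh.depth _ _ : ℕ∞) : WithBot ℕ∞) + topologicalKrullDim _ = _
    rw [ha, hr]; exact (Nat.cast_add a r).symm

theorem le_suppDimAt_iff [LocallyOfFinitePresentation f] [Coh.IsQCoh F] (hF : CohB1.IsFT F) (x : X) (m : ℕ) :
    (m : WithBot ℕ∞) ≤ suppDimAt f F x ↔ x ∈ fibWit f (CohB1.support F) m := by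
  obtain ⟨Z, j, hjc, hj⟩ := exists_support_subscheme F hF
  haveI := hjc
  by_cases hx : x ∈ CohB1.support F
  · rw [← hj] at hx
    obtain ⟨w, rfl⟩ := hx
    obtain ⟨d, r, hd, hr, he⟩ := exists_supp_numbers f F hF j hj w
    rw [← hj, fibWit_range, j.isEmbedding.injective.mem_set_image, suppDimAt, hd, hr, Set.mem_setOf_eq, he,
      Nat.cast_add]
  · refine iff_of_false (fun h => ?_) (fun ⟨z, hz, _, hzx, _⟩ => hx (hzx.mem_closed (QCohLib.isClosed_support F hF) hz))
    rw [suppDimAt, supportDim_fibre_eq_bot f F hF hx, WithBot.bot_add] at h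
    exact WithBot.coe_ne_bot (le_bot_iff.1 h)

theorem suppDimAt_le_of_specializes [LocallyOfFinitePresentation f] [Coh.IsQCoh F] (hF : CohB1.IsFT F)
    {x' x : X} (h : x' ⤳ x) : suppDimAt f F x' ≤ suppDimAt f F x := by
  obtain ⟨Z, j, hjc, hj⟩ := exists_support_subscheme F hF
  haveI := hjc
  by_cases hx' : x' ∈ CohB1.support F
  · have hx : x ∈ CohB1.support F := h.mem_closed (QCohLib.isClosed_support F hF) hx'
    rw [← hj] at hx hx'
    obtain ⟨w', rfl⟩ := hx'
    obtain ⟨w, rfl⟩ := hx
    obtain ⟨d', r', hd', hr', he'⟩ := exists_supp_numbers f F hF j hj w'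
    obtain ⟨d, r, hd, hr, he⟩ := exists_supp_numbers f F hF j hj w
    have := FibDimLib.fibreDimAt_le_of_specializes (j ≫ f) (j.isEmbedding.isInducing.specializes_iff.1 h)
    rw [he', he, Nat.cast_add, Nat.cast_add] at this
    rw [suppDimAt, suppDimAt, hd, hr, hd', hr']
    exact this
  · rw [suppDimAt, supportDim_fibre_eq_bot f F hF hx', WithBot.bot_add]; exact bot_le

theorem isLocallyConstructible_support [LocallyOfFinitePresentation f] [Coh.IsQCoh F] (hF : CohB1.IsFP F)
    (hFT : CohB1.IsFT F) : IsLocallyConstructible (CohB1.support F) := by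
  have h : CohB1.support F = {x : X | rectDepth f F x = ((⊤ : ℕ∞) : WithBot ℕ∞)}ᶜ := by
    ext x
    constructor
    · intro hx htop
      obtain ⟨d, r, a, -, -, -, -, -, hρ⟩ := exists_mod_numbers f F hFT hx
      have htop' : rectDepth f F x = ((⊤ : ℕ∞) : WithBot ℕ∞) := htop
      rw [hρ] at htop'
      exact ENat.natCast_ne_top _ (WithBot.coe_injective htop')
    · intro hx
      by_contra hxs
      refine hx ?_
      have h0 := supportDim_fibre_eq_bot f F hFT hxs
      rw [Module.supportDim_eq_bot_iff_subsingleton] at h0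
      show ((LocCoh.depth _ _ : ℕ∞) : WithBot ℕ∞) + topologicalKrullDim _ = _
      obtain ⟨r, hr⟩ := exists_fibreClosureDim_eq_nat f x
      rw [show topologicalKrullDim ↥(closure ({f.asFiber x} : Set ↥(f.fiber (f.base x)))) = (r : WithBot ℕ∞) from hr,
        LocCoh.depth, LocCoh.idealDepth, if_pos (Subsingleton.elim _ _)]
      rfl
  rw [h]
  exact isLocallyConstructible_compl (isLocallyConstructible_rectDepth_eq f F hF ⊤)

theorem isLocallyConstructible_suppDimAt_eq [LocallyOfFinitePresentation f] [Coh.IsQCoh F] (hF : CohB1.IsFP F)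
    (hFT : CohB1.IsFT F) (e : ℕ) : IsLocallyConstructible {x : X | suppDimAt f F x = (e : WithBot ℕ∞)} := by
  have h : {x : X | suppDimAt f F x = (e : WithBot ℕ∞)} =
      fibWit f (CohB1.support F) e ∩ (fibWit f (CohB1.support F) (e + 1))ᶜ := by
    ext x
    simp only [Set.mem_setOf_eq, Set.mem_inter_iff, Set.mem_compl_iff, ← le_suppDimAt_iff f F hFT]
    by_cases hx : x ∈ CohB1.support F
    · obtain ⟨d, r, a, -, -, -, -, hs, -⟩ := exists_mod_numbers f F hFT hx
      rw [hs, Nat.cast_le, Nat.cast_le]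
      exact ⟨fun h => by have := (Nat.cast_injective h : d + r = e); omega,
        fun h => congrArg Nat.cast (show d + r = e by omega)⟩
    · rw [suppDimAt, supportDim_fibre_eq_bot f F hFT hx, WithBot.bot_add]
      exact ⟨fun h => absurd h.symm WithBot.coe_ne_bot, fun h => absurd (le_bot_iff.1 h.1) WithBot.coe_ne_bot⟩
  rw [h]
  exact (isLocallyConstructible_fibWit f (isLocallyConstructible_support f F hF hFT) e).inter
    (isLocallyConstructible_compl (isLocallyConstructible_fibWit f (isLocallyConstructible_support f F hF hFT) _))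

/-- The generizations of a point in its fibre, for a condition stated on the fibre. -/
theorem forall_specializes_fiber_iff (P : ∀ (s : S), ↥(f.fiber s) → Prop) (x : X) :
    (∀ w, w ⤳ f.asFiber x → P (f.base x) w) ↔
      ∀ z : X, f.base z = f.base x → z ⤳ x → P (f.base z) (f.asFiber z) := by
  have key : ∀ (s : S) (w : f.fiber s), P (f.base (f.fiberι s w)) (f.asFiber (f.fiberι s w)) ↔ P s w := by
    intro s w
    have hs : f (f.fiberι s w) = s := (f.range_fiberι s).le ⟨w, rfl⟩
    generalize hx : f.fiberι s w = z at hs ⊢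
    subst hs
    obtain rfl : w = f.asFiber z := (f.fiberι (f z)).isEmbedding.injective (by rw [hx, f.fiberι_asFiber])
    exact Iff.rfl
  constructor
  · intro h z hfz hzx
    obtain ⟨w, rfl⟩ : z ∈ Set.range (f.fiberι (f.base x)) := by rw [f.range_fiberι]; exact hfz
    exact (key _ w).2 (h w ((f.fiberι _).isEmbedding.isInducing.specializes_iff.1 (by rwa [f.fiberι_asFiber])))
  · intro h w hw
    refine (key _ w).1 (h _ ((f.range_fiberι _).le ⟨w, rfl⟩) ?_)
    have := hw.map (f.fiberι (f.base x)).continuous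
    rwa [f.fiberι_asFiber] at this

/-- `(S_k)` for the fibre module fails exactly at a witness. -/
theorem not_hasSk_mod_iff [LocallyOfFinitePresentation f] [Coh.IsQCoh F] (hF : CohB1.IsFT F) (k : ℕ) (x : X) :
    ¬ LocCoh.HasSk k ((f.fiber (f.base x)).presheaf.stalk (f.asFiber x))
        (((Scheme.Modules.pullback (f.fiberι (f.base x))).obj F).presheaf.stalk (f.asFiber x)) ↔
      ∃ z : X, f.base z = f.base x ∧ z ⤳ x ∧ z ∈ CohB1.support F ∧ ∃ e ρ r : ℕ,
        suppDimAt f F z = (e : WithBot ℕ∞) ∧ rectDepth f F z = (ρ : WithBot ℕ∞) ∧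
        fibreClosureDim f z = (r : WithBot ℕ∞) ∧ ρ < e ∧ ρ + 1 ≤ k + r := by
  haveI : IsLocallyNoetherian (f.fiber (f.base x)) :=
    @LocallyOfFiniteType.isLocallyNoetherian _ _ (f.fiberToSpecResidueField (f.base x))
      (lft_fiberToSpec f (f.base x)) _
  rw [hasSk_pullback_stalk_iff (f.fiberι (f.base x)) F hF (f.asFiber x) k,
    forall_specializes_fiber_iff f (fun s w => min (k : WithBot ℕ∞) (Module.supportDim ((f.fiber s).presheaf.stalk w)
      (((Scheme.Modules.pullback (f.fiberι s)).obj F).presheaf.stalk w)) ≤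
        ((LocCoh.depth ((f.fiber s).presheaf.stalk w)
          (((Scheme.Modules.pullback (f.fiberι s)).obj F).presheaf.stalk w) : ℕ∞) : WithBot ℕ∞)) x]
  constructor
  · intro h
    simp only [not_forall] at h
    obtain ⟨z, hfz, hzx, hz⟩ := h
    by_cases hzs : z ∈ CohB1.support F
    · obtain ⟨d, r, a, hd, ha, hr, -, hs, hρ⟩ := exists_mod_numbers f F hF hzs
      rw [hd, ha, not_min_le_iff] at hz
      obtain ⟨b, hb, h1, h2⟩ := hz
      obtain rfl : a = b := Nat.cast_injective hb
      exact ⟨z, hfz, hzx, hzs, d + r, a + r, r, hs, hρ, hr, by omega, by omega⟩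
    · rw [supportDim_fibre_eq_bot f F hF hzs] at hz
      exact absurd ((min_le_right _ _).trans bot_le) hz
  · rintro ⟨z, hfz, hzx, hzs, e, ρ, r, he, hρ, hr, h1, h2⟩ h
    have h3 := h z hfz hzx
    obtain ⟨d, r', a, hd, ha, hr', -, hs, hρ'⟩ := exists_mod_numbers f F hF hzs
    rw [hd, ha] at h3
    have e1 : r' = r := Nat.cast_injective (hr'.symm.trans hr)
    have e2 : d + r' = e := Nat.cast_injective (hs.symm.trans he)
    have e3 : a + r' = ρ := Nat.cast_injective (hρ'.symm.trans hρ)
    exact not_min_le_iff.2 ⟨a, rfl, by omega, by omega⟩ h3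

/-- The associated points of a fibre module are those of depth zero in the support. -/
theorem mem_ass_fibre_iff [LocallyOfFinitePresentation f] [Coh.IsQCoh F] (hF : CohB1.IsFT F) (z : X) :
    f.asFiber z ∈ AssSch.Ass ((Scheme.Modules.pullback (f.fiberι (f.base z))).obj F) ↔
      z ∈ CohB1.support F ∧ rectDepth f F z = fibreClosureDim f z := by
  haveI := lft_fiberToSpec f (f.base z)
  haveI : IsLocallyNoetherian (f.fiber (f.base z)) :=
    LocallyOfFiniteType.isLocallyNoetherian (f.fiberToSpecResidueField (f.base z))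
  let A := (f.fiber (f.base z)).presheaf.stalk (f.asFiber z)
  let N := ((Scheme.Modules.pullback (f.fiberι (f.base z))).obj F).presheaf.stalk (f.asFiber z)
  haveI : Module.Finite A N := (supportDim_fibre_stalk f F hF z).1
  haveI : IsNoetherianRing A := inferInstance
  have hass : f.asFiber z ∈ AssSch.Ass ((Scheme.Modules.pullback (f.fiberι (f.base z))).obj F) ↔
      ¬ ((1 : ℕ) : ℕ∞) ≤ LocCoh.depth A N := by
    rw [CommAlgDim.le_depth_iff, CommAlgDim.hasSeqIn_one_iff]
    constructor
    · intro h h'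
      exact h' _ (show maximalIdeal A ∈ associatedPrimes A N from h) le_rfl
    · intro h
      push_neg at h
      obtain ⟨q, hq, hle⟩ := h
      obtain rfl : maximalIdeal A = q :=
        (maximalIdeal.isMaximal A).eq_of_le hq.isPrime.ne_top hle
      exact hq
  rw [hass]
  constructor
  · intro h
    have hz : z ∈ CohB1.support F := by
      by_contra hz
      have h0 := supportDim_fibre_eq_bot f F hF hz
      rw [Module.supportDim_eq_bot_iff_subsingleton] at h0
      exact h ((CommAlgDim.le_depth_iff 1).2 (CommAlgDim.hasSeqIn_of_subsingleton _ 1))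
    obtain ⟨d, r, a, hd, ha, hr, -, hs, hρ⟩ := exists_mod_numbers f F hF hz
    rw [show LocCoh.depth A N = (a : ℕ∞) from ha, Nat.cast_le] at h
    exact ⟨hz, by rw [hρ, hr, show a = 0 by omega, zero_add]⟩
  · rintro ⟨hz, h⟩
    obtain ⟨d, r, a, hd, ha, hr, -, hs, hρ⟩ := exists_mod_numbers f F hF hz
    rw [hρ, hr] at h
    have := (Nat.cast_injective h : a + r = r)
    rw [show LocCoh.depth A N = (a : ℕ∞) from ha, Nat.cast_le]
    omega

end DepthLib
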