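import Groth.Agent.FlatLib.Openness
import Mathlib

/-! # Regular elements with flat quotient stay regular after base change -/

set_option autoImplicit false
universe u

open TensorProduct

namespace DepthLib

theorem exists_smul_eq_zero_of_flat_slice {A B A' B' M : Type u} [CommRing A] [CommRing B] [CommRing A'] [CommRing B'] [Algebra A B]
  [Algebra A A'] [Algebra A B'] [Algebra A' B'] [Algebra B B'] [IsScalarTower A A' B'] [IsScalarTower A B B']
  [Algebra.IsPushout A A' B B'] [AddCommGroup M] [Module B M] [Module A M] [IsScalarTower A B M]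
    (q : PrimeSpectrum B) (r : B)
    (hreg : ∀ m : M, r • m = 0 → ∃ t ∉ q.asIdeal, t • m = 0)
    (hflat : q ∈ FlatLib.flatLocus A B (M ⧸ (Ideal.span {r} • (⊤ : Submodule B M))))
    (n : B' ⊗[B] M) (hn : r • n = 0) : ∃ t ∉ q.asIdeal, t • n = 0 := by
  let T := q.asIdeal.primeCompl
  let Mq := LocalizedModule T M
  let ρ : M →ₗ[B] M := LinearMap.lsmul B M r
  let π : M →ₗ[B] M ⧸ (Ideal.span {r} • (⊤ : Submodule B M)) := Submodule.mkQ _
  have hex : Function.Exact ρ π := by
    intro m
    rw [Submodule.mkQ_apply, Submodule.Quotient.mk_eq_zero, Submodule.ideal_span_singleton_smul, Submodule.mem_smul_pointwise_iff_exists]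
    exact ⟨fun ⟨y, _, hy⟩ => ⟨y, hy⟩, fun ⟨y, hy⟩ => ⟨y, trivial, hy⟩⟩
  let g := LocalizedModule.map T ρ
  let h := LocalizedModule.map T π
  have hg : ∀ x : Mq, g x = r • x := fun x => by
    induction x using LocalizedModule.induction_on with
    | h m s =>
      simp only [g, ρ, LocalizedModule.map_mk, LinearMap.lsmul_apply]
      exact (LocalizedModule.smul'_mk (S := T) r m s).symm
  have hginj : Function.Injective g := by
    rw [injective_iff_map_eq_zero]
    intro x hx
    induction x using LocalizedModule.induction_on with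
    | h m s =>
      rw [hg, LocalizedModule.smul'_mk, ← LocalizedModule.zero_mk s, LocalizedModule.mk_eq] at hx
      obtain ⟨c, hc⟩ := hx
      obtain ⟨t, ht, htm⟩ := hreg ((c : B) • (s : B) • m) (by
        rw [smul_comm r, smul_comm r]
        simpa [Submonoid.smul_def] using hc)
      rw [← LocalizedModule.zero_mk s, LocalizedModule.mk_eq]
      exact ⟨⟨t, ht⟩ * c, by simpa [Submonoid.smul_def, mul_smul] using htm⟩
  haveI : Module.Flat A (LocalizedModule T (M ⧸ (Ideal.span {r} • (⊤ : Submodule B M)))) := hflat
  have hsurj : Function.Surjective h := LocalizedModule.map_surjective T π (Submodule.mkQ_surjective _)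
  have hinj := LinearMap.lTensor_injective_of_exact_of_flat (h.restrictScalars A) hsurj (g.restrictScalars A) hginj
    (LocalizedModule.map_exact T ρ π hex) A'
  let ψ : M ⊗[A] A' ≃+ B' ⊗[B] M :=
    ((TensorProduct.comm A M A').toAddEquiv).trans (Algebra.IsPushout.cancelBaseChange A A' B B' M).symm.toAddEquiv
  have hψ : ∀ (b : B) (z : M ⊗[A] A'), ψ (b • z) = b • ψ z := by
    intro b z
    induction z using TensorProduct.induction_on with
    | zero => simp
    | tmul m s =>
      have key : ∀ (s : A') (m : M), ψ (m ⊗ₜ[A] s) = algebraMap A' B' s ⊗ₜ[B] m := fun s m => by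
        show (Algebra.IsPushout.cancelBaseChange A A' B B' M).symm (s ⊗ₜ[A] m) = _
        exact Algebra.IsPushout.cancelBaseChangeAux_symm_tmul A A' B B' M s m
      rw [smul_tmul', key, key, tmul_smul]
    | add x y hx hy => rw [smul_add, map_add, hx, hy, map_add, smul_add]
  obtain ⟨z, rfl⟩ := ψ.surjective n
  have hz : r • z = 0 := ψ.injective (by rw [hψ, hn, map_zero])
  let L := AlgebraTensorModule.rTensor A A' (LocalizedModule.mkLinearMap T M)
  have hLz : r • L z = 0 := by rw [← map_smul, hz, map_zero]
  have h1 : L z = 0 := by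
    refine (TensorProduct.comm A Mq A').injective ((hinj ?_).trans (map_zero _).symm)
    rw [map_zero]
    have key : ∀ w : Mq ⊗[A] A', (g.restrictScalars A).lTensor A' (TensorProduct.comm A Mq A' w) =
        TensorProduct.comm A Mq A' (r • w) := by
      intro w
      induction w using TensorProduct.induction_on with
      | zero => simp
      | tmul x s =>
        rw [TensorProduct.comm_tmul, LinearMap.lTensor_tmul, smul_tmul', TensorProduct.comm_tmul,
          LinearMap.restrictScalars_apply, hg]
      | add x y hx hy => simp only [map_add, smul_add, hx, hy]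
    rw [key, hLz, map_zero]
  obtain ⟨t, ht⟩ := (IsLocalizedModule.eq_zero_iff T L).1 h1
  exact ⟨t, t.2, by rw [← hψ, show (t : B) • z = 0 from ht, map_zero]⟩

end DepthLib
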