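import Groth.Agent.DepthLib.InjOpen
import Groth.Agent.DepthLib.SliceBaseChange
import Groth.Agent.DepthLib.ModFib
import Groth.Agent.FlatLib.SectionsFP
import Groth.Agent.RpushLib.HBase
import Groth.Agent.KFlatLib.AffinePull
import Mathlib

/-! # Universal injectivity of restriction maps from the fibres -/

set_option autoImplicit false
universe u

open CategoryTheory CategoryTheory.Limits AlgebraicGeometry TensorProduct IsLocalRing

namespace DepthLib

theorem restrict_injective_baseChange {X S S' X' : Scheme.{u}} (f : X ⟶ S) (g : S' ⟶ S) (π : X' ⟶ X) (π' : X' ⟶ S')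
    (H : IsPullback π π' f g) [LocallyOfFinitePresentation f] (F : X.Modules) [Coh.IsQCoh F] (hF : CohB1.IsFP F)
    (hflat : FlatMod.IsFlatOver f F) (U : X.Opens)
    (hfib : ∀ (s : S) (V : (f.fiber s).Opens),
      Function.Injective (((Scheme.Modules.pullback (f.fiberι s)).obj F).presheaf.map
        (homOfLE (inf_le_left : V ⊓ (f.fiberι s) ⁻¹ᵁ U ≤ V)).op)) (W : X'.Opens) :
    Function.Injective (((Scheme.Modules.pullback π).obj F).presheaf.map
        (homOfLE (inf_le_left : W ⊓ π ⁻¹ᵁ U ≤ W)).op) := by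
  haveI := hF
  have hFT : CohB1.IsFT F := inferInstance
  let G := (Scheme.Modules.pullback π).obj F
  haveI : Coh.IsQCoh G := KFlatLib.isQCoh_pullback π F
  rw [injective_iff_map_eq_zero]
  intro t ht
  refine section_eq_zero_of_germ G t fun x hx => ?_
  by_contra hne
  -- a point whose ideal is minimal over the annihilator
  obtain ⟨_, ⟨W', hW', rfl⟩, hxW', hW'W⟩ :=
    X'.isBasis_affineOpens.exists_subset_of_mem_open hx W.2
  have hW'W : W' ≤ W := hW'W
  let n₀ : Γ(G, W') := G.presheaf.map (homOfLE hW'W).op t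
  let P := hW'.primeIdealOf ⟨x, hxW'⟩
  let I : Ideal Γ(X', W') := (⊥ : Submodule Γ(X', W') Γ(G, W')).colon {n₀}
  have hIP : I ≤ P.asIdeal := by
    intro b hb
    by_contra hbP
    rw [Submodule.mem_colon_singleton, Submodule.mem_bot] at hb
    letI := Module.compHom (G.presheaf.stalk x) (X'.presheaf.germ W' x hxW').hom
    haveI := FlatLib.isLocalizedModule_germLin G hW' hxW'
    refine hne ?_
    have h0 : FlatLib.germLin G hxW' n₀ = 0 :=
      (IsLocalizedModule.eq_zero_iff P.asIdeal.primeCompl _).2 ⟨⟨b, hbP⟩, hb⟩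
    exact (TopCat.Presheaf.germ_res_apply G.presheaf (homOfLE hW'W) x hxW' t).symm.trans h0
  obtain ⟨Q, hQmin, hQP⟩ := Ideal.exists_minimalPrimes_le hIP
  haveI := hQmin.1.1
  let v := hW'.fromSpec ⟨Q, hQmin.1.1⟩
  have hvW' : v ∈ W' := by
    have h1 : v ∈ Set.range hW'.fromSpec := ⟨_, rfl⟩
    rwa [hW'.range_fromSpec] at h1
  have hPv : hW'.primeIdealOf ⟨v, hvW'⟩ = ⟨Q, hQmin.1.1⟩ :=
    hW'.fromSpec.isOpenEmbedding.injective (hW'.fromSpec_primeIdealOf ⟨v, hvW'⟩)
  letI : Algebra Γ(X', W') (X'.presheaf.stalk v) := (X'.presheaf.germ W' v hvW').hom.toAlgebra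
  haveI : IsLocalization.AtPrime (X'.presheaf.stalk v) Q := by
    have h := hW'.isLocalization_stalk ⟨v, hvW'⟩
    rwa [hPv] at h
  letI := Module.compHom (G.presheaf.stalk v) (X'.presheaf.germ W' v hvW').hom
  haveI : IsScalarTower Γ(X', W') (X'.presheaf.stalk v) (G.presheaf.stalk v) :=
    IsScalarTower.of_algebraMap_smul fun _ _ => rfl
  haveI : IsLocalizedModule Q.primeCompl (FlatLib.germLin G hvW') := by
    have h := FlatLib.isLocalizedModule_germLin G hW' hvW'
    rwa [hPv] at h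
  let e := FlatLib.germLin G hvW' n₀
  have he : e ≠ 0 := by
    intro h0
    obtain ⟨c, hc⟩ := (IsLocalizedModule.eq_zero_iff Q.primeCompl _).1 h0
    exact c.2 (hQmin.1.2 (by rw [Submodule.mem_colon_singleton, Submodule.mem_bot]; exact hc))
  have hvU : π v ∉ U := by
    intro hvU
    refine he ?_
    show G.presheaf.germ W' v hvW' (G.presheaf.map (homOfLE hW'W).op t) = 0
    rw [TopCat.Presheaf.germ_res_apply]
    have := TopCat.Presheaf.germ_res_apply G.presheaf (homOfLE (inf_le_left : W ⊓ π ⁻¹ᵁ U ≤ W)) v ⟨hW'W hvW', hvU⟩ t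
    rw [← this, ht, map_zero]
  -- charts at `v`
  obtain ⟨_, ⟨U₀, hU₀, rfl⟩, hyU₀, -⟩ :=
    S.isBasis_affineOpens.exists_subset_of_mem_open (Set.mem_univ (f (π v))) isOpen_univ
  obtain ⟨V, hV, hVU, hyV, hfp⟩ := FlatLib.exists_finitePresentation_nhd hF (U := f ⁻¹ᵁ U₀) (x := π v) hyU₀
  have hw : g (π' v) = f (π v) := by
    have := congrArg (fun φ : X' ⟶ S => φ v) H.w
    simpa using this.symm
  obtain ⟨_, ⟨U₁, hU₁, rfl⟩, hyU₁, hU₁U⟩ :=
    S'.isBasis_affineOpens.exists_subset_of_mem_open (show g (π' v) ∈ (U₀ : Set S) by rw [hw]; exact hyU₀)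
      (U₀.2.preimage g.continuous)
  have hU₁U : U₁ ≤ g ⁻¹ᵁ U₀ := hU₁U
  let V' := π ⁻¹ᵁ V ⊓ π' ⁻¹ᵁ U₁
  have hV' : IsAffineOpen V' := RpushLib.isAffineOpen_fibre H hU₀ hU₁ hU₁U hV hVU
  have hvV' : v ∈ V' := ⟨hyV, hyU₁⟩
  have hpo := (RpushLib.isPushout_sections H hU₀ hU₁ hU₁U hV hVU).flip
  letI := (f.appLE U₀ V hVU).hom.toAlgebra
  letI := (g.appLE U₀ U₁ hU₁U).hom.toAlgebra
  letI : Algebra Γ(S', U₁) Γ(X', V') := (π'.appLE U₁ V' inf_le_right).hom.toAlgebra
  letI : Algebra Γ(X, V) Γ(X', V') := (π.appLE V V' inf_le_left).hom.toAlgebra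
  letI : Algebra Γ(S, U₀) Γ(X', V') := ((f.appLE U₀ V hVU) ≫ (π.appLE V V' inf_le_left)).hom.toAlgebra
  haveI : IsScalarTower Γ(S, U₀) Γ(X, V) Γ(X', V') := IsScalarTower.of_algebraMap_eq fun _ => rfl
  haveI : IsScalarTower Γ(S, U₀) Γ(S', U₁) Γ(X', V') := IsScalarTower.of_algebraMap_eq fun a =>
    (ConcreteCategory.congr_hom hpo.w a).symm
  haveI : Algebra.IsPushout Γ(S, U₀) Γ(S', U₁) Γ(X, V) Γ(X', V') := CommRingCat.isPushout_iff_isPushout.1 hpo
  haveI := hfp
  haveI : Algebra.FinitePresentation Γ(S, U₀) Γ(X, V) := f.finitePresentation_appLE hU₀ hV hVU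
  letI : Module Γ(S, U₀) Γ(F, V) := Module.compHom Γ(F, V) (algebraMap Γ(S, U₀) Γ(X, V))
  haveI : IsScalarTower Γ(S, U₀) Γ(X, V) Γ(F, V) := IsScalarTower.of_algebraMap_smul fun _ _ => rfl
  let q := hV.primeIdealOf ⟨π v, hyV⟩
  have hflq : q ∈ FlatLib.flatLocus Γ(S, U₀) Γ(X, V) Γ(F, V) :=
    (FlatLib.isFlatOverAt_iff f F U₀ hU₀ V hV hVU hyV rfl).1 (hflat (π v))
  -- a regular element in the prime
  haveI : IsLocallyNoetherian (f.fiber (f (π v))) := by
    haveI := UOpenLib.lft_fiberToSpec f (f (π v))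
    exact LocallyOfFiniteType.isLocallyNoetherian (f.fiberToSpecResidueField (f (π v)))
  have hdep : ((1 : ℕ) : ℕ∞) ≤ CInt.fiberDepth f F (π v) := by
    haveI : Coh.IsQCoh ((Scheme.Modules.pullback (f.fiberι (f (π v)))).obj F) := KFlatLib.isQCoh_pullback _ F
    haveI : Module.Finite ((f.fiber (f (π v))).presheaf.stalk (f.asFiber (π v)))
        (((Scheme.Modules.pullback (f.fiberι (f (π v)))).obj F).presheaf.stalk (f.asFiber (π v))) :=
      (supportDim_fibre_stalk f F hFT (π v)).1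
    refine one_le_depth_of_restrict_injective _ ((f.fiberι (f (π v))) ⁻¹ᵁ U) (hfib (f (π v))) (f.asFiber (π v)) ?_
    show f.fiberι (f (π v)) (f.asFiber (π v)) ∉ U
    rw [f.fiberι_asFiber]
    exact hvU
  rw [fiberDepth_eq f hU₀ hV hVU rfl F (π v) hyV] at hdep
  obtain ⟨r, hrq, hr⟩ := exists_regular_mem_of_one_le_fibDep q hdep
  obtain ⟨O, -, hqO, hO⟩ := FlatLib.slice_point q r hrq hflq hr
  obtain ⟨hrt, hrflat⟩ := hO q hqO
  -- its image is regular at `v`
  letI : Algebra Γ(X', V') (X'.presheaf.stalk v) := (X'.presheaf.germ V' v hvV').hom.toAlgebra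
  let Q' := hV'.primeIdealOf ⟨v, hvV'⟩
  have hqQ' : q.asIdeal = Q'.asIdeal.comap (algebraMap Γ(X, V) Γ(X', V')) :=
    (congrArg PrimeSpectrum.asIdeal
      (IsAffineOpen.comap_primeIdealOf_appLE (f := π) V hV V' hV' inf_le_left hvV')).symm
  let a := X'.presheaf.germ V' v hvV' (algebraMap Γ(X, V) Γ(X', V') r)
  haveI : IsLocalization.AtPrime (X'.presheaf.stalk v) Q'.asIdeal := hV'.isLocalization_stalk ⟨v, hvV'⟩
  have ha : a ∈ maximalIdeal (X'.presheaf.stalk v) := by
    refine (IsLocalization.AtPrime.to_map_mem_maximal_iff (X'.presheaf.stalk v) Q'.asIdeal _).2 ?_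
    rw [hqQ'] at hrq
    exact hrq
  have hreg : IsSMulRegular (G.presheaf.stalk v) a := by
    refine isSMulRegular_iff_right_eq_zero_of_smul.2 fun z hz => ?_
    letI := Module.compHom (G.presheaf.stalk v) (X'.presheaf.germ V' v hvV').hom
    haveI := FlatLib.isLocalizedModule_germLin G hV' hvV'
    obtain ⟨⟨n, s⟩, hns⟩ := IsLocalizedModule.surj Q'.asIdeal.primeCompl (FlatLib.germLin G hvV') z
    refine ((Module.End.isUnit_iff _).1 (IsLocalizedModule.map_units (FlatLib.germLin G hvV') s)).1 ?_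
    show (s : Γ(X', V')) • z = (s : Γ(X', V')) • (0 : G.presheaf.stalk v)
    rw [smul_zero, show (s : Γ(X', V')) • z = FlatLib.germLin G hvV' n from hns]
    have hz' : FlatLib.germLin G hvV' (algebraMap Γ(X, V) Γ(X', V') r • n) = 0 := by
      rw [map_smul, ← show (s : Γ(X', V')) • z = FlatLib.germLin G hvV' n from hns, smul_comm,
        show (algebraMap Γ(X, V) Γ(X', V') r) • z = 0 from hz, smul_zero]
    obtain ⟨c, hc⟩ := (IsLocalizedModule.eq_zero_iff Q'.asIdeal.primeCompl _).1 hz'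
    letI : Module Γ(X, V) Γ(G, V') := Module.compHom Γ(G, V') (algebraMap Γ(X, V) Γ(X', V'))
    haveI : IsScalarTower Γ(X, V) Γ(X', V') Γ(G, V') := IsScalarTower.of_algebraMap_smul fun _ _ => rfl
    let ψ : Γ(F, V) →ₗ[Γ(X, V)] Γ(G, V') :=
      { toFun := KFlatLib.puSecLE π F inf_le_left
        map_add' := map_add _
        map_smul' := fun b m => KFlatLib.puSecLE_smul π F inf_le_left b m }
    have hψ := KFlatLib.isBaseChange_puSec π F hV hV' inf_le_left (fun _ => rfl) ψ fun _ => rfl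
    have hc' : r • hψ.equiv.symm ((c : Γ(X', V')) • n) = 0 := by
      rw [← algebraMap_smul Γ(X', V') r, ← map_smul, smul_comm,
        show (c : Γ(X', V')) • algebraMap Γ(X, V) Γ(X', V') r • n = 0 from hc, map_zero]
    obtain ⟨t', ht', htn⟩ :=
      exists_smul_eq_zero_of_flat_slice (A := Γ(S, U₀)) (A' := Γ(S', U₁)) (B' := Γ(X', V')) q r hrt hrflat _ hc'
    have htn' : algebraMap Γ(X, V) Γ(X', V') t' • (c : Γ(X', V')) • n = 0 := by
      rw [← algebraMap_smul Γ(X', V') t', ← map_smul, ← map_zero hψ.equiv.symm] at htn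
      exact hψ.equiv.symm.injective htn
    refine (IsLocalizedModule.eq_zero_iff Q'.asIdeal.primeCompl _).2
      ⟨⟨algebraMap Γ(X, V) Γ(X', V') t' * c, fun h => (Q'.isPrime.mem_or_mem h).elim (fun h' => ?_) c.2⟩, ?_⟩
    · rw [hqQ'] at ht'
      exact ht' h'
    · rw [Submonoid.smul_def]
      show (algebraMap Γ(X, V) Γ(X', V') t' * (c : Γ(X', V'))) • n = 0
      rw [mul_smul]
      exact htn'
  -- but `a` lies in the minimal prime of the annihilator of the germ
  let N := Submodule.span (X'.presheaf.stalk v) ({e} : Set (G.presheaf.stalk v))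
  have hregN : IsSMulRegular N a := fun y z h => Subtype.ext (hreg (congrArg Subtype.val h))
  refine hregN.notMem_of_mem_minimalPrimes ⟨⟨inferInstance, ?_⟩, fun p' hp' _ => ?_⟩ ha
  · refine le_maximalIdeal fun htop => he ?_
    have h1 : (1 : X'.presheaf.stalk v) ∈ Module.annihilator (X'.presheaf.stalk v) N := htop ▸ trivial
    exact (one_smul _ e).symm.trans (congrArg Subtype.val (Module.mem_annihilator.1 h1 ⟨e, Submodule.mem_span_singleton_self e⟩))
  · haveI := hp'.1
    have hQle : Q ≤ p'.comap (algebraMap Γ(X', W') (X'.presheaf.stalk v)) := by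
      refine hQmin.2 ⟨inferInstance, fun b hb => hp'.2 (Module.mem_annihilator.2 ?_)⟩ ?_
      · rintro ⟨y, hy⟩
        obtain ⟨c, rfl⟩ := Submodule.mem_span_singleton.1 hy
        refine Subtype.ext ?_
        show algebraMap Γ(X', W') (X'.presheaf.stalk v) b • c • e = 0
        rw [Submodule.mem_colon_singleton, Submodule.mem_bot] at hb
        rw [smul_comm, algebraMap_smul, ← map_smul, hb, map_zero, smul_zero]
      · intro b hb
        by_contra hbQ
        exact hp'.1.ne_top (Ideal.eq_top_of_isUnit_mem _ hb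
          (IsLocalization.map_units (X'.presheaf.stalk v) (⟨b, hbQ⟩ : Q.primeCompl)))
    rw [← IsLocalization.AtPrime.map_eq_maximalIdeal Q (X'.presheaf.stalk v), Ideal.map_le_iff_le_comap]
    exact hQle

end DepthLib
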