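import Groth.Agent.DepthLib.ModFib
import Groth.Prelude.Def_EGA4b
import Mathlib

/-! # Loci of points defined by the associated points and `(S_k)` of the fibre modules -/

set_option autoImplicit false
universe u

open CategoryTheory AlgebraicGeometry Topology UOpenLib IsLocalRing

namespace DepthLib

variable {X S : Scheme.{u}} (f : X ⟶ S) (F : X.Modules)

/-- The dimensions of a closure in a fibre split at every point. -/
theorem closureDim_formula [LocallyOfFiniteType f] {ζ x : X} (hf : f.base ζ = f.base x) (hζ : ζ ⤳ x) :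
    ∃ c r : ℕ, topologicalKrullDim ↥{v : X | ζ ⤳ v ∧ v ⤳ x ∧ f.base v = f.base x} = (c : WithBot ℕ∞) ∧
      fibreClosureDim f x = (r : WithBot ℕ∞) ∧ fibreClosureDim f ζ = ((c + r : ℕ) : WithBot ℕ∞) ∧ (ζ ≠ x → 1 ≤ c) := by
  let T : TopologicalSpace.Closeds X := ⟨closure {ζ}, isClosed_closure⟩
  let j := (Scheme.IdealSheafData.vanishingIdeal T).subschemeι
  have hrange : Set.range j.base = closure {ζ} := by
    rw [Scheme.IdealSheafData.range_subschemeι, Scheme.IdealSheafData.coe_support_vanishingIdeal]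
    rfl
  obtain ⟨v₀, hv₀⟩ : ζ ∈ Set.range j.base := hrange ▸ subset_closure rfl
  obtain ⟨w, rfl⟩ : x ∈ Set.range j.base := hrange ▸ hζ.mem_closure
  let g := j ≫ f
  obtain ⟨c, r, hc, hr, he⟩ := exists_fibre_numbers g w
  replace hr : fibreClosureDim g w = (r : WithBot ℕ∞) := hr
  have hfd : FlatMor.fibreDimAt g w = fibreClosureDim f ζ := by
    refine le_antisymm ?_ ?_
    · obtain ⟨v, hfv, hvw, -, hd⟩ := exists_max_fibreDimAt g w
      rw [← hd, fibreClosureDim_comp_closed]
      refine fibreClosureDim_mono f (specializes_iff_mem_closure.2 (hrange ▸ ⟨v, rfl⟩)) ?_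
      exact hf.trans hfv.symm
    · refine le_trans (le_of_eq ?_) (fibreClosureDim_le_fibreDimAt g (ζ := v₀) (j.isEmbedding.isInducing.specializes_iff.1 ?_))
      · rw [fibreClosureDim_comp_closed, hv₀]
      · rw [hv₀]; exact hζ
  let y := g.asFiber w
  let ι := g.fiberι (g.base w)
  let i : PrimeSpectrum ((g.fiber (g.base w)).presheaf.stalk y) → X := (j ∘ ι) ∘ EquidimLib.stalkPt y
  have hi : Set.range i = {v : X | ζ ⤳ v ∧ v ⤳ j w ∧ f.base v = f.base (j w)} := by
    rw [Set.range_comp, EquidimLib.range_stalkPt]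
    ext v
    constructor
    · rintro ⟨a, ha, rfl⟩
      have h1 := (ha.map ι.continuous).map j.continuous
      rw [g.fiberι_asFiber] at h1
      exact ⟨specializes_iff_mem_closure.2 (hrange ▸ ⟨_, rfl⟩), h1, (g.range_fiberι _).le ⟨a, rfl⟩⟩
    · rintro ⟨hζv, hvx, hfv⟩
      obtain ⟨b, rfl⟩ : v ∈ Set.range j.base := hrange ▸ hζv.mem_closure
      obtain ⟨a, rfl⟩ : b ∈ Set.range ι := by rw [g.range_fiberι]; exact hfv
      refine ⟨a, ι.isEmbedding.isInducing.specializes_iff.1 ?_, rfl⟩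
      rw [g.fiberι_asFiber]
      exact j.isEmbedding.isInducing.specializes_iff.1 hvx
  have hdim : ringKrullDim ((g.fiber (g.base w)).presheaf.stalk y) =
      topologicalKrullDim ↥{v : X | ζ ⤳ v ∧ v ⤳ j w ∧ f.base v = f.base (j w)} :=
    EquidimLib.dim_eq_of_range ((j.isEmbedding.isInducing.comp ι.isEmbedding.isInducing).comp
      (EquidimLib.isInducing_stalkPt y)) hi
  refine ⟨c, r, hdim.symm.trans hc, (fibreClosureDim_comp_closed f j w).symm.trans hr, hfd.symm.trans he, fun hne => ?_⟩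
  by_contra hlt
  rw [show c = 0 by omega] at hc
  haveI : Ring.KrullDimLE 0 ((g.fiber (g.base w)).presheaf.stalk y) :=
    (Ring.krullDimLE_iff (n := 0)).2 hc.le
  obtain ⟨p, hp⟩ : ζ ∈ Set.range i := hi ▸ ⟨specializes_rfl, hζ, hf⟩
  obtain ⟨q, hq⟩ : j w ∈ Set.range i := hi ▸ ⟨hζ, specializes_rfl, rfl⟩
  refine hne (hp.symm.trans ((congrArg i (PrimeSpectrum.ext ?_)).trans hq))
  exact ((eq_maximalIdeal (Ideal.IsPrime.isMaximal' p.isPrime))).trans (eq_maximalIdeal (Ideal.IsPrime.isMaximal' q.isPrime)).symm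

/-- A generization in the fibre of `x`, inside the closure of `z'`, with a large closure. -/
theorem exists_spread [LocallyOfFinitePresentation f] {z' x : X} (h : z' ⤳ x) {r' : ℕ}
    (hr' : fibreClosureDim f z' = (r' : WithBot ℕ∞)) :
    ∃ z : X, f.base z = f.base x ∧ z ⤳ x ∧ z' ⤳ z ∧ (r' : WithBot ℕ∞) ≤ fibreClosureDim f z := by
  let T : TopologicalSpace.Closeds X := ⟨closure {z'}, isClosed_closure⟩
  let j := (Scheme.IdealSheafData.vanishingIdeal T).subschemeι
  have hrange : Set.range j.base = closure {z'} := by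
    rw [Scheme.IdealSheafData.range_subschemeι, Scheme.IdealSheafData.coe_support_vanishingIdeal]
    rfl
  obtain ⟨w', hw'⟩ : z' ∈ Set.range j.base := hrange ▸ subset_closure rfl
  obtain ⟨w, hw⟩ : x ∈ Set.range j.base := hrange ▸ h.mem_closure
  have hsp : w' ⤳ w := j.isEmbedding.isInducing.specializes_iff.1 (by rw [hw', hw]; exact h)
  have hr : (r' : WithBot ℕ∞) ≤ FlatMor.fibreDimAt (j ≫ f) w := by
    refine le_trans ?_ (fibreClosureDim_le_fibreDimAt (j ≫ f) hsp)
    rw [fibreClosureDim_comp_closed, hw', hr']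
  obtain ⟨z, hzT, hfz, hzx, hrz⟩ : x ∈ fibWit f (closure {z'}) r' := by
    rw [← hrange, fibWit_range]
    exact ⟨w, hr, hw⟩
  exact ⟨z, hfz, hzx, specializes_iff_mem_closure.2 hzT, hrz⟩

/-- Locally constructible sets stable under generization are open. -/
theorem isOpen_of_generization {G : Set X} (hc : IsLocallyConstructible G)
    (hgen : ∀ {x' x : X}, x' ⤳ x → x ∈ G → x' ∈ G) : IsOpen G := by
  rw [isOpen_iff_forall_mem_open]
  intro x hx
  obtain ⟨_, ⟨V, hV, rfl⟩, hxV, -⟩ :=
    X.isBasis_affineOpens.exists_subset_of_mem_open (Set.mem_univ x) isOpen_univ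
  have hc' : IsConstructible (hV.fromSpec.base ⁻¹' G) :=
    (ConsLib.isLocallyConstructible_preimage hV.fromSpec hc).isConstructible
  have ho : IsOpen (hV.fromSpec.base ⁻¹' G) := by
    rw [← isClosed_compl_iff]
    refine isClosed_of_closure_subset fun b hb hbG => ?_
    obtain ⟨a, ha, hab⟩ := Groth.Agent.ProConsLib.exists_specializes_of_mem_closure
      (Groth.Agent.ProConsLib.isClopen_cons_of_isConstructible hc'.compl).1 hb
    exact ha (hgen (hab.map hV.fromSpec.continuous) hbG)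
  refine ⟨hV.fromSpec '' (hV.fromSpec.base ⁻¹' G), Set.image_preimage_subset _ _,
    hV.fromSpec.isOpenEmbedding.isOpenMap _ ho, hV.primeIdealOf ⟨x, hxV⟩, ?_, hV.fromSpec_primeIdealOf ⟨x, hxV⟩⟩
  show hV.fromSpec (hV.primeIdealOf ⟨x, hxV⟩) ∈ G
  rw [hV.fromSpec_primeIdealOf]
  exact hx

/-- What the spread of a point of the support keeps: dimension, rectified depth. -/
theorem spread_numbers [LocallyOfFinitePresentation f] [Coh.IsQCoh F] (hF : CohB1.IsFP F) (hFT : CohB1.IsFT F)
    (hflat : FlatMod.IsFlatOver f F) {z' z : X} (hz' : z' ∈ CohB1.support F) (hsp : z' ⤳ z) :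
    ∀ {e' ρ' e ρ : ℕ}, suppDimAt f F z' = (e' : WithBot ℕ∞) → rectDepth f F z' = (ρ' : WithBot ℕ∞) →
      suppDimAt f F z = (e : WithBot ℕ∞) → rectDepth f F z = (ρ : WithBot ℕ∞) → e' ≤ e ∧ ρ ≤ ρ' := by
  intro e' ρ' e ρ he' hρ' he hρ
  refine ⟨?_, ?_⟩
  · have := suppDimAt_le_of_specializes f F hFT hsp
    rw [he', he, Nat.cast_le] at this
    exact this
  · have h := hsp.mem_open (isOpen_le_rectDepth f F hF hflat ρ) (show ((ρ : ℕ) : WithBot ℕ∞) ≤ rectDepth f F z from hρ.ge)
    rw [Set.mem_setOf_eq, hρ', Nat.cast_le] at h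
    exact h

/-- Generizations of points with `(S_k)` fibre module have `(S_k)` fibre module. -/
theorem hasSk_mod_of_specializes [LocallyOfFinitePresentation f] [Coh.IsQCoh F] (hF : CohB1.IsFP F)
    (hFT : CohB1.IsFT F) (hflat : FlatMod.IsFlatOver f F) (k : ℕ) {x' x : X} (h : x' ⤳ x)
    (hx : LocCoh.HasSk k ((f.fiber (f.base x)).presheaf.stalk (f.asFiber x))
      (((Scheme.Modules.pullback (f.fiberι (f.base x))).obj F).presheaf.stalk (f.asFiber x))) :
    LocCoh.HasSk k ((f.fiber (f.base x')).presheaf.stalk (f.asFiber x'))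
      (((Scheme.Modules.pullback (f.fiberι (f.base x'))).obj F).presheaf.stalk (f.asFiber x')) := by
  by_contra hbad
  obtain ⟨z', -, hz'x', hz's, e', ρ', r', he', hρ', hr', h1, h2⟩ := (not_hasSk_mod_iff f F hFT k x').1 hbad
  obtain ⟨z, hfz, hzx, hz'z, hrz⟩ := exists_spread f (hz'x'.trans h) hr'
  have hzs : z ∈ CohB1.support F := hz'z.mem_closed (QCohLib.isClosed_support F hFT) hz's
  obtain ⟨d, r, a, -, -, hr, -, he, hρ⟩ := exists_mod_numbers f F hFT hzs
  rw [hr, Nat.cast_le] at hrz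
  obtain ⟨h3, h4⟩ := spread_numbers f F hF hFT hflat hz's hz'z he' hρ' he hρ
  exact (not_hasSk_mod_iff f F hFT k x).2 ⟨z, hfz, hzx, hzs, d + r, a + r, r, he, hρ, hr, by omega, by omega⟩ hx

/-- Associated points of the fibre modules spread to associated points with closures of the same dimension. -/
theorem exists_spread_ass [LocallyOfFinitePresentation f] [Coh.IsQCoh F] (hF : CohB1.IsFP F)
    (hFT : CohB1.IsFT F) (hflat : FlatMod.IsFlatOver f F) {ζ x : X} (h : ζ ⤳ x) (hζs : ζ ∈ CohB1.support F)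
    (hζ : rectDepth f F ζ = fibreClosureDim f ζ) :
    ∃ z : X, f.base z = f.base x ∧ z ⤳ x ∧ ζ ⤳ z ∧ z ∈ CohB1.support F ∧
      rectDepth f F z = fibreClosureDim f z ∧ fibreClosureDim f z = fibreClosureDim f ζ := by
  obtain ⟨d', r', a', -, -, hr', -, he', hρ'⟩ := exists_mod_numbers f F hFT hζs
  obtain ⟨z, hfz, hzx, hζz, hrz⟩ := exists_spread f h hr'
  have hzs : z ∈ CohB1.support F := hζz.mem_closed (QCohLib.isClosed_support F hFT) hζs
  obtain ⟨d, r, a, -, -, hr, -, he, hρ⟩ := exists_mod_numbers f F hFT hzs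
  rw [hr, Nat.cast_le] at hrz
  obtain ⟨-, h4⟩ := spread_numbers f F hF hFT hflat hζs hζz he' hρ' he hρ
  rw [hρ', hr'] at hζ
  have : a' + r' = r' := Nat.cast_injective hζ
  exact ⟨z, hfz, hzx, hζz, hzs, by rw [hρ, hr, show a = 0 by omega, zero_add],
    by rw [hr, hr', show r = r' by omega]⟩

/-- A maximal point of the support in a fibre, with closure of the full dimension. -/
theorem exists_max_supp [LocallyOfFinitePresentation f] [Coh.IsQCoh F] (hFT : CohB1.IsFT F) {x : X}
    (hx : x ∈ CohB1.support F) :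
    ∃ ζ : X, f.base ζ = f.base x ∧ ζ ⤳ x ∧ ζ ∈ CohB1.support F ∧ suppDimAt f F ζ = fibreClosureDim f ζ ∧
      rectDepth f F ζ = fibreClosureDim f ζ ∧ fibreClosureDim f ζ = suppDimAt f F x := by
  obtain ⟨d, r, a, -, -, -, -, he, -⟩ := exists_mod_numbers f F hFT hx
  obtain ⟨ζ, hζs, hfζ, hζx, hrζ⟩ := (le_suppDimAt_iff f F hFT x (d + r)).1 he.ge
  obtain ⟨d', r', a', -, -, hr', ha', he', hρ'⟩ := exists_mod_numbers f F hFT hζs
  have h1 := suppDimAt_le_of_specializes f F hFT hζx
  rw [he', he, Nat.cast_le] at h1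
  rw [hr', Nat.cast_le] at hrζ
  exact ⟨ζ, hfζ, hζx, hζs, by rw [he', hr', show d' = 0 by omega, zero_add],
    by rw [hρ', hr', show a' = 0 by omega, zero_add], by rw [hr', he, show r' = d + r by omega]⟩

/-- Equidimensionality of the fibre module at a point. -/
theorem isEquidimModule_fibre_iff [LocallyOfFinitePresentation f] [Coh.IsQCoh F] (hFT : CohB1.IsFT F) (x : X) :
    EGA4.IsEquidimModule ((f.fiber (f.base x)).presheaf.stalk (f.asFiber x))
        (((Scheme.Modules.pullback (f.fiberι (f.base x))).obj F).presheaf.stalk (f.asFiber x)) ↔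
      ∀ z : X, f.base z = f.base x → z ⤳ x → z ∈ CohB1.support F → suppDimAt f F z = suppDimAt f F x := by
  let ι := f.fiberι (f.base x)
  let y := f.asFiber x
  let A := (f.fiber (f.base x)).presheaf.stalk y
  let N := ((Scheme.Modules.pullback ι).obj F).presheaf.stalk y
  haveI : Module.Finite A N := (supportDim_fibre_stalk f F hFT x).1
  have hιy : ι y = x := f.fiberι_asFiber x
  have hann : ∀ p : PrimeSpectrum A, Module.annihilator A N ≤ p.asIdeal ↔ ι (EquidimLib.stalkPt y p) ∈ CohB1.support F := by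
    intro p
    rw [← SetLike.coe_subset_coe, ← PrimeSpectrum.mem_zeroLocus, ← Module.support_eq_zeroLocus]
    haveI := lft_fiberToSpec f (f.base x)
    haveI : IsLocallyNoetherian (f.fiber (f.base x)) :=
      LocallyOfFiniteType.isLocallyNoetherian (f.fiberToSpecResidueField (f.base x))
    have hinv := (localized_stalk_invariants ι F hFT y p).1
    have h0 : p ∈ Module.support A N ↔ Module.supportDim (Localization.AtPrime p.asIdeal)
        (LocalizedModule p.asIdeal.primeCompl N) ≠ ⊥ := by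
      rw [Module.mem_support_iff, Module.supportDim_ne_bot_iff_nontrivial]
    rw [h0, hinv]
    set w := EquidimLib.stalkPt y p
    have hkey : ∀ (s : S) (w : f.fiber s), Module.supportDim ((f.fiber s).presheaf.stalk w)
        (((Scheme.Modules.pullback (f.fiberι s)).obj F).presheaf.stalk w) ≠ ⊥ ↔ f.fiberι s w ∈ CohB1.support F := by
      intro s w
      have hs : f (f.fiberι s w) = s := (f.range_fiberι s).le ⟨w, rfl⟩
      generalize hx : f.fiberι s w = z at hs ⊢
      subst hs
      obtain rfl : w = f.asFiber z := (f.fiberι (f z)).isEmbedding.injective (by rw [hx, f.fiberι_asFiber])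
      refine ⟨fun h => by_contra fun hz => h (supportDim_fibre_eq_bot f F hFT hz), fun hz => ?_⟩
      obtain ⟨d, r, a, hd, -⟩ := exists_mod_numbers f F hFT hz
      rw [hd]; exact WithBot.coe_ne_bot
    exact hkey _ w
  have hquot : ∀ (p : PrimeSpectrum A), ∃ c r : ℕ, ringKrullDim (A ⧸ p.asIdeal) = (c : WithBot ℕ∞) ∧
      fibreClosureDim f x = (r : WithBot ℕ∞) ∧
      fibreClosureDim f (ι (EquidimLib.stalkPt y p)) = ((c + r : ℕ) : WithBot ℕ∞) := by
    intro p
    have hsp : ι (EquidimLib.stalkPt y p) ⤳ x := ((EquidimLib.stalkPt_specializes y p).map ι.continuous).trans (specializes_of_eq hιy)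
    obtain ⟨c, r, hc, hr, hcr, -⟩ := closureDim_formula f ((f.range_fiberι _).le ⟨_, rfl⟩) hsp
    refine ⟨c, r, ?_, hr, hcr⟩
    rw [← hc]
    refine EquidimLib.dim_eq_of_range (i := ι ∘ (EquidimLib.stalkPt y ∘ PrimeSpectrum.comap (Ideal.Quotient.mk p.asIdeal)))
      (ι.isEmbedding.isInducing.comp ((EquidimLib.isInducing_stalkPt y).comp
        (PrimeSpectrum.isClosedEmbedding_comap_of_surjective _ _ Ideal.Quotient.mk_surjective).isInducing)) ?_
    rw [Set.range_comp, Set.range_comp (EquidimLib.stalkPt y), EquidimLib.comap_mk_range]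
    ext v
    constructor
    · rintro ⟨_, ⟨q, hq, rfl⟩, rfl⟩
      exact ⟨(EquidimLib.specializes_stalkPt hq).map ι.continuous,
        ((EquidimLib.stalkPt_specializes y q).map ι.continuous).trans (specializes_of_eq hιy), (f.range_fiberι _).le ⟨_, rfl⟩⟩
    · rintro ⟨h1, h2, h3⟩
      obtain ⟨b, rfl⟩ : v ∈ Set.range ι := by rw [f.range_fiberι]; exact h3
      obtain ⟨q, rfl⟩ := EquidimLib.exists_stalkPt (show b ⤳ y from ι.isEmbedding.isInducing.specializes_iff.1 (hιy.symm ▸ h2))
      exact ⟨_, ⟨q, EquidimLib.le_of_stalkPt (ι.isEmbedding.isInducing.specializes_iff.1 h1), rfl⟩, rfl⟩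
  constructor
  · intro h z hfz hzx hzs
    refine le_antisymm (suppDimAt_le_of_specializes f F hFT hzx) ?_
    obtain ⟨b, rfl⟩ : z ∈ Set.range ι := by rw [f.range_fiberι]; exact hfz
    obtain ⟨q, rfl⟩ := EquidimLib.exists_stalkPt (show b ⤳ y from ι.isEmbedding.isInducing.specializes_iff.1 (hιy.symm ▸ hzx))
    obtain ⟨P, hP, hPq⟩ := Ideal.exists_minimalPrimes_le ((hann q).2 hzs)
    let p : PrimeSpectrum A := ⟨P, hP.1.1⟩
    obtain ⟨c, r, hc, hr, hcr⟩ := hquot p
    have hxs : x ∈ CohB1.support F := hzx.mem_closed (QCohLib.isClosed_support F hFT) hzs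
    obtain ⟨d, r₀, a, hd, -, hr₀, -, he, -⟩ := exists_mod_numbers f F hFT hxs
    have h1 := h P hP
    rw [show ringKrullDim (A ⧸ P) = (c : WithBot ℕ∞) from hc, hd] at h1
    have e1 : c = d := Nat.cast_injective h1
    have e2 : r = r₀ := Nat.cast_injective (hr.symm.trans hr₀)
    rw [he, ← e1, ← e2, le_suppDimAt_iff f F hFT]
    exact ⟨_, (hann p).1 hP.1.2, (f.range_fiberι _).le ⟨_, rfl⟩ |>.trans hfz.symm,
      (EquidimLib.specializes_stalkPt (show p ≤ q from hPq)).map ι.continuous, hcr.ge⟩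
  · intro h P hP
    let p : PrimeSpectrum A := ⟨P, hP.1.1⟩
    have hζs := (hann p).1 hP.1.2
    have hζx : ι (EquidimLib.stalkPt y p) ⤳ x := ((EquidimLib.stalkPt_specializes y p).map ι.continuous).trans (specializes_of_eq hιy)
    have hfζ : f.base (ι (EquidimLib.stalkPt y p)) = f.base x := (f.range_fiberι _).le ⟨_, rfl⟩
    obtain ⟨c, r, hc, hr, hcr⟩ := hquot p
    obtain ⟨v, hfv, hvζ, hvs, -, -, hv⟩ := exists_max_supp f F hFT hζs
    obtain ⟨b, rfl⟩ : v ∈ Set.range ι := by rw [f.range_fiberι]; exact hfv.trans hfζ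
    obtain ⟨q, rfl⟩ := EquidimLib.exists_stalkPt
      (show b ⤳ y from ι.isEmbedding.isInducing.specializes_iff.1 (hιy.symm ▸ hvζ.trans hζx))
    have hqp : q = p := by
      have h1 : q ≤ p := EquidimLib.le_of_stalkPt (ι.isEmbedding.isInducing.specializes_iff.1 hvζ)
      exact le_antisymm h1 (hP.2 ⟨q.isPrime, (hann q).2 hvs⟩ h1)
    subst hqp
    have hxs : x ∈ CohB1.support F := hζx.mem_closed (QCohLib.isClosed_support F hFT) hζs
    obtain ⟨d, r₀, a, hd, -, hr₀, -, he, -⟩ := exists_mod_numbers f F hFT hxs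
    have h2 := hv.trans (h _ hfζ hζx hζs)
    rw [hcr, he] at h2
    have e1 : c + r = d + r₀ := Nat.cast_injective h2
    have e2 : r = r₀ := Nat.cast_injective (hr.symm.trans hr₀)
    show ringKrullDim (A ⧸ P) = Module.supportDim A N
    rw [show ringKrullDim (A ⧸ P) = (c : WithBot ℕ∞) from hc, show Module.supportDim A N = (d : WithBot ℕ∞) from hd,
      show c = d by omega]

end DepthLib
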