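import Mathlib

/-! # Open loci of fibres of proper morphisms from open loci of points -/

set_option autoImplicit false
universe u

open CategoryTheory AlgebraicGeometry

namespace DepthLib

variable {X Y : Scheme.{u}} (f : X ⟶ Y)

/-- A condition on all points of a fibre, read on the points of the source. -/
theorem forall_fiber_iff (P : ∀ (s : Y), ↥(f.fiber s) → Prop) (y : Y) :
    (∀ z, P y z) ↔ ∀ x : X, f.base x = y → P (f.base x) (f.asFiber x) := by
  constructor
  · rintro h x rfl
    exact h _
  · intro h z
    have hs : f (f.fiberι y z) = y := (f.range_fiberι y).le ⟨z, rfl⟩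
    have h' := h (f.fiberι y z) hs
    revert h'
    generalize hx : f.fiberι y z = x at hs
    subst hs
    obtain rfl : z = f.asFiber x := (f.fiberι (f x)).isEmbedding.injective (by rw [hx, f.fiberι_asFiber])
    exact id

/-- For a closed map the set of points whose fibre satisfies an open condition everywhere is open. -/
theorem isOpen_forall_fiber [IsProper f] (P : ∀ (s : Y), ↥(f.fiber s) → Prop)
    (h : IsOpen {x : X | P (f.base x) (f.asFiber x)}) : IsOpen {y : Y | ∀ z, P y z} := by
  have heq : {y : Y | ∀ z, P y z} = (f '' {x : X | P (f.base x) (f.asFiber x)}ᶜ)ᶜ := by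
    ext y
    simp only [Set.mem_setOf_eq, forall_fiber_iff f P y, Set.mem_compl_iff, Set.mem_image, not_exists, not_and]
    exact ⟨fun h x hx hxy => hx (h x hxy), fun h x hxy => by_contra fun hx => h x hx hxy⟩
  rw [heq]
  exact (f.isClosedMap _ h.isClosed_compl).isOpen_compl

end DepthLib
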