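import Groth.Agent.DepthLib.ModLoci
import Groth.Agent.DepthLib.ProperLocus
import Mathlib

/-! # Open loci of fibre modules -/

set_option autoImplicit false
universe u

open CategoryTheory AlgebraicGeometry Topology UOpenLib IsLocalRing

namespace DepthLib

variable {X S : Scheme.{u}} (f : X ⟶ S) (F : X.Modules)

/-- A countable union of constructible sets, bounded by the dimension of the fibres. -/
theorem isLocallyConstructible_iUnion_of_bounded [LocallyOfFinitePresentation f] (E : ℕ → Set X)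
    (hE : ∀ e, IsLocallyConstructible (E e))
    (hb : ∀ (y : X) (e : ℕ), y ∈ E e → (e : WithBot ℕ∞) ≤ FlatMor.fibreDimAt f y) :
    IsLocallyConstructible (⋃ e, E e) := by
  refine isLocallyConstructible_of_chart fun x => ?_
  obtain ⟨_, ⟨V, hV, rfl⟩, hxV, -⟩ :=
    X.isBasis_affineOpens.exists_subset_of_mem_open (Set.mem_univ x) isOpen_univ
  refine ⟨V, hV, hxV, ?_⟩
  let O : ℕ → Set X := fun e => {y : X | FlatMor.fibreDimAt f y ≤ (e : WithBot ℕ∞)}
  have hcov : (V : Set X) ⊆ ⋃ e : ℕ, O e := fun y _ => by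
    obtain ⟨e, he⟩ := exists_fibreDimAt_eq_nat f y
    exact Set.mem_iUnion.2 ⟨e, he.le⟩
  obtain ⟨t, ht⟩ := hV.isCompact.elim_finite_subcover O (fun e => FibDimLib.isOpen_fibreDimAt_le f _) hcov
  refine ⟨hV.fromSpec ⁻¹' (⋃ e ∈ Finset.range (t.sup id + 1), E e),
    ConsLib.isLocallyConstructible_preimage hV.fromSpec (isLocallyConstructible_biUnion _ E fun e _ => hE e),
    fun Q => ?_⟩
  have hyV : hV.fromSpec Q ∈ V := by
    have h1 : hV.fromSpec Q ∈ Set.range hV.fromSpec := ⟨Q, rfl⟩
    rwa [hV.range_fromSpec] at h1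
  constructor
  · intro h
    obtain ⟨e, he⟩ := Set.mem_iUnion.1 h
    obtain ⟨e', he', hye⟩ := Set.mem_iUnion₂.1 (ht hyV)
    have h1 := (hb _ e he).trans hye
    rw [Nat.cast_le] at h1
    exact Set.mem_iUnion₂.2 ⟨e, Finset.mem_range.2 (Nat.lt_succ_of_le (h1.trans (Finset.le_sup (f := id) he'))), he⟩
  · intro h
    obtain ⟨e, -, he⟩ := Set.mem_iUnion₂.1 h
    exact Set.mem_iUnion.2 ⟨e, he⟩

theorem le_fibreDimAt_of_suppDimAt [LocallyOfFinitePresentation f] [Coh.IsQCoh F] (hFT : CohB1.IsFT F) {z y : X}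
    (hzy : z ⤳ y) {e : ℕ} (he : suppDimAt f F z = (e : WithBot ℕ∞)) : (e : WithBot ℕ∞) ≤ FlatMor.fibreDimAt f y := by
  obtain ⟨w, -, -, hwz, hw⟩ := (le_suppDimAt_iff f F hFT z e).1 he.ge
  exact hw.trans (fibreClosureDim_le_fibreDimAt f (hwz.trans hzy))

/-- The points with `(S_k)` fibre module form a locally constructible set. -/
theorem isLocallyConstructible_hasSk_mod [LocallyOfFinitePresentation f] [Coh.IsQCoh F] (hF : CohB1.IsFP F)
    (hFT : CohB1.IsFT F) (k : ℕ) :
    IsLocallyConstructible {x : X | LocCoh.HasSk k ((f.fiber (f.base x)).presheaf.stalk (f.asFiber x))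
      (((Scheme.Modules.pullback (f.fiberι (f.base x))).obj F).presheaf.stalk (f.asFiber x))} := by
  let L : ℕ → ℕ → Set X := fun e ρ => CohB1.support F ∩ ({z | suppDimAt f F z = (e : WithBot ℕ∞)} ∩
    {z | rectDepth f F z = ((ρ : ℕ∞) : WithBot ℕ∞)})
  let E : ℕ → Set X := fun e => ⋃ ρ ∈ Finset.range e, fibWit f (L e ρ) (ρ + 1 - k)
  have h : {x : X | LocCoh.HasSk k ((f.fiber (f.base x)).presheaf.stalk (f.asFiber x))
      (((Scheme.Modules.pullback (f.fiberι (f.base x))).obj F).presheaf.stalk (f.asFiber x))} = (⋃ e, E e)ᶜ := by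
    ext x
    rw [Set.mem_setOf_eq, ← not_iff_not, Set.mem_compl_iff, not_not, not_hasSk_mod_iff f F hFT k x]
    constructor
    · rintro ⟨z, hfz, hzx, hzs, e, ρ, r, he, hρ, hr, h1, h2⟩
      refine Set.mem_iUnion.2 ⟨e, Set.mem_iUnion₂.2 ⟨ρ, Finset.mem_range.2 h1, z, ⟨hzs, he, hρ⟩, hfz, hzx, ?_⟩⟩
      rw [hr, Nat.cast_le]; omega
    · intro h
      obtain ⟨e, h⟩ := Set.mem_iUnion.1 h
      obtain ⟨ρ, h1, z, ⟨hzs, he, hρ⟩, hfz, hzx, hm⟩ := Set.mem_iUnion₂.1 h
      obtain ⟨r, hr⟩ := exists_fibreClosureDim_eq_nat f z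
      rw [hr, Nat.cast_le] at hm
      exact ⟨z, hfz, hzx, hzs, e, ρ, r, he, hρ, hr, Finset.mem_range.1 h1, by omega⟩
  rw [h]
  refine isLocallyConstructible_compl (isLocallyConstructible_iUnion_of_bounded f E (fun e =>
    isLocallyConstructible_biUnion _ _ fun ρ _ => isLocallyConstructible_fibWit f
      ((isLocallyConstructible_support f F hF hFT).inter ((isLocallyConstructible_suppDimAt_eq f F hF hFT e).inter
        (isLocallyConstructible_rectDepth_eq f F hF ρ))) _) fun y e hy => ?_)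
  obtain ⟨ρ, -, z, ⟨-, he, -⟩, -, hzy, -⟩ := Set.mem_iUnion₂.1 hy
  exact le_fibreDimAt_of_suppDimAt f F hFT hzy he

/-- The points with equidimensional fibre module form a locally constructible set. -/
theorem isLocallyConstructible_equidimModule [LocallyOfFinitePresentation f] [Coh.IsQCoh F] (hF : CohB1.IsFP F)
    (hFT : CohB1.IsFT F) :
    IsLocallyConstructible {x : X | EGA4.IsEquidimModule ((f.fiber (f.base x)).presheaf.stalk (f.asFiber x))
      (((Scheme.Modules.pullback (f.fiberι (f.base x))).obj F).presheaf.stalk (f.asFiber x))} := by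
  let E : ℕ → Set X := fun e => {x | suppDimAt f F x = (e : WithBot ℕ∞)} ∩
    ⋃ a ∈ Finset.range e, fibWit f {z | suppDimAt f F z = (a : WithBot ℕ∞)} 0
  have h : {x : X | EGA4.IsEquidimModule ((f.fiber (f.base x)).presheaf.stalk (f.asFiber x))
      (((Scheme.Modules.pullback (f.fiberι (f.base x))).obj F).presheaf.stalk (f.asFiber x))} = (⋃ e, E e)ᶜ := by
    ext x
    rw [Set.mem_setOf_eq, isEquidimModule_fibre_iff f F hFT x, ← not_iff_not, Set.mem_compl_iff, not_not]
    constructor
    · intro h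
      push_neg at h
      obtain ⟨z, hfz, hzx, hzs, hne⟩ := h
      obtain ⟨d, r, a, -, -, -, -, hz, -⟩ := exists_mod_numbers f F hFT hzs
      obtain ⟨d', r', a', -, -, -, -, hx, -⟩ :=
        exists_mod_numbers f F hFT (hzx.mem_closed (QCohLib.isClosed_support F hFT) hzs)
      have h1 := suppDimAt_le_of_specializes f F hFT hzx
      rw [hz, hx, Nat.cast_le] at h1
      rw [hz, hx] at hne
      have h2 : d + r ≠ d' + r' := fun h => hne (congrArg Nat.cast h)
      obtain ⟨rz, hrz⟩ := exists_fibreClosureDim_eq_nat f z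
      refine Set.mem_iUnion.2 ⟨d' + r', hx, Set.mem_iUnion₂.2 ⟨d + r, Finset.mem_range.2 (by omega), z, hz, hfz, hzx, ?_⟩⟩
      rw [hrz]; exact Nat.cast_le.2 (Nat.zero_le _)
    · intro h
      obtain ⟨e, he, h⟩ := Set.mem_iUnion.1 h
      obtain ⟨a, ha, z, hz, hfz, hzx, -⟩ := Set.mem_iUnion₂.1 h
      have hzs : z ∈ CohB1.support F := by
        by_contra hzs
        have hz' : suppDimAt f F z = (a : WithBot ℕ∞) := hz
        rw [suppDimAt, supportDim_fibre_eq_bot f F hFT hzs, WithBot.bot_add] at hz'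
        exact WithBot.coe_ne_bot hz'.symm
      intro h'
      have h2 := h' z hfz hzx hzs
      rw [show suppDimAt f F z = _ from hz, show suppDimAt f F x = _ from he] at h2
      exact (Finset.mem_range.1 ha).ne (Nat.cast_injective h2)
  rw [h]
  refine isLocallyConstructible_compl (isLocallyConstructible_iUnion_of_bounded f E (fun e =>
    (isLocallyConstructible_suppDimAt_eq f F hF hFT e).inter (isLocallyConstructible_biUnion _ _ fun a _ =>
      isLocallyConstructible_fibWit f (isLocallyConstructible_suppDimAt_eq f F hF hFT a) 0)) fun y e hy => ?_)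
  exact le_fibreDimAt_of_suppDimAt f F hFT specializes_rfl hy.1

/-- For flat modules the `(S_k)` locus is open. -/
theorem isOpen_hasSk_mod [LocallyOfFinitePresentation f] [Coh.IsQCoh F] (hF : CohB1.IsFP F) (hFT : CohB1.IsFT F)
    (hflat : FlatMod.IsFlatOver f F) (k : ℕ) :
    IsOpen {x : X | LocCoh.HasSk k ((f.fiber (f.base x)).presheaf.stalk (f.asFiber x))
      (((Scheme.Modules.pullback (f.fiberι (f.base x))).obj F).presheaf.stalk (f.asFiber x))} :=
  isOpen_of_generization (isLocallyConstructible_hasSk_mod f F hF hFT k)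
    fun h hx => hasSk_mod_of_specializes f F hF hFT hflat k h hx

/-- For flat modules the locus of equidimensional `(S_k)` fibre modules, `k ≥ 1`, is open. -/
theorem isOpen_equidim_hasSk_mod [LocallyOfFinitePresentation f] [Coh.IsQCoh F] (hF : CohB1.IsFP F)
    (hFT : CohB1.IsFT F) (hflat : FlatMod.IsFlatOver f F) (k : ℕ) (hk : 1 ≤ k) :
    IsOpen {x : X | EGA4.IsEquidimModule ((f.fiber (f.base x)).presheaf.stalk (f.asFiber x))
        (((Scheme.Modules.pullback (f.fiberι (f.base x))).obj F).presheaf.stalk (f.asFiber x)) ∧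
      LocCoh.HasSk k ((f.fiber (f.base x)).presheaf.stalk (f.asFiber x))
      (((Scheme.Modules.pullback (f.fiberι (f.base x))).obj F).presheaf.stalk (f.asFiber x))} := by
  refine isOpen_of_generization ((isLocallyConstructible_equidimModule f F hF hFT).inter
    (isLocallyConstructible_hasSk_mod f F hF hFT k)) ?_
  rintro x' x hsp ⟨heq, hsk⟩
  refine ⟨?_, hasSk_mod_of_specializes f F hF hFT hflat k hsp hsk⟩
  rw [isEquidimModule_fibre_iff f F hFT] at heq ⊢
  have key : ∀ z' : X, z' ⤳ x' → z' ∈ CohB1.support F → suppDimAt f F z' = suppDimAt f F x := by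
    intro z' hz' hz's
    obtain ⟨ζ, hfζ, hζz, hζs, -, hζρ, hζd⟩ := exists_max_supp f F hFT hz's
    obtain ⟨z, hfz, hzx, -, hzs, hzρ, hzd⟩ := exists_spread_ass f F hF hFT hflat (hζz.trans (hz'.trans hsp)) hζs hζρ
    obtain ⟨d, r, a, -, -, hr, -, he, hρ⟩ := exists_mod_numbers f F hFT hzs
    rw [hρ, hr] at hzρ
    have h0 : a + r = r := Nat.cast_injective hzρ
    have hd : d = 0 := by
      by_contra hne
      exact (not_hasSk_mod_iff f F hFT k x).2
        ⟨z, hfz, hzx, hzs, d + r, a + r, r, he, hρ, hr, by omega, by omega⟩ hsk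
    rw [← hζd, ← hzd, ← heq z hfz hzx hzs, he, hr, hd, zero_add]
  intro z' _ hz' hz's
  rw [key z' hz' hz's, key x' specializes_rfl (hz'.mem_closed (QCohLib.isClosed_support F hFT) hz's)]

theorem mem_ass_closure_iff [LocallyOfFinitePresentation f] [Coh.IsQCoh F] (hFT : CohB1.IsFT F) (x : X)
    (P : ∀ (s : S), ↥(f.fiber s) → Prop) :
    (∀ z ∈ AssSch.Ass ((Scheme.Modules.pullback (f.fiberι (f.base x))).obj F), f.asFiber x ∈ closure {z} →
        P (f.base x) z) ↔
      ∀ z : X, f.base z = f.base x → z ⤳ x → z ∈ CohB1.support F → rectDepth f F z = fibreClosureDim f z →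
        P (f.base z) (f.asFiber z) := by
  refine Iff.trans ⟨fun h w hw hwA => h w hwA hw.mem_closure, fun h w hwA hw => h w (specializes_iff_mem_closure.2 hw) hwA⟩
    ((forall_specializes_fiber_iff f (fun s w => w ∈ AssSch.Ass ((Scheme.Modules.pullback (f.fiberι s)).obj F) → P s w) x).trans ?_)
  refine forall_congr' fun z => forall_congr' fun _ => forall_congr' fun _ => ?_
  rw [mem_ass_fibre_iff f F hFT z, and_imp]

/-- No embedded associated point through `x` is `(S_1)` at `x`. -/
theorem noEmbedded_at_iff_hasS1 [LocallyOfFinitePresentation f] [Coh.IsQCoh F] (hFT : CohB1.IsFT F) (x : X) :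
    (∀ z ∈ AssSch.Ass ((Scheme.Modules.pullback (f.fiberι (f.base x))).obj F), f.asFiber x ∈ closure {z} →
      ∀ z' ∈ AssSch.Ass ((Scheme.Modules.pullback (f.fiberι (f.base x))).obj F), z ∈ closure {z'} → z' = z) ↔
    LocCoh.HasSk 1 ((f.fiber (f.base x)).presheaf.stalk (f.asFiber x))
      (((Scheme.Modules.pullback (f.fiberι (f.base x))).obj F).presheaf.stalk (f.asFiber x)) := by
  rw [mem_ass_closure_iff f F hFT x (fun s z => ∀ z' ∈ AssSch.Ass ((Scheme.Modules.pullback (f.fiberι s)).obj F),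
    z ∈ closure {z'} → z' = z), ← not_iff_not, not_hasSk_mod_iff f F hFT 1 x]
  constructor
  · intro h
    simp only [not_forall] at h
    obtain ⟨z, hfz, hzx, hzs, hzρ, w, hwA, hw, hne⟩ := h
    obtain ⟨ζ, rfl⟩ : ∃ ζ, f.fiberι (f.base z) w = ζ := ⟨_, rfl⟩
    have hfw : f.base (f.fiberι (f.base z) w) = f.base z := (f.range_fiberι _).le ⟨w, rfl⟩
    have hwz : f.fiberι (f.base z) w ⤳ z :=
      ((specializes_iff_mem_closure.2 hw).map (f.fiberι (f.base z)).continuous).trans (specializes_of_eq (f.fiberι_asFiber z))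
    have hne' : f.fiberι (f.base z) w ≠ z := fun h =>
      hne ((f.fiberι (f.base z)).isEmbedding.injective (h.trans (f.fiberι_asFiber z).symm))
    obtain ⟨c, r, -, hr, hcr, hc⟩ := closureDim_formula f hfw hwz
    have hws : f.fiberι (f.base z) w ∈ CohB1.support F :=
      (((forall_specializes_fiber_iff f (fun s v => v ∈ AssSch.Ass ((Scheme.Modules.pullback (f.fiberι s)).obj F) →
          f.fiberι s v ∈ CohB1.support F) z).2 fun v _ _ hv => by
        rw [f.fiberι_asFiber]; exact ((mem_ass_fibre_iff f F hFT v).1 hv).1) w (specializes_iff_mem_closure.2 hw)) hwA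
    obtain ⟨d, r', a, -, -, hr', -, he, hρ⟩ := exists_mod_numbers f F hFT hzs
    have e1 : r = r' := Nat.cast_injective (hr.symm.trans hr')
    rw [hρ, hr'] at hzρ
    have e2 : a + r' = r' := Nat.cast_injective hzρ
    have h3 := (le_suppDimAt_iff f F hFT z (c + r)).2 ⟨_, hws, hfw, hwz, hcr.ge⟩
    rw [he, Nat.cast_le] at h3
    have := hc hne'
    exact ⟨z, hfz, hzx, hzs, d + r', a + r', r', he, hρ, hr', by omega, by omega⟩
  · rintro ⟨z, hfz, hzx, hzs, e, ρ, r, he, hρ, hr, h1, h2⟩ h
    obtain ⟨d', r', a', -, -, hr', -, -, hρ'⟩ := exists_mod_numbers f F hFT hzs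
    have e1 : r = r' := Nat.cast_injective (hr.symm.trans hr')
    have e2 : ρ = a' + r' := Nat.cast_injective (hρ.symm.trans hρ')
    have hzρ : rectDepth f F z = fibreClosureDim f z := by rw [hρ, hr, show ρ = r by omega]
    obtain ⟨ζ, hfζ, hζz, hζs, -, hζρ, hζd⟩ := exists_max_supp f F hFT hzs
    obtain ⟨w, rfl⟩ : ζ ∈ Set.range (f.fiberι (f.base z)) := by rw [f.range_fiberι]; exact hfζ
    have hw : w ⤳ f.asFiber z :=
      (f.fiberι _).isEmbedding.isInducing.specializes_iff.1 (hζz.trans (specializes_of_eq (f.fiberι_asFiber z).symm))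
    have hwA : w ∈ AssSch.Ass ((Scheme.Modules.pullback (f.fiberι (f.base z))).obj F) :=
      ((forall_specializes_fiber_iff f (fun s v => f.fiberι s v ∈ CohB1.support F ∧
          rectDepth f F (f.fiberι s v) = fibreClosureDim f (f.fiberι s v) →
          v ∈ AssSch.Ass ((Scheme.Modules.pullback (f.fiberι s)).obj F)) z).2 (fun v _ _ hv => by
        rw [f.fiberι_asFiber] at hv; exact (mem_ass_fibre_iff f F hFT v).2 hv)) w hw ⟨hζs, hζρ⟩
    have heq : f.fiberι (f.base z) w = z := by
      rw [h z hfz hzx hzs hzρ w hwA hw.mem_closure, f.fiberι_asFiber]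
    rw [heq, hr, he] at hζd
    have : r = e := Nat.cast_injective hζd
    omega

/-- For flat modules the associated points through a point keep the dimensions of their closures nearby. -/
theorem isOpen_assDims_mem [LocallyOfFinitePresentation f] [Coh.IsQCoh F] (hF : CohB1.IsFP F) (hFT : CohB1.IsFT F)
    (hflat : FlatMod.IsFlatOver f F) (Φ : Finset ℕ) :
    IsOpen {x : X | ∀ z ∈ AssSch.Ass ((Scheme.Modules.pullback (f.fiberι (f.base x))).obj F), f.asFiber x ∈ closure {z} →
      ∃ n ∈ Φ, topologicalKrullDim ↥(closure ({z} : Set ↥(f.fiber (f.base x)))) = (n : WithBot ℕ∞)} := by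
  classical
  let E : ℕ → Set X := fun e => if e ∈ Φ then ∅ else
    fibWit f (CohB1.support F ∩ {z | rectDepth f F z = ((e : ℕ∞) : WithBot ℕ∞)}) e
  have h : {x : X | ∀ z ∈ AssSch.Ass ((Scheme.Modules.pullback (f.fiberι (f.base x))).obj F), f.asFiber x ∈ closure {z} →
      ∃ n ∈ Φ, topologicalKrullDim ↥(closure ({z} : Set ↥(f.fiber (f.base x)))) = (n : WithBot ℕ∞)} = (⋃ e, E e)ᶜ := by
    ext x
    rw [Set.mem_setOf_eq, mem_ass_closure_iff f F hFT x (fun s z => ∃ n ∈ Φ,
      topologicalKrullDim ↥(closure ({z} : Set ↥(f.fiber s))) = (n : WithBot ℕ∞)), ← not_iff_not,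
      Set.mem_compl_iff, not_not]
    constructor
    · intro h
      simp only [not_forall] at h
      obtain ⟨z, hfz, hzx, hzs, hzρ, hno⟩ := h
      obtain ⟨r, hr⟩ := exists_fibreClosureDim_eq_nat f z
      have hrΦ : r ∉ Φ := fun h' => hno ⟨r, h', hr⟩
      refine Set.mem_iUnion.2 ⟨r, ?_⟩
      rw [show E r = _ from if_neg hrΦ]
      exact ⟨z, ⟨hzs, hzρ.trans hr⟩, hfz, hzx, hr.ge⟩
    · intro h h'
      obtain ⟨e, he⟩ := Set.mem_iUnion.1 h
      by_cases heΦ : e ∈ Φ
      · rw [show E e = _ from if_pos heΦ] at he; exact he.elim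
      rw [show E e = _ from if_neg heΦ] at he
      obtain ⟨z, ⟨hzs, hρ⟩, hfz, hzx, hm⟩ := he
      obtain ⟨d, r, a, -, -, hr, -, -, hρ'⟩ := exists_mod_numbers f F hFT hzs
      rw [hr, Nat.cast_le] at hm
      have e1 : a + r = e := Nat.cast_injective (hρ'.symm.trans hρ)
      obtain ⟨n, hn, hn'⟩ := h' z hfz hzx hzs (by rw [hρ', hr, show a = 0 by omega, zero_add])
      have e2 : r = n := Nat.cast_injective (hr.symm.trans hn')
      exact heΦ (by rwa [show e = n by omega])
  refine isOpen_of_generization ?_ ?_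
  · rw [h]
    refine isLocallyConstructible_compl (isLocallyConstructible_iUnion_of_bounded f E (fun e => ?_) fun y e hy => ?_)
    · by_cases heΦ : e ∈ Φ
      · rw [show E e = _ from if_pos heΦ]; exact IsLocallyConstructible.empty
      · rw [show E e = _ from if_neg heΦ]
        exact isLocallyConstructible_fibWit f
          ((isLocallyConstructible_support f F hF hFT).inter (isLocallyConstructible_rectDepth_eq f F hF e)) _
    · by_cases heΦ : e ∈ Φ
      · rw [show E e = _ from if_pos heΦ] at hy; exact hy.elim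
      · rw [show E e = _ from if_neg heΦ] at hy
        obtain ⟨z, -, -, hzy, hm⟩ := hy
        exact hm.trans (fibreClosureDim_le_fibreDimAt f hzy)
  · intro x' x hsp hx
    rw [Set.mem_setOf_eq, mem_ass_closure_iff f F hFT _ (fun s z => ∃ n ∈ Φ,
      topologicalKrullDim ↥(closure ({z} : Set ↥(f.fiber s))) = (n : WithBot ℕ∞))] at hx ⊢
    intro ζ _ hζx hζs hζρ
    obtain ⟨z, hfz, hzx, -, hzs, hzρ, hzd⟩ := exists_spread_ass f F hF hFT hflat (hζx.trans hsp) hζs hζρ
    obtain ⟨n, hn, hn'⟩ := hx z hfz hzx hzs hzρ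
    exact ⟨n, hn, (hzd.symm.trans hn' : fibreClosureDim f ζ = _)⟩

/-- For flat modules the codepth of the fibre modules is upper semicontinuous. -/
theorem isOpen_codepth_le [LocallyOfFinitePresentation f] [Coh.IsQCoh F] (hF : CohB1.IsFP F) (hFT : CohB1.IsFT F)
    (hflat : FlatMod.IsFlatOver f F) (k : ℕ) :
    IsOpen {x : X | Module.supportDim ((f.fiber (f.base x)).presheaf.stalk (f.asFiber x))
        (((Scheme.Modules.pullback (f.fiberι (f.base x))).obj F).presheaf.stalk (f.asFiber x)) ≤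
      ((LocCoh.depth ((f.fiber (f.base x)).presheaf.stalk (f.asFiber x))
        (((Scheme.Modules.pullback (f.fiberι (f.base x))).obj F).presheaf.stalk (f.asFiber x)) : ℕ∞) : WithBot ℕ∞) + k} := by
  rw [isOpen_iff_forall_mem_open]
  intro x hx
  by_cases hxs : x ∈ CohB1.support F
  · obtain ⟨d, r, a, hd, ha, -, -, he, hρ⟩ := exists_mod_numbers f F hFT hxs
    rw [Set.mem_setOf_eq, hd, ha] at hx
    have h1 : d ≤ a + k := by exact_mod_cast hx
    have hO : IsOpen (fibWit f (CohB1.support F) (d + r + 1))ᶜ :=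
      isOpen_of_generization (isLocallyConstructible_compl
        (isLocallyConstructible_fibWit f (isLocallyConstructible_support f F hF hFT) _)) fun {x'} {x} hsp hxO hx'O =>
        hxO ((le_suppDimAt_iff f F hFT x _).1 (((le_suppDimAt_iff f F hFT x' _).2 hx'O).trans
          (suppDimAt_le_of_specializes f F hFT hsp)))
    refine ⟨{y | ((a + r : ℕ) : WithBot ℕ∞) ≤ rectDepth f F y} ∩ (fibWit f (CohB1.support F) (d + r + 1))ᶜ, ?_,
      (isOpen_le_rectDepth f F hF hflat _).inter hO, hρ.ge, fun h => ?_⟩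
    · rintro y ⟨hy1, hy2⟩
      by_cases hys : y ∈ CohB1.support F
      · obtain ⟨d', r', a', hd', ha', -, -, he', hρ'⟩ := exists_mod_numbers f F hFT hys
        rw [Set.mem_setOf_eq, hρ', Nat.cast_le] at hy1
        have h2 : ¬ d + r + 1 ≤ d' + r' := fun h2 => hy2 ((le_suppDimAt_iff f F hFT y _).1
          (by rw [he', Nat.cast_le]; exact h2))
        rw [Set.mem_setOf_eq, hd', ha']
        exact_mod_cast (show d' ≤ a' + k by omega)
      · rw [Set.mem_setOf_eq, supportDim_fibre_eq_bot f F hFT hys]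
        exact bot_le
    · have h2 := (le_suppDimAt_iff f F hFT x _).2 h
      rw [he, Nat.cast_le] at h2
      omega
  · refine ⟨(CohB1.support F)ᶜ, fun y hy => ?_, (QCohLib.isClosed_support F hFT).isOpen_compl, hxs⟩
    rw [Set.mem_setOf_eq, supportDim_fibre_eq_bot f F hFT hy]
    exact bot_le

end DepthLib
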