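import Groth.Agent.DepthLib.SuppDim
import Mathlib

/-! # Serre's conditions for the stalks of an inverse image, read on generizations -/

set_option autoImplicit false
universe u

open CategoryTheory AlgebraicGeometry Topology TensorProduct IsLocalRing

namespace DepthLib

theorem supportDim_tensor_algEquiv {B L₁ L₂ : Type u} [CommRing B] [CommRing L₁] [CommRing L₂] [Algebra B L₁]
    [Algebra B L₂] (e : L₁ ≃ₐ[B] L₂) (M : Type u) [AddCommGroup M] [Module B M] [Module.Finite B M] :
    Module.supportDim L₁ (L₁ ⊗[B] M) = Module.supportDim L₂ (L₂ ⊗[B] M) := by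
  let φ := PrimeSpectrum.comapEquiv e.toRingEquiv
  have hφ : ∀ p, p ∈ Module.support L₁ (L₁ ⊗[B] M) ↔ φ p ∈ Module.support L₂ (L₂ ⊗[B] M) := fun p => by
    rw [mem_support_baseChange, mem_support_baseChange]
    have h : PrimeSpectrum.comap (algebraMap B L₂) (φ p) = PrimeSpectrum.comap (algebraMap B L₁) p := by
      refine PrimeSpectrum.ext (Ideal.ext fun b => ?_)
      show e.symm (algebraMap B L₂ b) ∈ p.asIdeal ↔ algebraMap B L₁ b ∈ p.asIdeal
      rw [e.symm.commutes]
    rw [h]
  exact Order.krullDim_eq_of_orderIso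
    { toEquiv := φ.toEquiv.subtypeEquiv hφ
      map_rel_iff' := fun {a b} => φ.map_rel_iff }

/-- The dimension of the support and the depth of a localized stalk of an inverse image. -/
theorem localized_stalk_invariants {P X : Scheme.{u}} [IsLocallyNoetherian P] (g : P ⟶ X) (F : X.Modules)
    [Coh.IsQCoh F] (hF : CohB1.IsFT F) (y : P) (p : PrimeSpectrum (P.presheaf.stalk y)) :
    Module.supportDim (Localization.AtPrime p.asIdeal)
        (LocalizedModule p.asIdeal.primeCompl (((Scheme.Modules.pullback g).obj F).presheaf.stalk y)) =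
      Module.supportDim (P.presheaf.stalk (EquidimLib.stalkPt y p))
        (((Scheme.Modules.pullback g).obj F).presheaf.stalk (EquidimLib.stalkPt y p)) ∧
    LocCoh.depth (Localization.AtPrime p.asIdeal)
        (LocalizedModule p.asIdeal.primeCompl (((Scheme.Modules.pullback g).obj F).presheaf.stalk y)) =
      LocCoh.depth (P.presheaf.stalk (EquidimLib.stalkPt y p))
        (((Scheme.Modules.pullback g).obj F).presheaf.stalk (EquidimLib.stalkPt y p)) := by
  obtain ⟨_, ⟨V, hV, rfl⟩, hyV, -⟩ :=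
    X.isBasis_affineOpens.exists_subset_of_mem_open (Set.mem_univ (g y)) isOpen_univ
  haveI := QCohLib.finite_of_isFT hF hV
  set w := EquidimLib.stalkPt y p with hw
  have hwy : w ⤳ y := EquidimLib.stalkPt_specializes y p
  -- the stalks of the inverse image
  have base : ∀ (z : P) (hz : g z ∈ V),
      letI : Algebra Γ(X, V) (P.presheaf.stalk z) := (g.stalkMap z).hom.comp (X.presheaf.germ V _ hz).hom |>.toAlgebra
      Nonempty ((P.presheaf.stalk z) ⊗[Γ(X, V)] Γ(F, V) ≃ₗ[P.presheaf.stalk z]
        ((Scheme.Modules.pullback g).obj F).presheaf.stalk z) := by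
    intro z hz
    let O := X.presheaf.stalk (g z)
    let O' := P.presheaf.stalk z
    letI : Algebra O O' := (g.stalkMap z).hom.toAlgebra
    letI : Algebra Γ(X, V) O := (X.presheaf.germ V (g z) hz).hom.toAlgebra
    letI : Algebra Γ(X, V) O' := (g.stalkMap z).hom.comp (X.presheaf.germ V (g z) hz).hom |>.toAlgebra
    haveI : IsScalarTower Γ(X, V) O O' := IsScalarTower.of_algebraMap_eq fun _ => rfl
    haveI : IsLocalization.AtPrime O (hV.primeIdealOf ⟨g z, hz⟩).asIdeal := hV.isLocalization_stalk ⟨g z, hz⟩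
    letI := Module.compHom (F.presheaf.stalk (g z)) (X.presheaf.germ V (g z) hz).hom
    haveI : IsScalarTower Γ(X, V) O (F.presheaf.stalk (g z)) := IsScalarTower.of_algebraMap_smul fun _ _ => rfl
    haveI := FlatLib.isLocalizedModule_germLin F hV hz
    have hb : IsBaseChange O (FlatLib.germLin F hz) :=
      IsLocalizedModule.isBaseChange (hV.primeIdealOf ⟨g z, hz⟩).asIdeal.primeCompl O _
    let e₁ : O' ⊗[O] F.presheaf.stalk (g z) ≃ₗ[O'] ((Scheme.Modules.pullback g).obj F).presheaf.stalk z :=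
      ((KFlatLib.stalkPullIso g z).symm.app F).toLinearEquiv
    let e₂ : O' ⊗[Γ(X, V)] Γ(F, V) ≃ₗ[O'] O' ⊗[O] F.presheaf.stalk (g z) :=
      (AlgebraTensorModule.cancelBaseChange Γ(X, V) O O' O' Γ(F, V)).symm.trans
        (AlgebraTensorModule.congr (LinearEquiv.refl O' O') hb.equiv)
    exact ⟨e₂.trans e₁⟩
  have hwV : g w ∈ V := (hwy.map g.continuous).mem_open V.2 hyV
  letI algy : Algebra Γ(X, V) (P.presheaf.stalk y) := (g.stalkMap y).hom.comp (X.presheaf.germ V _ hyV).hom |>.toAlgebra
  letI algw : Algebra Γ(X, V) (P.presheaf.stalk w) := (g.stalkMap w).hom.comp (X.presheaf.germ V _ hwV).hom |>.toAlgebra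
  obtain ⟨ey⟩ := base y hyV
  obtain ⟨ew⟩ := base w hwV
  -- the local rings
  obtain ⟨_, ⟨U, hU, rfl⟩, hyU, hUV⟩ :=
    P.isBasis_affineOpens.exists_subset_of_mem_open (show y ∈ g ⁻¹ᵁ V from hyV) (g ⁻¹ᵁ V).2
  have hwU : w ∈ U := hwy.mem_open U.2 hyU
  letI algU : Algebra Γ(X, V) Γ(P, U) := (g.appLE V U hUV).hom.toAlgebra
  letI := P.presheaf.algebra_section_stalk ⟨y, hyU⟩
  letI := P.presheaf.algebra_section_stalk ⟨w, hwU⟩
  haveI : IsNoetherianRing Γ(P, U) := IsLocallyNoetherian.component_noetherian ⟨U, hU⟩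
  let qy := hU.primeIdealOf ⟨y, hyU⟩
  let qw := hU.primeIdealOf ⟨w, hwU⟩
  haveI : IsLocalization.AtPrime (P.presheaf.stalk y) qy.asIdeal := hU.isLocalization_stalk ⟨y, hyU⟩
  haveI : IsLocalization.AtPrime (P.presheaf.stalk w) qw.asIdeal := hU.isLocalization_stalk ⟨w, hwU⟩
  have htow : ∀ (z : P) (hz : z ∈ U) (hz' : g z ∈ V) (b : Γ(X, V)),
      g.stalkMap z (X.presheaf.germ V (g z) hz' b) = P.presheaf.germ U z hz (g.appLE V U hUV b) := by
    intro z hz hz' b
    rw [Scheme.Hom.germ_stalkMap_apply]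
    exact (TopCat.Presheaf.germ_res_apply P.presheaf _ _ _ _).symm
  haveI : IsScalarTower Γ(X, V) Γ(P, U) (P.presheaf.stalk y) :=
    IsScalarTower.of_algebraMap_eq fun b => htow y hyU hyV b
  haveI : IsScalarTower Γ(X, V) Γ(P, U) (P.presheaf.stalk w) :=
    IsScalarTower.of_algebraMap_eq fun b => htow w hwU hwV b
  haveI : IsScalarTower Γ(X, V) Γ(P, U) (Localization.AtPrime p.asIdeal) :=
    IsScalarTower.of_algebraMap_eq fun b => by
      rw [IsScalarTower.algebraMap_apply Γ(X, V) (P.presheaf.stalk y) (Localization.AtPrime p.asIdeal),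
        IsScalarTower.algebraMap_apply Γ(X, V) Γ(P, U) (P.presheaf.stalk y),
        ← IsScalarTower.algebraMap_apply Γ(P, U) (P.presheaf.stalk y) (Localization.AtPrime p.asIdeal)]
  have hq : p.asIdeal.comap (algebraMap Γ(P, U) (P.presheaf.stalk y)) = qw.asIdeal := by
    have h1 : hU.fromSpec (PrimeSpectrum.comap (algebraMap Γ(P, U) (P.presheaf.stalk y)) p) = w := by
      show (hU.fromSpecStalk hyU).base p = (P.fromSpecStalk y).base p
      rw [hU.fromSpecStalk_eq_fromSpecStalk hyU]
    exact congrArg PrimeSpectrum.asIdeal (hU.fromSpec.isOpenEmbedding.injective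
      (h1.trans (hU.fromSpec_primeIdealOf ⟨w, hwU⟩).symm))
  haveI h2 : IsLocalization.AtPrime (Localization.AtPrime p.asIdeal)
      (p.asIdeal.comap (algebraMap Γ(P, U) (P.presheaf.stalk y))) :=
    IsLocalization.isLocalization_isLocalization_atPrime_isLocalization qy.asIdeal.primeCompl _ p.asIdeal
  haveI : IsLocalization.AtPrime (P.presheaf.stalk w) (p.asIdeal.comap (algebraMap Γ(P, U) (P.presheaf.stalk y))) := by
    simp only [hq]; infer_instance
  let e : Localization.AtPrime p.asIdeal ≃ₐ[Γ(X, V)] P.presheaf.stalk w :=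
    (IsLocalization.algEquiv (p.asIdeal.comap (algebraMap Γ(P, U) (P.presheaf.stalk y))).primeCompl
      (Localization.AtPrime p.asIdeal) (P.presheaf.stalk w)).restrictScalars Γ(X, V)
  let N := ((Scheme.Modules.pullback g).obj F).presheaf.stalk y
  let L := Localization.AtPrime p.asIdeal
  let ε : LocalizedModule p.asIdeal.primeCompl N ≃ₗ[L] L ⊗[Γ(X, V)] Γ(F, V) :=
    (((IsLocalizedModule.isBaseChange p.asIdeal.primeCompl L
      (LocalizedModule.mkLinearMap p.asIdeal.primeCompl N)).equiv).symm.trans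
        (AlgebraTensorModule.congr (LinearEquiv.refl L L) ey.symm)).trans
      (AlgebraTensorModule.cancelBaseChange Γ(X, V) (P.presheaf.stalk y) L L Γ(F, V))
  haveI : IsNoetherianRing (P.presheaf.stalk w) := IsLocalization.isNoetherianRing qw.asIdeal.primeCompl _ inferInstance
  haveI : IsNoetherianRing L := isNoetherianRing_of_ringEquiv _ e.toRingEquiv.symm
  refine ⟨?_, ?_⟩
  · rw [Module.supportDim_eq_of_equiv ε, supportDim_tensor_algEquiv e, Module.supportDim_eq_of_equiv ew]
  · rw [CommAlgDim.depth_congr ε]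
    refine (depth_baseChange_of_surjective (P := Γ(X, V)) (B := Γ(X, V)) (fun a => ⟨a, rfl⟩) L
      (P.presheaf.stalk w) e.toAlgHom e.surjective (fun z hz => by
        rw [show z = 0 from e.injective ((RingHom.mem_ker.1 hz).trans (map_zero e).symm)]
        exact Ideal.zero_mem _) Γ(F, V)).symm.trans (CommAlgDim.depth_congr ew)

/-- `(S_k)` of a stalk of an inverse image is a condition on the generizations. -/
theorem hasSk_pullback_stalk_iff {P X : Scheme.{u}} [IsLocallyNoetherian P] (g : P ⟶ X) (F : X.Modules)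
    [Coh.IsQCoh F] (hF : CohB1.IsFT F) (y : P) (k : ℕ) :
    LocCoh.HasSk k (P.presheaf.stalk y) (((Scheme.Modules.pullback g).obj F).presheaf.stalk y) ↔
      ∀ w : P, w ⤳ y →
        min (k : WithBot ℕ∞) (Module.supportDim (P.presheaf.stalk w) (((Scheme.Modules.pullback g).obj F).presheaf.stalk w)) ≤
          ((LocCoh.depth (P.presheaf.stalk w) (((Scheme.Modules.pullback g).obj F).presheaf.stalk w) : ℕ∞) : WithBot ℕ∞) := by
  constructor
  · intro h w hw
    obtain ⟨p, rfl⟩ := EquidimLib.exists_stalkPt hw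
    obtain ⟨h1, h2⟩ := localized_stalk_invariants g F hF y p
    rw [← h1, ← h2]
    exact h p.asIdeal
  · intro h p hp
    obtain ⟨h1, h2⟩ := localized_stalk_invariants g F hF y ⟨p, hp⟩
    rw [h1, h2]
    exact h _ (EquidimLib.stalkPt_specializes y _)

end DepthLib
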