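import Groth.Agent.DepthLib.Rectified
import Groth.Agent.FlatLib.QStalk
import Mathlib

/-! # Openness of the bounds on the rectified depth of the fibres of a flat module -/

set_option autoImplicit false
universe u

open TensorProduct CategoryTheory AlgebraicGeometry Topology IsLocalRing CommAlgDim

attribute [local instance] MvPolynomial.algebraMvPolynomial

namespace DepthLib

theorem mem_fibPD_iff_pdltAt_of_flat (R : Type u) {P : Type u} [CommRing R] [CommRing P] [Algebra R P]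
    [IsNoetherianRing P] [Module.Flat R P] (M : Type u) [AddCommGroup M] [Module P M] [Module R M]
    [IsScalarTower R P M] [Module.Finite P M] (q : PrimeSpectrum P)
    (hq : q ∈ FlatLib.flatLocus R P M) (n : ℕ) :
    q ∈ fibPD R (P := P) M (n + 1) ↔ PDLTAt P M q (n + 1) := by
  let L := Localization.AtPrime q.asIdeal
  haveI : Module.Flat R L := Module.Flat.trans R P L
  let e : LocalizedModule q.asIdeal.primeCompl M ≃ₗ[L] L ⊗[P] M := LocalizedModule.equivTensorProduct _ M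
  haveI : Module.Flat R (LocalizedModule q.asIdeal.primeCompl M) := hq
  haveI : Module.Flat R (L ⊗[P] M) := Module.Flat.of_linearEquiv (e.restrictScalars R).symm
  rw [PDLTAt, PDLT.congr e, ← pdlt_fibre_iff R _ (fib_le_maximalIdeal R q) n (L ⊗[P] M)]
  exact PDLT.congr (AlgebraTensorModule.cancelBaseChange P L (FibRing R q) (FibRing R q) M).symm

theorem isOpen_fibPD_inter_flatLocus_noetherian (R : Type u) {P : Type u} [CommRing R] [IsNoetherianRing R]
    [CommRing P] [Algebra R P] [Algebra.FiniteType R P] [Module.Flat R P] (M : Type u) [AddCommGroup M] [Module P M]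
    [Module R M] [IsScalarTower R P M] [Module.Finite P M] (n : ℕ) :
    IsOpen (fibPD R (P := P) M (n + 1) ∩ FlatLib.flatLocus R P M) := by
  haveI : IsNoetherianRing P := Algebra.FiniteType.isNoetherianRing R P
  have h : fibPD R (P := P) M (n + 1) ∩ FlatLib.flatLocus R P M =
      {q | PDLTAt P M q (n + 1)} ∩ FlatLib.flatLocus R P M :=
    Set.ext fun q => and_congr_left fun hq => mem_fibPD_iff_pdltAt_of_flat R M q hq n
  rw [h]
  exact (isOpen_setOf_pdltAt (A := P) n M).inter FlatLib.isOpen_flatLocus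

open FlatLib in
theorem fibPD_bc (σ A : Type u) [Finite σ] [CommRing A] (M₀ : Type u) [AddCommGroup M₀] [Module A M₀]
    [Module (MvPolynomial σ A) M₀] [IsScalarTower A (MvPolynomial σ A) M₀] [Module.Finite (MvPolynomial σ A) M₀]
    {R₁ R₂ : Type u} [CommRing R₁] [Algebra A R₁] [CommRing R₂] [Algebra A R₂] (φ : R₁ →ₐ[A] R₂) (n : ℕ) :
    fibPD R₂ (P := MvPolynomial σ R₂) (BC σ A M₀ R₂) (n + 1) =
      PrimeSpectrum.comap (polyMap σ φ).toRingHom ⁻¹' fibPD R₁ (P := MvPolynomial σ R₁) (BC σ A M₀ R₁) (n + 1) := by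
  rw [fibPD_baseChange A M₀ R₂ n, fibPD_baseChange A M₀ R₁ n, ← Set.preimage_comp, ← PrimeSpectrum.comap_comp]
  congr 2
  exact ((polyMap σ φ).comp_algebraMap).symm

open FlatLib in
theorem isOpen_fibPD_inter_flatLocus_bc (σ A : Type u) [Finite σ] [CommRing A] [IsNoetherianRing A] (M₀ : Type u)
    [AddCommGroup M₀] [Module A M₀] [Module (MvPolynomial σ A) M₀] [IsScalarTower A (MvPolynomial σ A) M₀]
    [Module.Finite (MvPolynomial σ A) M₀] (R : Type u) [CommRing R] [Algebra A R] (n : ℕ) :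
    IsOpen (fibPD R (P := MvPolynomial σ R) (BC σ A M₀ R) (n + 1) ∩
      flatLocus R (MvPolynomial σ R) (BC σ A M₀ R)) := by
  rw [isOpen_iff_forall_mem_open]
  rintro q ⟨hq1, hq2⟩
  obtain ⟨F, hF⟩ := exists_stage_mem_flatLocus σ M₀ q hq2
  let R₁ := Algebra.adjoin A (F : Set R)
  haveI : IsNoetherianRing R₁ := isNoetherianRing_of_fg ⟨F, rfl⟩
  let π := PrimeSpectrum.comap (polyMap σ R₁.val).toRingHom
  have hπ : ∀ q', q' ∈ fibPD R (P := MvPolynomial σ R) (BC σ A M₀ R) (n + 1) ↔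
      π q' ∈ fibPD R₁ (P := MvPolynomial σ R₁) (BC σ A M₀ R₁) (n + 1) := fun q' =>
    Set.ext_iff.1 (fibPD_bc σ A M₀ R₁.val n) q'
  refine ⟨π ⁻¹' (fibPD R₁ (P := MvPolynomial σ R₁) (BC σ A M₀ R₁) (n + 1) ∩
      flatLocus R₁ (MvPolynomial σ R₁) (BC σ A M₀ R₁)), fun q' hq' => ⟨(hπ q').2 hq'.1, ?_⟩,
    (isOpen_fibPD_inter_flatLocus_noetherian R₁ _ n).preimage (PrimeSpectrum.continuous_comap _),
    ⟨(hπ q).1 hq1, hF⟩⟩
  obtain ⟨ι, hι, hsmul⟩ := exists_isBaseChange_bcMap σ M₀ R₁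
  exact flat_localized_baseChange (π q').asIdeal.primeCompl (LocalizedModule.mkLinearMap _ _)
    q'.asIdeal.primeCompl (LocalizedModule.mkLinearMap _ _) (polyMap σ R₁.val).toRingHom
    (fun t ht ↦ ht) ι hι hsmul hq'.2

open FlatLib in
/-- Over a polynomial ring, for a module of finite presentation. -/
theorem isOpen_fibPD_inter_flatLocus {σ R : Type u} [Finite σ] [CommRing R] (M : Type u) [AddCommGroup M]
    [Module (MvPolynomial σ R) M] [Module R M] [IsScalarTower R (MvPolynomial σ R) M]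
    [Module.FinitePresentation (MvPolynomial σ R) M] (n : ℕ) :
    IsOpen (fibPD R (P := MvPolynomial σ R) M n ∩ flatLocus R (MvPolynomial σ R) M) := by
  have hfl : IsOpen (flatLocus R (MvPolynomial σ R) M) := isOpen_flatLocus_fp
  rcases n with _ | n
  · refine IsOpen.inter ?_ hfl
    have h : fibPD R (P := MvPolynomial σ R) M 0 = (Module.support (MvPolynomial σ R) M)ᶜ :=
      Set.ext fun q => mem_fibPD_zero_iff R M q
    rw [h]
    exact Module.isClosed_support.isOpen_compl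
  obtain ⟨A, M₀, _, _, _, _, hA, _, ⟨e⟩, -⟩ := exists_model (σ := σ) (R := R) (M := M) ∅ (by simp)
  haveI : IsNoetherianRing A := isNoetherianRing_of_fg hA
  rw [← fibPD_congr R e (n + 1), ← flatLocus_congr e]
  exact isOpen_fibPD_inter_flatLocus_bc σ A M₀ R n

/-- The rectified depth of the fibres of a flat module is lower semicontinuous. -/
theorem isOpen_le_rectDepth {X S : Scheme.{u}} (f : X ⟶ S) [LocallyOfFinitePresentation f] (F : X.Modules)
    [Coh.IsQCoh F] (hF : CohB1.IsFP F) (hflat : FlatMod.IsFlatOver f F) (m : ℕ) :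
    IsOpen {x : X | ((m : ℕ) : WithBot ℕ∞) ≤ rectDepth f F x} := by
  rw [isOpen_iff_forall_mem_open]
  intro x hx
  obtain ⟨_, ⟨U, hU, rfl⟩, hxU, -⟩ :=
    S.isBasis_affineOpens.exists_subset_of_mem_open (Set.mem_univ (f x)) isOpen_univ
  obtain ⟨V, hV, hVU, hxV, hfp⟩ := FlatLib.exists_finitePresentation_nhd hF (U := f ⁻¹ᵁ U) hxU
  letI := (f.appLE U V hVU).hom.toAlgebra
  haveI : Algebra.FinitePresentation Γ(S, U) Γ(X, V) := f.finitePresentation_appLE hU hV hVU
  obtain ⟨n, π₀, hπ₀, -⟩ := Algebra.FinitePresentation.out (R := Γ(S, U)) (A := Γ(X, V))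
  let π : MvPolynomial (ULift.{u} (Fin n)) Γ(S, U) →ₐ[Γ(S, U)] Γ(X, V) :=
    π₀.comp (MvPolynomial.renameEquiv Γ(S, U) Equiv.ulift).toAlgHom
  have hπ : Function.Surjective π := hπ₀.comp (AlgEquiv.surjective _)
  let P := MvPolynomial (ULift.{u} (Fin n)) Γ(S, U)
  letI : Algebra P Γ(X, V) := π.toRingHom.toAlgebra
  haveI : IsScalarTower Γ(S, U) P Γ(X, V) := IsScalarTower.of_algebraMap_eq fun r => (π.commutes r).symm
  letI := Module.compHom Γ(F, V) π.toRingHom
  letI : Module Γ(S, U) Γ(F, V) := Module.compHom Γ(F, V) (algebraMap Γ(S, U) Γ(X, V))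
  haveI : IsScalarTower Γ(S, U) Γ(X, V) Γ(F, V) := IsScalarTower.of_algebraMap_smul fun _ _ => rfl
  haveI : IsScalarTower P Γ(X, V) Γ(F, V) := IsScalarTower.of_algebraMap_smul fun _ _ => rfl
  haveI : IsScalarTower Γ(S, U) P Γ(F, V) := IsScalarTower.of_algebraMap_smul fun r z => by
    show π (algebraMap Γ(S, U) P r) • z = algebraMap Γ(S, U) Γ(X, V) r • z
    rw [π.commutes]
  haveI := hfp
  haveI : Module.FinitePresentation P Γ(X, V) :=
    Module.finitePresentation_of_surjective (Algebra.linearMap P Γ(X, V)) hπ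
      (Algebra.FinitePresentation.ker_fG_of_surjective π hπ)
  haveI : Module.FinitePresentation P Γ(F, V) := Module.FinitePresentation.trans P Γ(F, V) Γ(X, V)
  let O := PrimeSpectrum.comap π.toRingHom ⁻¹'
    (fibPD Γ(S, U) (P := P) Γ(F, V) (Nat.card (ULift.{u} (Fin n)) + 1 - m) ∩ FlatLib.flatLocus Γ(S, U) P Γ(F, V))
  have hO : IsOpen O := (isOpen_fibPD_inter_flatLocus Γ(F, V) _).preimage (PrimeSpectrum.continuous_comap _)
  have hmemV : ∀ Q, hV.fromSpec Q ∈ V := fun Q => by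
    have h1 : hV.fromSpec Q ∈ Set.range hV.fromSpec := ⟨Q, rfl⟩
    rwa [hV.range_fromSpec] at h1
  have key : ∀ (y : X) (hy : y ∈ V), ((m : ℕ) : WithBot ℕ∞) ≤ rectDepth f F y ↔ hV.primeIdealOf ⟨y, hy⟩ ∈ O := by
    intro y hy
    refine (le_rectDepth_iff f hU hV hVU F π hπ y hy m).trans ⟨fun h => ⟨h, ?_⟩, fun h => h.1⟩
    have h1 := (FlatLib.isFlatOverAt_iff f F U hU V hV hVU hy rfl).1 (hflat y)
    rw [FlatLib.flatLocus_comap (P := P) hπ] at h1
    exact h1
  refine ⟨hV.fromSpec '' O, ?_, hV.fromSpec.isOpenEmbedding.isOpenMap _ hO,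
    hV.primeIdealOf ⟨x, hxV⟩, (key x hxV).1 hx, hV.fromSpec_primeIdealOf ⟨x, hxV⟩⟩
  rintro _ ⟨Q, hQ, rfl⟩
  refine (key _ (hmemV Q)).2 ?_
  rwa [show hV.primeIdealOf ⟨hV.fromSpec Q, hmemV Q⟩ = Q from
    hV.fromSpec.isOpenEmbedding.injective (hV.fromSpec_primeIdealOf ⟨_, hmemV Q⟩)]

end DepthLib
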