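import Groth.Agent.DepthLib.FibrePD
import Groth.Agent.FlatLib.OpenFP
import Groth.Agent.FlatLib.Stage
import Groth.Agent.ConsLib.General
import Mathlib

/-! # Constructibility of the bounded projective dimension loci of fibres -/

set_option autoImplicit false
universe u

open TensorProduct CategoryTheory AlgebraicGeometry Topology

attribute [local instance] MvPolynomial.algebraMvPolynomial

namespace DepthLib

theorem isLocallyConstructible_fibPD_noetherian (R : Type u) {P : Type u} [CommRing R] [CommRing P] [Algebra R P]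
    [IsNoetherianRing R] [Algebra.FiniteType R P] (M : Type u) [AddCommGroup M] [Module P M] [Module.Finite P M]
    (n : ℕ) : IsLocallyConstructible (fibPD R (P := P) M (n + 1)) := by
  haveI : IsNoetherianRing P := Algebra.FiniteType.isNoetherianRing R P
  letI : Module R M := Module.compHom M (algebraMap R P)
  haveI : IsScalarTower R P M := IsScalarTower.of_algebraMap_smul fun _ _ => rfl
  change IsLocallyConstructible (X := ↥(Spec (CommRingCat.of P))) _
  refine ConsLib.isLocallyConstructible_of_generic fun {Z} _ _ i _ => ?_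
  let q : PrimeSpectrum P := i (genericPoint Z)
  let p : Ideal R := q.asIdeal.comap (algebraMap R P)
  obtain ⟨r₁, hr₁, hfree₁⟩ := FlatLib.exists_free_away (R := R) (S := P) (M := P) p
  obtain ⟨r₂, hr₂, hfree₂⟩ := FlatLib.exists_free_away (R := R) (S := P) (M := M) p
  let r := r₁ * r₂
  have hr : r ∉ p := fun h => (Ideal.IsPrime.mem_or_mem inferInstance h).elim hr₁ hr₂
  let R' := Localization.Away (Ideal.Quotient.mk p r)
  have hu : ∀ {a b : R}, a * b = r → IsUnit (algebraMap (R ⧸ p) R' (Ideal.Quotient.mk p a)) := fun {a b} h => by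
    have h' : IsUnit (algebraMap (R ⧸ p) R' (Ideal.Quotient.mk p r)) := IsLocalization.Away.algebraMap_isUnit _
    have e : algebraMap (R ⧸ p) R' (Ideal.Quotient.mk p a) * algebraMap (R ⧸ p) R' (Ideal.Quotient.mk p b) =
        algebraMap (R ⧸ p) R' (Ideal.Quotient.mk p r) := by
      rw [← map_mul, ← map_mul]; exact congrArg (fun x => algebraMap (R ⧸ p) R' (Ideal.Quotient.mk p x)) h
    rw [← e] at h'
    exact isUnit_of_mul_isUnit_left h'
  let g₁ : Localization.Away (Ideal.Quotient.mk p r₁) →+* R' :=
    IsLocalization.Away.lift (Ideal.Quotient.mk p r₁) (hu (rfl : r₁ * r₂ = r))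
  let g₂ : Localization.Away (Ideal.Quotient.mk p r₂) →+* R' :=
    IsLocalization.Away.lift (Ideal.Quotient.mk p r₂) (hu (mul_comm r₂ r₁))
  have hflat : ∀ (a : R) (g : Localization.Away (Ideal.Quotient.mk p a) →+* R')
      (_ : ∀ x, g (algebraMap (R ⧸ p) _ x) = algebraMap (R ⧸ p) R' x)
      (N : Type u) [AddCommGroup N] [Module R N]
      (_ : Module.Free (Localization.Away (Ideal.Quotient.mk p a)) (Localization.Away (Ideal.Quotient.mk p a) ⊗[R] N)),
      Module.Flat R' (R' ⊗[R] N) := by
    intro a g hg N _ _ hN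
    letI := g.toAlgebra
    haveI : IsScalarTower R (Localization.Away (Ideal.Quotient.mk p a)) R' :=
      IsScalarTower.of_algebraMap_eq fun x => by
        rw [IsScalarTower.algebraMap_apply R (R ⧸ p) R', IsScalarTower.algebraMap_apply R (R ⧸ p) (Localization.Away (Ideal.Quotient.mk p a))]
        exact (hg _).symm
    exact Module.Flat.of_linearEquiv
      (AlgebraTensorModule.cancelBaseChange R (Localization.Away (Ideal.Quotient.mk p a)) R' R' N).symm
  let C := R' ⊗[R] P
  letI : Algebra P C := Algebra.TensorProduct.rightAlgebra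
  let inc := algebraMap P C
  haveI : Module.Flat R' C := hflat r₁ g₁ (fun x => IsLocalization.Away.lift_eq _ _ x) P hfree₁
  let M' := C ⊗[P] M
  haveI : Module.Flat R' (R' ⊗[R] M) := hflat r₂ g₂ (fun x => IsLocalization.Away.lift_eq _ _ x) M hfree₂
  haveI : Module.Flat R' M' := Module.Flat.of_linearEquiv (Algebra.IsPushout.cancelBaseChange R R' P C M)
  haveI : IsNoetherianRing R' := IsLocalization.isNoetherianRing (Submonoid.powers (Ideal.Quotient.mk p r)) R' inferInstance
  haveI : IsNoetherianRing C := Algebra.FiniteType.isNoetherianRing R' C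
  have hemb : IsEmbedding (PrimeSpectrum.comap inc) := by
    have h1 : IsPreimmersion (Spec.map (CommRingCat.ofHom (algebraMap R R'))) := by
      rw [IsScalarTower.algebraMap_eq R (R ⧸ p) R', CommRingCat.ofHom_comp, Spec.map_comp]
      haveI : IsClosedImmersion (Spec.map (CommRingCat.ofHom (algebraMap R (R ⧸ p)))) :=
        IsClosedImmersion.spec_of_surjective _ Ideal.Quotient.mk_surjective
      haveI : IsOpenImmersion (Spec.map (CommRingCat.ofHom (algebraMap (R ⧸ p) R'))) :=
        IsOpenImmersion.of_isLocalization (Ideal.Quotient.mk p r)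
      infer_instance
    have h2 : IsPreimmersion (Spec.map (CommRingCat.ofHom inc)) :=
      MorphismProperty.of_isPullback
        (isPullback_SpecMap_of_isPushout _ _ _ _ (CommRingCat.isPushout_tensorProduct R R' P)) h1
    exact h2.isEmbedding
  have hlift : ∀ Q : PrimeSpectrum P, p ≤ Q.asIdeal.comap (algebraMap R P) → algebraMap R P r ∉ Q.asIdeal →
      ∃ c, PrimeSpectrum.comap inc c = Q := by
    intro Q hle hrQ
    let K := Q.asIdeal.ResidueField
    let φ₁ : R ⧸ p →+* K := Ideal.Quotient.lift p (algebraMap R K) fun a ha => by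
      rw [IsScalarTower.algebraMap_apply R P K]
      exact Ideal.algebraMap_residueField_eq_zero.2 (hle ha)
    have hu' : IsUnit (φ₁ (Ideal.Quotient.mk p r)) := by
      rw [Ideal.Quotient.lift_mk, isUnit_iff_ne_zero, IsScalarTower.algebraMap_apply R P K]
      exact fun h => hrQ (Ideal.algebraMap_residueField_eq_zero.1 h)
    let φ : R' →+* K := IsLocalization.Away.lift (Ideal.Quotient.mk p r) hu'
    have hφ : ∀ a, φ (algebraMap R R' a) = algebraMap R K a := fun a => by
      rw [IsScalarTower.algebraMap_apply R (R ⧸ p) R']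
      exact IsLocalization.Away.lift_eq _ hu' _
    let ψR : R' →ₐ[R] K := { φ with commutes' := hφ }
    let Ψ : C →ₐ[R] K := Algebra.TensorProduct.productMap ψR (IsScalarTower.toAlgHom R P K)
    refine ⟨PrimeSpectrum.comap Ψ.toRingHom ⊥, PrimeSpectrum.ext ?_⟩
    ext b
    show Ψ (1 ⊗ₜ b) ∈ (⊥ : Ideal K) ↔ b ∈ Q.asIdeal
    rw [Algebra.TensorProduct.productMap_apply_tmul, map_one, one_mul, Ideal.mem_bot]
    exact Ideal.algebraMap_residueField_eq_zero
  let D : TopologicalSpace.Opens ↥(Spec (CommRingCat.of P)) := PrimeSpectrum.basicOpen (algebraMap R P r)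
  let W : Set Z := i ⁻¹' (D : Set _)
  have hWo : IsOpen W := D.2.preimage i.continuous
  have hgW : genericPoint Z ∈ W := hr
  have hgen : ∀ z : Z, genericPoint Z ⤳ z := genericPoint_specializes
  have hW : ∀ z ∈ W, ∃ c, PrimeSpectrum.comap inc c = (i z : PrimeSpectrum P) := fun z hz =>
    hlift _ (Ideal.comap_mono ((PrimeSpectrum.le_iff_specializes q (i z)).2 ((hgen z).map i.continuous))) hz
  have hO : IsOpen (fibPD R' (P := C) M' (n + 1)) := isOpen_fibPD R' M' n
  have hEc : ∀ c, c ∈ fibPD R' (P := C) M' (n + 1) ↔ PrimeSpectrum.comap inc c ∈ fibPD R (P := P) M (n + 1) :=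
    fun c => Set.ext_iff.1 (fibPD_baseChange R M R' n) c
  obtain ⟨O', hO', hOO'⟩ := hemb.isInducing.isOpen_iff.1 hO
  have key : ∀ z ∈ W, ((i z : PrimeSpectrum P) ∈ fibPD R (P := P) M (n + 1) ↔ (i z : PrimeSpectrum P) ∈ O') := fun z hz => by
    obtain ⟨c, hc⟩ := hW z hz
    have h : PrimeSpectrum.comap inc c ∈ fibPD R (P := P) M (n + 1) ↔ PrimeSpectrum.comap inc c ∈ O' :=
      (hEc c).symm.trans (Set.ext_iff.1 hOO' c).symm
    exact hc ▸ h
  by_cases hq : q ∈ fibPD R (P := P) M (n + 1)
  · exact Or.inl ⟨genericPoint Z, mem_interior.2 ⟨W ∩ i ⁻¹' O', fun z hz => (key z hz.1).2 hz.2,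
      hWo.inter (hO'.preimage i.continuous), hgW, (key _ hgW).1 hq⟩⟩
  · refine Or.inr ⟨genericPoint Z, mem_interior.2 ⟨W, fun z hz hzE => hq ?_, hWo, hgW⟩⟩
    exact (key _ hgW).2 (((hgen z).map i.continuous).mem_open hO' ((key z hz).1 hzE))

theorem fibPD_congr (R : Type u) {P : Type u} [CommRing R] [CommRing P] [Algebra R P] {M N : Type u}
    [AddCommGroup M] [Module P M] [AddCommGroup N] [Module P N] (e : M ≃ₗ[P] N) (n : ℕ) :
    fibPD R (P := P) M n = fibPD R (P := P) N n := by
  ext q
  exact CommAlgDim.PDLT.congr (AlgebraTensorModule.congr (LinearEquiv.refl (FibRing R q) (FibRing R q)) e)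

/-- Over a polynomial ring, for a finitely presented module. -/
theorem isLocallyConstructible_fibPD {σ R : Type u} [Finite σ] [CommRing R] (M : Type u) [AddCommGroup M]
    [Module (MvPolynomial σ R) M] [Module.FinitePresentation (MvPolynomial σ R) M] (n : ℕ) :
    IsLocallyConstructible (fibPD R (P := MvPolynomial σ R) M (n + 1)) := by
  obtain ⟨A, M₀, _, _, _, _, hA, _, ⟨e⟩, -⟩ := FlatLib.exists_model (σ := σ) (R := R) (M := M) ∅ (by simp)
  haveI : Algebra.FiniteType ℤ A := (Subalgebra.fg_iff_finiteType _).1 hA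
  haveI : IsNoetherianRing A := Algebra.FiniteType.isNoetherianRing ℤ A
  have h := isLocallyConstructible_fibPD_noetherian A (P := MvPolynomial σ A) M₀ n
  rw [← fibPD_congr R e (n + 1), fibPD_baseChange A M₀ R n]
  exact ConsLib.isLocallyConstructible_preimage
    (Spec.map (CommRingCat.ofHom (algebraMap (MvPolynomial σ A) (MvPolynomial σ R)))) h

end DepthLib
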