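import Mathlib

/-! # The smooth locus and flat base change -/

set_option autoImplicit false
universe u

open TensorProduct

attribute [local instance] Algebra.TensorProduct.rightAlgebra

namespace DepthLib

theorem subsingleton_tensor_iff {R S : Type u} [CommRing R] [CommRing S] [Algebra R S] [Module.FaithfullyFlat R S]
    (M : Type u) [AddCommGroup M] [Module R M] : Subsingleton (S ⊗[R] M) ↔ Subsingleton M := by
  refine ⟨fun h => ?_, fun h => inferInstance⟩
  by_contra hc
  rw [not_subsingleton_iff_nontrivial] at hc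
  exact not_subsingleton (S ⊗[R] M) h

theorem free_tensor_iff {R S : Type u} [CommRing R] [IsLocalRing R] [CommRing S] [Algebra R S]
    [Module.FaithfullyFlat R S] (M : Type u) [AddCommGroup M] [Module R M] [Module.Finite R M]
    [IsLocalRing S] : Module.Free S (S ⊗[R] M) ↔ Module.Free R M := by
  refine ⟨fun h => ?_, fun h => inferInstance⟩
  haveI : Module.Flat R M := Module.Flat.of_flat_tensorProduct R M S
  exact Module.free_of_flat_of_isLocalRing

variable (R A T : Type u) [CommRing R] [CommRing A] [Algebra R A] [CommRing T] [Algebra R T] [Module.Flat R T]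

/-- The first cotangent homology commutes with flat base change. -/
theorem nonempty_h1Cotangent_baseChange :
    Nonempty ((T ⊗[R] A) ⊗[A] Algebra.H1Cotangent R A ≃ₗ[T ⊗[R] A] Algebra.H1Cotangent T (T ⊗[R] A)) := by
  let g : Algebra.H1Cotangent R A →ₗ[A] Algebra.H1Cotangent T (T ⊗[R] A) := Algebra.H1Cotangent.map R T A (T ⊗[R] A)
  let φ := g.liftBaseChange (T ⊗[R] A)
  let c : T ⊗[R] Algebra.H1Cotangent R A →ₗ[R] (T ⊗[R] A) ⊗[A] Algebra.H1Cotangent R A :=
    TensorProduct.lift
      { toFun := fun t =>
          ((TensorProduct.mk A (T ⊗[R] A) (Algebra.H1Cotangent R A)) (t ⊗ₜ[R] (1 : A))).restrictScalars R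
        map_add' := fun s t => by ext x; simp [add_tmul]
        map_smul' := fun r t => by
          ext x
          show ((r • t) ⊗ₜ[R] (1 : A)) ⊗ₜ[A] x = r • ((t ⊗ₜ[R] (1 : A)) ⊗ₜ[A] x)
          rw [TensorProduct.smul_tmul' r (t ⊗ₜ[R] (1 : A)) x, TensorProduct.smul_tmul' r t] }
  have hcs : Function.Surjective c := fun z => by
    induction z with
    | zero => exact ⟨0, map_zero c⟩
    | add x y hx hy =>
      obtain ⟨a, rfl⟩ := hx
      obtain ⟨b, rfl⟩ := hy
      exact ⟨a + b, map_add c a b⟩
    | tmul y x =>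
      induction y with
      | zero => exact ⟨0, by simp⟩
      | add u v hu hv =>
        obtain ⟨a, ha⟩ := hu
        obtain ⟨b, hb⟩ := hv
        exact ⟨a + b, by rw [map_add, ha, hb, add_tmul]⟩
      | tmul t a =>
        refine ⟨t ⊗ₜ (a • x), ?_⟩
        show (t ⊗ₜ[R] (1 : A)) ⊗ₜ[A] (a • x) = (t ⊗ₜ[R] a) ⊗ₜ[A] x
        rw [← smul_tmul]
        congr 1
        rw [Algebra.smul_def]
        show ((1 : T) ⊗ₜ[R] a) * (t ⊗ₜ[R] (1 : A)) = t ⊗ₜ[R] a
        rw [Algebra.TensorProduct.tmul_mul_tmul, one_mul, mul_one]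
  have hc : ∀ z, φ (c z) = Algebra.tensorH1CotangentOfFlat R A T z := fun z => by
    induction z with
    | zero => simp
    | add x y hx hy => rw [map_add, map_add, hx, hy, map_add]
    | tmul t x =>
      rw [Algebra.tensorH1CotangentOfFlat_tmul]
      show φ ((t ⊗ₜ[R] (1 : A)) ⊗ₜ[A] x) = _
      rw [LinearMap.liftBaseChange_tmul, show (t ⊗ₜ[R] (1 : A)) = algebraMap T (T ⊗[R] A) t from rfl, algebraMap_smul]
  refine ⟨LinearEquiv.ofBijective φ ⟨fun a b hab => ?_, fun z => ?_⟩⟩
  · obtain ⟨a, rfl⟩ := hcs a
    obtain ⟨b, rfl⟩ := hcs b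
    rw [hc, hc] at hab
    rw [(Algebra.tensorH1CotangentOfFlat R A T).injective hab]
  · obtain ⟨w, rfl⟩ := (Algebra.tensorH1CotangentOfFlat R A T).surjective z
    exact ⟨c w, hc w⟩

/-- The smooth locus commutes with flat base change. -/
theorem smoothLocus_baseChange [Algebra.FinitePresentation R A] :
    Algebra.smoothLocus T (T ⊗[R] A) =
      PrimeSpectrum.comap (algebraMap A (T ⊗[R] A)) ⁻¹' Algebra.smoothLocus R A := by
  haveI : Module.Flat A (T ⊗[R] A) := by
    haveI : Module.Flat A (A ⊗[R] T) := inferInstance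
    let e : (A ⊗[R] T) ≃ₗ[A] T ⊗[R] A :=
      { (Algebra.TensorProduct.comm R A T).toAddEquiv with
        map_smul' := fun a z => by
          show Algebra.TensorProduct.comm R A T (a • z) = (1 ⊗ₜ a) * Algebra.TensorProduct.comm R A T z
          rw [Algebra.smul_def, map_mul]
          rfl }
    exact Module.Flat.of_linearEquiv e.symm
  haveI : Algebra.IsPushout R T A (T ⊗[R] A) := inferInstance
  rw [Algebra.smoothLocus_eq_compl_support_inter, Algebra.smoothLocus_eq_compl_support_inter]
  ext q'
  let B := T ⊗[R] A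
  let q := PrimeSpectrum.comap (algebraMap A B) q'
  let L := Localization.AtPrime q.asIdeal
  let L' := Localization.AtPrime q'.asIdeal
  letI : Algebra L L' := (Localization.localRingHom q.asIdeal q'.asIdeal (algebraMap A B) rfl).toAlgebra
  haveI : IsScalarTower A L L' := IsScalarTower.of_algebraMap_eq fun x => by
    show _ = Localization.localRingHom q.asIdeal q'.asIdeal (algebraMap A B) rfl (algebraMap A L x)
    rw [Localization.localRingHom_to_map, IsScalarTower.algebraMap_apply A B L']
  haveI : Module.Flat A L' := Module.Flat.trans A B L'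
  haveI : Module.Flat L L' := (Module.flat_iff_of_isLocalization L q.asIdeal.primeCompl L').2 inferInstance
  haveI : IsLocalHom (algebraMap L L') :=
    Localization.isLocalHom_localRingHom q.asIdeal q'.asIdeal (algebraMap A B) rfl
  haveI : Module.FaithfullyFlat L L' := Module.FaithfullyFlat.of_flat_of_isLocalHom
  obtain ⟨eH⟩ := nonempty_h1Cotangent_baseChange R A T
  let eΩ : B ⊗[A] Ω[A⁄R] ≃ₗ[B] Ω[B⁄T] := KaehlerDifferential.tensorKaehlerEquiv R T A B
  simp only [Set.mem_inter_iff, Set.mem_compl_iff, Set.mem_preimage]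
  refine and_congr ?_ ?_
  · rw [Module.notMem_support_iff, Module.notMem_support_iff,
      (LocalizedModule.equivTensorProduct q'.asIdeal.primeCompl (Algebra.H1Cotangent T B)).toEquiv.subsingleton_congr,
      (LocalizedModule.equivTensorProduct q.asIdeal.primeCompl (Algebra.H1Cotangent R A)).toEquiv.subsingleton_congr,
      ← subsingleton_tensor_iff (R := L) (S := L') (L ⊗[A] Algebra.H1Cotangent R A)]
    exact ((AlgebraTensorModule.congr (LinearEquiv.refl L' L') eH.symm).trans
      ((AlgebraTensorModule.cancelBaseChange A B L' L' _).trans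
        (AlgebraTensorModule.cancelBaseChange A L L' L' _).symm)).toEquiv.subsingleton_congr
  · rw [Module.mem_freeLocus_iff_tensor q' L', Module.mem_freeLocus_iff_tensor q L,
      ← free_tensor_iff (R := L) (S := L') (L ⊗[A] Ω[A⁄R])]
    let e := (AlgebraTensorModule.congr (LinearEquiv.refl L' L') eΩ.symm).trans
      ((AlgebraTensorModule.cancelBaseChange A B L' L' _).trans
        (AlgebraTensorModule.cancelBaseChange A L L' L' _).symm)
    exact ⟨fun h => Module.Free.of_equiv e, fun h => Module.Free.of_equiv e.symm⟩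

end DepthLib
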