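import Groth.Agent.DepthLib.SmoothBC
import Mathlib

/-! # Points where the fibres are smooth -/

set_option autoImplicit false
universe u

open TensorProduct

namespace DepthLib

/-- The primes at which the fibre is smooth over the residue field. -/
def fibSmooth (R B : Type u) [CommRing R] [CommRing B] [Algebra R B] : Set (PrimeSpectrum B) :=
  {q | ∀ c : PrimeSpectrum ((q.asIdeal.comap (algebraMap R B)).Fiber B),
    c.asIdeal.comap (Algebra.TensorProduct.includeRight : B →ₐ[R] (q.asIdeal.comap (algebraMap R B)).Fiber B).toRingHom =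
      q.asIdeal → c ∈ Algebra.smoothLocus (q.asIdeal.comap (algebraMap R B)).ResidueField _}

theorem smoothLocus_congr {R A A' : Type u} [CommRing R] [CommRing A] [CommRing A'] [Algebra R A] [Algebra R A']
    (e : A ≃ₐ[R] A') (c : PrimeSpectrum A') :
    c ∈ Algebra.smoothLocus R A' ↔ PrimeSpectrum.comap e.toRingEquiv.toRingHom c ∈ Algebra.smoothLocus R A := by
  set q := PrimeSpectrum.comap e.toRingEquiv.toRingHom c with hq
  let ε : Localization.AtPrime q.asIdeal ≃+* Localization.AtPrime c.asIdeal :=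
    IsLocalization.ringEquivOfRingEquiv _ _ e.toRingEquiv (M := q.asIdeal.primeCompl) (T := c.asIdeal.primeCompl)
      (by
        ext x
        constructor
        · rintro ⟨y, hy, rfl⟩; exact hy
        · intro hx
          exact ⟨e.symm x, fun h => hx (by simpa [q] using h), e.apply_symm_apply x⟩)
  let εa : Localization.AtPrime q.asIdeal ≃ₐ[R] Localization.AtPrime c.asIdeal :=
    { ε with
      commutes' := fun r => by
        show ε (algebraMap R _ r) = _
        rw [IsScalarTower.algebraMap_apply R A (Localization.AtPrime q.asIdeal)]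
        show ε (algebraMap A _ (algebraMap R A r)) = _
        rw [IsLocalization.ringEquivOfRingEquiv_eq, IsScalarTower.algebraMap_apply R A' (Localization.AtPrime c.asIdeal)]
        exact congrArg _ (e.commutes r) }
  show Algebra.FormallySmooth R (Localization.AtPrime c.asIdeal) ↔ Algebra.FormallySmooth R (Localization.AtPrime q.asIdeal)
  exact ⟨fun _ => Algebra.FormallySmooth.of_equiv εa.symm, fun _ => Algebra.FormallySmooth.of_equiv εa⟩

variable {R B : Type u} [CommRing R] [CommRing B] [Algebra R B]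

/-- Membership can be tested after any field extension. -/
theorem mem_fibSmooth_iff [Algebra.FinitePresentation R B] (K : Type u) [Field K] [Algebra R K]
    (c : PrimeSpectrum (K ⊗[R] B)) (q : PrimeSpectrum B)
    (hc : c.asIdeal.comap (Algebra.TensorProduct.includeRight : B →ₐ[R] K ⊗[R] B).toRingHom = q.asIdeal) :
    c ∈ Algebra.smoothLocus K (K ⊗[R] B) ↔ q ∈ fibSmooth R B := by
  set p := q.asIdeal.comap (algebraMap R B) with hp
  have hpK : p = RingHom.ker (algebraMap R K) := by
    ext r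
    rw [hp, ← hc, Ideal.mem_comap, Ideal.mem_comap, RingHom.mem_ker]
    show (Algebra.TensorProduct.includeRight : B →ₐ[R] K ⊗[R] B) (algebraMap R B r) ∈ c.asIdeal ↔ _
    rw [AlgHom.commutes, IsScalarTower.algebraMap_apply R K (K ⊗[R] B)]
    refine ⟨fun h => by_contra fun hne => c.isPrime.ne_top (Ideal.eq_top_of_isUnit_mem _ h ((Ne.isUnit hne).map _)),
      fun h => by rw [h, map_zero]; exact Ideal.zero_mem _⟩
  let ψ : p.ResidueField →+* K := Ideal.ResidueField.lift p (algebraMap R K) hpK.le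
    (fun r hr => Ne.isUnit fun h0 => hr (hpK ▸ h0))
  letI := ψ.toAlgebra
  haveI : IsScalarTower R p.ResidueField K := IsScalarTower.of_algebraMap_eq fun r => by
    show _ = ψ (algebraMap R p.ResidueField r)
    exact (Ideal.ResidueField.lift_algebraMap ..).symm
  letI : Algebra (p.Fiber B) (K ⊗[p.ResidueField] (p.Fiber B)) := Algebra.TensorProduct.rightAlgebra
  let e : K ⊗[p.ResidueField] (p.Fiber B) ≃ₐ[K] K ⊗[R] B :=
    Algebra.TensorProduct.cancelBaseChange R p.ResidueField K K B
  let c₁ : PrimeSpectrum (K ⊗[p.ResidueField] (p.Fiber B)) := ⟨c.asIdeal.comap e.toRingEquiv.toRingHom, inferInstance⟩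
  let c₀ : PrimeSpectrum (p.Fiber B) := PrimeSpectrum.comap (algebraMap _ _) c₁
  have hc₀ : c₀.asIdeal.comap (Algebra.TensorProduct.includeRight : B →ₐ[R] p.Fiber B).toRingHom = q.asIdeal := by
    refine Eq.trans ?_ hc
    ext b
    show e ((1 : K) ⊗ₜ ((1 : p.ResidueField) ⊗ₜ b)) ∈ c.asIdeal ↔ (1 : K) ⊗ₜ[R] b ∈ c.asIdeal
    rw [Algebra.TensorProduct.cancelBaseChange_tmul, one_smul]
  have key : c ∈ Algebra.smoothLocus K (K ⊗[R] B) ↔ c₀ ∈ Algebra.smoothLocus p.ResidueField (p.Fiber B) := by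
    refine (@smoothLocus_congr K (K ⊗[p.ResidueField] (p.Fiber B)) (K ⊗[R] B) _ _ _ _ _ e c).trans ?_
    rw [smoothLocus_baseChange p.ResidueField (p.Fiber B) K]
    rfl
  rw [key]
  refine ⟨fun h c' hc' => ?_, fun h => h c₀ hc₀⟩
  obtain rfl : c' = c₀ := by
    refine (PrimeSpectrum.preimageHomeomorphFiber R B ⟨p, inferInstance⟩).symm.injective ?_
    exact Subtype.ext (PrimeSpectrum.ext (hc'.trans hc₀.symm))
  exact h

theorem fibSmooth_baseChange (R B R' : Type u) [CommRing R] [CommRing B] [Algebra R B] [CommRing R'] [Algebra R R']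
    [Algebra.FinitePresentation R B] :
    fibSmooth R' (R' ⊗[R] B) = PrimeSpectrum.comap
      (Algebra.TensorProduct.includeRight : B →ₐ[R] R' ⊗[R] B).toRingHom ⁻¹' fibSmooth R B := by
  ext q'
  let p' := q'.asIdeal.comap (algebraMap R' (R' ⊗[R] B))
  let K := p'.ResidueField
  let E := PrimeSpectrum.preimageHomeomorphFiber R' (R' ⊗[R] B) ⟨p', inferInstance⟩
  let c' : PrimeSpectrum (p'.Fiber (R' ⊗[R] B)) := E ⟨q', rfl⟩
  have hc' : c'.asIdeal.comap (Algebra.TensorProduct.includeRight :
      (R' ⊗[R] B) →ₐ[R'] p'.Fiber (R' ⊗[R] B)).toRingHom = q'.asIdeal :=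
    congrArg (fun z ↦ z.1.asIdeal) (E.symm_apply_apply ⟨q', rfl⟩)
  let e : K ⊗[R'] (R' ⊗[R] B) ≃ₐ[K] K ⊗[R] B := Algebra.TensorProduct.cancelBaseChange R R' K K B
  let c := PrimeSpectrum.comap e.symm.toRingEquiv.toRingHom c'
  have hc : c.asIdeal.comap (Algebra.TensorProduct.includeRight : B →ₐ[R] K ⊗[R] B).toRingHom =
      (PrimeSpectrum.comap (Algebra.TensorProduct.includeRight : B →ₐ[R] R' ⊗[R] B).toRingHom q').asIdeal := by
    refine Eq.trans ?_ (congrArg (Ideal.comap
      (Algebra.TensorProduct.includeRight : B →ₐ[R] R' ⊗[R] B).toRingHom) hc')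
    rw [PrimeSpectrum.comap_asIdeal, Ideal.comap_comap, Ideal.comap_comap]
    congr 1
  show q' ∈ fibSmooth R' (R' ⊗[R] B) ↔ _
  rw [← mem_fibSmooth_iff K c' q' hc', Set.mem_preimage, ← mem_fibSmooth_iff K c _ hc, smoothLocus_congr e.symm c']

theorem fibSmooth_congr {R B C : Type u} [CommRing R] [CommRing B] [Algebra R B] [CommRing C] [Algebra R C]
    [Algebra.FinitePresentation R B] [Algebra.FinitePresentation R C]
    (e : B ≃ₐ[R] C) : fibSmooth R C = PrimeSpectrum.comap e.toRingEquiv.toRingHom ⁻¹' fibSmooth R B := by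
  ext q'
  let p' := q'.asIdeal.comap (algebraMap R C)
  let K := p'.ResidueField
  let E := PrimeSpectrum.preimageHomeomorphFiber R C ⟨p', inferInstance⟩
  let c' : PrimeSpectrum (p'.Fiber C) := E ⟨q', rfl⟩
  have hc' : c'.asIdeal.comap (Algebra.TensorProduct.includeRight : C →ₐ[R] p'.Fiber C).toRingHom = q'.asIdeal :=
    congrArg (fun z ↦ z.1.asIdeal) (E.symm_apply_apply ⟨q', rfl⟩)
  let e' : K ⊗[R] B ≃ₐ[K] K ⊗[R] C := Algebra.TensorProduct.congr AlgEquiv.refl e
  let c := PrimeSpectrum.comap e'.toRingEquiv.toRingHom c'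
  have hc : c.asIdeal.comap (Algebra.TensorProduct.includeRight : B →ₐ[R] K ⊗[R] B).toRingHom =
      (PrimeSpectrum.comap e.toRingEquiv.toRingHom q').asIdeal := by
    refine Eq.trans ?_ (congrArg (Ideal.comap e.toRingEquiv.toRingHom) hc')
    rw [PrimeSpectrum.comap_asIdeal, Ideal.comap_comap, Ideal.comap_comap]
    congr 1
  show q' ∈ fibSmooth R C ↔ _
  rw [← mem_fibSmooth_iff K c' q' hc', Set.mem_preimage, ← mem_fibSmooth_iff K c _ hc, smoothLocus_congr e' c']

end DepthLib
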